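import Cfsg.Agent.Three68.RadicalA

/-!
# No element of order twice an odd prime
-/

set_option autoImplicit false
set_option linter.style.haveILetI false

namespace Cfsg.Agent.Three68

open Subgroup PGraphCIT

universe u

theorem SocleList.congr {A B : Type u} [Group A] [Group B] (f : B ≃* A) (h : SocleList A) :
    SocleList B := by
  rcases h with ⟨F, iF, iT, n, hn, hF, ⟨e⟩⟩ | ⟨F, iF, iT, hF, ⟨e⟩⟩ | ⟨F, iF, iT, hF, ⟨e⟩⟩ |
      ⟨F, iF, iT, m, hm, hF, ⟨e⟩⟩
  · exact Or.inl ⟨F, iF, iT, n, hn, hF, ⟨f.trans e⟩⟩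
  · exact Or.inr (Or.inl ⟨F, iF, iT, hF, ⟨f.trans e⟩⟩)
  · exact Or.inr (Or.inr (Or.inl ⟨F, iF, iT, hF, ⟨f.trans e⟩⟩))
  · exact Or.inr (Or.inr (Or.inr ⟨F, iF, iT, m, hm, hF, ⟨f.trans e⟩⟩))

/-- Modulo the largest normal `2`-subgroup the group is simple, and listed. -/
theorem quotient_list {G : Type u} [Group G] [Finite G] (hns : ¬ Group.IsSolvable G)
    (hcit : IsCIT G) (hexp : ∀ x : G, 2 ∣ orderOf x → orderOf x = 2 ∨ orderOf x = 4) :
    SocleList (G ⧸ Cfsg.pCore 2 G) := by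
  haveI : Fact (Nat.Prime 2) := ⟨Nat.prime_two⟩
  set R := Cfsg.pCore 2 G
  have hR : IsPGroup 2 R := Thompson.isPGroup_pCore
  have hns' : ¬ Group.IsSolvable (G ⧸ R) := fun hs => by
    haveI := hR.isNilpotent
    exact hns (Group.isSolvable_of_ker_le_range R.subtype (QuotientGroup.mk' R)
      (by rw [range_subtype, QuotientGroup.ker_mk']))
  have hcit' : IsCIT (G ⧸ R) := hcit.quotient R hR
  have hexp' : ∀ x : G ⧸ R, 2 ∣ orderOf x → orderOf x = 2 ∨ orderOf x = 4 := by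
    intro x hx
    obtain ⟨g, hg⟩ :=
      Recog71.exists_orderOf_of_hom_surjective (QuotientGroup.mk'_surjective R) x
    exact hg ▸ hexp g (hg ▸ hx)
  obtain ⟨N, hNn, hNs, hNab, hC⟩ := hcit'.exists_simple hns' pCore_quotient_eq_bot
  haveI := hNn
  haveI := hNs
  have hlist : SocleList N := socle_list hNab (hcit'.subgroup N) fun x hx => by
    rw [← Subgroup.orderOf_coe] at hx ⊢
    exact hexp' x hx
  obtain rfl := almost_top hcit' hexp' N hNab hC hlist
  exact hlist.congr topEquiv.symm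

end Cfsg.Agent.Three68
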