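import Cfsg.Agent.Three68.Global
import Cfsg.Agent.PGraphCIT.Main

/-!
# The socle is the whole group
-/

set_option autoImplicit false
set_option linter.style.haveILetI false

namespace Cfsg.Agent.Three68

open Subgroup

universe u

variable {G : Type u} [Group G] [Finite G] {q : ℕ}

/-- The image of a subgroup of a normal subgroup is normalized by its normalizer. -/
theorem mem_nT_iff (N : Subgroup G) (T : Subgroup N) (n : N) :
    n ∈ normalizer (T : Set N) ↔ (n : G) ∈ normalizer ((T.map N.subtype : Subgroup G) : Set G) := by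
  constructor
  · intro hn
    refine mem_normalizer_iff_map_conj_eq.2 (eq_of_le_of_card_ge ?_ ?_)
    · rintro _ ⟨_, ⟨t, ht, rfl⟩, rfl⟩
      exact ⟨_, (mem_normalizer_iff.1 hn t).1 ht, rfl⟩
    · exact (card_map_of_injective (f := (MulAut.conj (n : G)).toMonoidHom)
        (MulAut.conj (n : G)).injective).ge
  · intro hn
    refine mem_normalizer_iff_map_conj_eq.2 (eq_of_le_of_card_ge ?_ ?_)
    · rintro _ ⟨t, ht, rfl⟩
      obtain ⟨t', ht', e⟩ := (mem_normalizer_iff.1 hn (t : G)).1 ⟨t, ht, rfl⟩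
      have e' : n * t * n⁻¹ = t' := Subtype.ext e.symm
      show n * t * n⁻¹ ∈ T
      rw [e']; exact ht'
    · exact (card_map_of_injective (f := (MulAut.conj n).toMonoidHom) (MulAut.conj n).injective).ge

/-- Commutators with an element centralizing `T'` stay in `N`. -/
theorem commutator_mem (N : Subgroup G) [N.Normal] {a s : G} (ha : a ∈ N) :
    a * s * a⁻¹ * s⁻¹ ∈ N := by
  rw [show a * s * a⁻¹ * s⁻¹ = a * (s * a⁻¹ * s⁻¹) by group]
  exact mul_mem ha ((inferInstance : N.Normal).conj_mem _ (inv_mem ha) s)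

/-- An element acting fixed-point-freely on `T'` centralizes a translate of an involution
centralizing `T'`. -/
theorem exists_fixed_translate (T' : Subgroup G) (hcomm : ∀ x ∈ T', ∀ y ∈ T', Commute x y)
    (hsq : ∀ x ∈ T', x ^ 2 = 1) {a s : G} (haT : a ∈ normalizer (T' : Set G))
    (hfix : ∀ w ∈ T', Commute a w → w = 1) (hs : ∀ w ∈ T', Commute s w) (hs2 : s ^ 2 = 1)
    (hv : a * s * a⁻¹ * s⁻¹ ∈ T') :
    ∃ w ∈ T', Commute a (s * w) ∧ (s * w) ^ 2 = 1 ∧ ∀ z ∈ T', Commute (s * w) z := by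
  classical
  let f : T' → T' := fun w => ⟨a * w * a⁻¹ * (w : G)⁻¹,
    mul_mem ((mem_normalizer_iff.1 haT w).1 w.2) (inv_mem w.2)⟩
  have hf : Function.Injective f := by
    rintro ⟨x, hx⟩ ⟨z, hz⟩ e
    have e' : a * x * a⁻¹ * x⁻¹ = a * z * a⁻¹ * z⁻¹ := congrArg Subtype.val e
    have hc : Commute a (z⁻¹ * x) := by
      refine mul_inv_eq_iff_eq_mul.1 ?_
      have hzx : Commute (a * z⁻¹ * a⁻¹) z⁻¹ := hcomm _
        ((mem_normalizer_iff.1 haT _).1 (inv_mem hz)) _ (inv_mem hz)
      calc a * (z⁻¹ * x) * a⁻¹ = (a * z⁻¹ * a⁻¹) * (a * x * a⁻¹ * x⁻¹) * x := by group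
        _ = (a * z⁻¹ * a⁻¹) * (a * z * a⁻¹ * z⁻¹) * x := by rw [e']
        _ = z⁻¹ * x := by group
    exact Subtype.ext (inv_mul_eq_one.1 (hfix _ (mul_mem (inv_mem hz) hx) hc)).symm
  obtain ⟨⟨w, hw⟩, hwe⟩ := (Finite.injective_iff_surjective.1 hf) ⟨_, hv⟩
  have hwe' : a * w * a⁻¹ * w⁻¹ = a * s * a⁻¹ * s⁻¹ := congrArg Subtype.val hwe
  have hwi : w⁻¹ = w := inv_eq_of_mul_eq_one_right (by rw [← sq]; exact hsq w hw)
  have hsi : s⁻¹ = s := inv_eq_of_mul_eq_one_right (by rw [← sq]; exact hs2)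
  refine ⟨w, hw, mul_inv_eq_iff_eq_mul.1 ?_, ?_, fun z hz => (hs z hz).mul_left (hcomm w hw z hz)⟩
  · have hA : a * w * a⁻¹ ∈ T' := (mem_normalizer_iff.1 haT w).1 hw
    calc a * (s * w) * a⁻¹ = (a * s * a⁻¹ * s⁻¹) * (s * (a * w * a⁻¹)) := by group
      _ = (a * w * a⁻¹ * w⁻¹) * ((a * w * a⁻¹) * s) := by rw [hwe', (hs _ hA).eq]
      _ = (a * w * a⁻¹) * (w⁻¹ * (a * w * a⁻¹)) * s := by group
      _ = (a * w * a⁻¹) * ((a * w * a⁻¹) * w⁻¹) * s := by
        rw [(hcomm _ (inv_mem hw) _ hA).eq]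
      _ = (a * w * a⁻¹) ^ 2 * w * s := by rw [hwi, sq]; group
      _ = s * w := by rw [hsq _ hA, one_mul, (hs w hw).eq]
  · rw [(hs w hw).mul_pow, hs2, hsq w hw, one_mul]

/-- The simple socle having elements of order `2 * q` is the whole group. -/
theorem socle_eq_top (h : EdgeB G q) (N : Subgroup G) [N.Normal] [IsSimpleGroup N]
    (hN : ¬ IsMulCommutative N) (hC : centralizer (N : Set G) = ⊥)
    (hedge : ∃ x : N, orderOf x = 2 * q) : N = ⊤ := by
  classical
  haveI : Fact (Nat.Prime 2) := ⟨Nat.prime_two⟩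
  have hN' := h.subgroup N
  have hnsN : ¬ Group.IsSolvable N := fun hs => hN
    ⟨⟨fun a b => IsSimpleGroup.comm_iff_isSolvable.2 hs a b⟩⟩
  have hev : 2 ∣ Nat.card N := by
    by_contra hc
    exact hnsN (PF14.feitThompson.{u} N (Nat.odd_iff.2 (Nat.two_dvd_ne_zero.1 hc)))
  obtain ⟨T⟩ : Nonempty (Sylow 2 N) := inferInstance
  have hT4 := (simple_edge hN' hN T hedge).1
  set T' := (T : Subgroup N).map N.subtype with hT'
  have hT'p : IsPGroup 2 T' := T.2.map _
  have hT'sq : ∀ x ∈ T', x ^ 2 = 1 := h.two_group_sq hT'p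
  have hT'comm : ∀ x ∈ T', ∀ y ∈ T', Commute x y := fun x hx y hy => commute_of_sq hT'sq hx hy
  have memT : ∀ {t : N}, (t : G) ∈ T' ↔ t ∈ (T : Subgroup N) := fun {t} =>
    mem_map_iff_mem N.subtype_injective
  have hT'c : Nat.card T' = 4 := (card_map_of_injective N.subtype_injective).trans hT4
  -- no element of odd order centralizes `T'`
  have hY : ∀ y ∈ centralizer (T' : Set G), Odd (orderOf y) → y = 1 := by
    intro y hy hyodd
    set X := N ⊔ zpowers y with hX
    have hNX : N ≤ X := le_sup_left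
    have htwo : ∀ x ∈ X, ∀ k : ℕ, x ^ 2 ^ k = 1 → x ∈ N := by
      intro x hx k hk
      obtain ⟨n, hn, z, hz, rfl⟩ := mem_sup_of_normal_left.1 hx
      obtain ⟨i, rfl⟩ := mem_zpowers_iff.1 hz
      rw [← QuotientGroup.eq_one_iff]
      set π := QuotientGroup.mk' N
      show π (n * y ^ i) = 1
      have h1 : π (n * y ^ i) = π y ^ i := by
        rw [map_mul, map_zpow, show π n = 1 from (QuotientGroup.eq_one_iff n).2 hn, one_mul]
      have h2 : π (n * y ^ i) ^ orderOf y = 1 := by
        rw [h1, ← zpow_natCast (π y ^ i), zpow_comm, zpow_natCast, ← map_pow, pow_orderOf_eq_one,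
          map_one, one_zpow]
      have h3 : π (n * y ^ i) ^ 2 ^ k = 1 := by rw [← map_pow, hk, map_one]
      exact orderOf_eq_one_iff.1 (Nat.eq_one_of_dvd_coprimes
        ((Nat.coprime_two_left.2 hyodd).pow_left k) (orderOf_dvd_iff_pow_eq_one.2 h3)
        (orderOf_dvd_iff_pow_eq_one.2 h2))
    have hle : T' ≤ X := (map_subtype_le _).trans hNX
    have hp : IsPGroup 2 (T'.subgroupOf X) := hT'p.of_equiv (subgroupOfEquivOfLe hle).symm
    obtain ⟨P, hP⟩ := hp.exists_le_sylow
    have hPeq : ∀ x : X, x ∈ (P : Subgroup X) → (x : G) ∈ T' := by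
      intro x hx
      obtain ⟨k, hk⟩ := P.2 ⟨x, hx⟩
      have hxN : (x : G) ∈ N := htwo x x.2 k
        (congrArg (fun z : (P : Subgroup X) => ((z : X) : G)) hk)
      have hp1 : IsPGroup 2 (((P : Subgroup X).map X.subtype ⊓ N).subgroupOf N) :=
        ((P.2.map X.subtype).to_le inf_le_left).of_equiv (subgroupOfEquivOfLe inf_le_right).symm
      have h2 := T.3 hp1 fun t ht => mem_subgroupOf.2
        ⟨⟨⟨(t : G), hNX t.2⟩, hP (mem_subgroupOf.2 (memT.2 ht)), rfl⟩, t.2⟩
      exact memT.2 (h2 ▸ mem_subgroupOf.2 ⟨⟨x, hx, rfl⟩, hxN⟩ : (⟨x, hxN⟩ : N) ∈ (T : Subgroup N))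
    have hPc : Nat.card (P : Subgroup X) = 4 := by
      rw [← hT'c, ← Nat.card_congr (subgroupOfEquivOfLe hle).toEquiv]
      exact congrArg (fun K : Subgroup X => Nat.card K)
        (le_antisymm (fun x hx => mem_subgroupOf.2 (hPeq x hx)) hP)
    have hnsX : ¬ Group.IsSolvable X := fun hs => hnsN (Coprime.solvable_of_le hNX hs)
    rcases rank_two (h.subgroup X) P hPc hnsX with hl | ⟨hr, -, -⟩
    · exfalso
      refine not_cent hN' hN T (by rw [hT4]) hedge fun t ht ht1 c hc => ?_
      have htP : (⟨(t : G), hNX t.2⟩ : X) ∈ (P : Subgroup X) := hP (mem_subgroupOf.2 (memT.2 ht))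
      have hcX := hl _ htP (fun e => ht1 (Subtype.ext (congrArg Subtype.val e :)))
        (show (⟨(c : G), hNX c.2⟩ : X) ∈ centralizer ({⟨(t : G), hNX t.2⟩} : Set X) from
          mem_centralizer_singleton_iff.2 (Subtype.ext (congrArg Subtype.val
            (mem_centralizer_singleton_iff.1 hc) :)))
      refine mem_normalizer_iff_map_conj_eq.2 (eq_of_le_of_card_ge ?_
        (card_map_of_injective (f := (MulAut.conj c).toMonoidHom) (MulAut.conj c).injective).ge)
      rintro _ ⟨t', ht', rfl⟩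
      have h1 := hPeq _ ((mem_normalizer_iff.1 hcX ⟨(t' : G), hNX t'.2⟩).1
        (hP (mem_subgroupOf.2 (memT.2 ht'))))
      exact memT.1 h1
    · have hyX : y ∈ X := mem_sup_right (mem_zpowers y)
      have h1 := hr ⟨y, hyX⟩ (mem_centralizer_iff.2 fun s hs => Subtype.ext
        (mem_centralizer_iff.1 hy _ (hPeq s hs))) (by rw [← Subgroup.orderOf_coe]; exact hyodd)
      exact congrArg Subtype.val h1
  haveI : Nontrivial T' := Finite.one_lt_card_iff_nontrivial.1 (by omega)
  obtain ⟨⟨v₀, hv₀⟩, hv₀1'⟩ := exists_ne (1 : T')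
  have hv₀1 : v₀ ≠ 1 := fun e => hv₀1' (Subtype.ext e)
  have hv₀o : orderOf v₀ = 2 := orderOf_two (hT'sq v₀ hv₀) hv₀1
  have hC2 : ∀ c ∈ centralizer (T' : Set G), c ^ 2 = 1 := by
    intro c hc
    obtain ⟨h1, h2, h3⟩ := pow_two_q_split h.prime h.odd
      (h.commute_involution hv₀o (mem_centralizer_iff.1 hc v₀ hv₀))
    have h4 : c ^ (q + 1) = 1 :=
      hY _ (pow_mem hc _) (h.odd.of_dvd_nat (orderOf_dvd_iff_pow_eq_one.2 h2))
    rw [← h3, h4, mul_one]
    exact h1
  have hsup : ∀ m ∈ normalizer (T' : Set G), m ^ 2 = 1 → m ∈ centralizer (T' : Set G) := by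
    intro m hm hm2
    have hp : IsPGroup 2 (T' ⊔ zpowers m : Subgroup G) := by
      refine hT'p.to_sup_of_normal_left' ?_ (zpowers_le.2 hm)
      obtain ⟨k, -, hk⟩ := (Nat.dvd_prime_pow Nat.prime_two).1
        (show orderOf m ∣ 2 ^ 1 by rw [pow_one]; exact orderOf_dvd_iff_pow_eq_one.2 hm2)
      exact IsPGroup.of_card (n := k) (by rw [Nat.card_zpowers, hk])
    exact mem_centralizer_iff.2 fun x hx =>
      (commute_of_sq (h.two_group_sq hp) (mem_sup_left hx) (mem_sup_right (mem_zpowers m))).eq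
  obtain ⟨a, -, hao, haS, hafix⟩ := hN'.exists_three T hT4 le_top fun hT =>
    hnsN (Group.isSolvable_of_surjective (f := (⊤ : Subgroup N).subtype)
      fun g => ⟨⟨g, mem_top g⟩, rfl⟩)
  have haT' : (a : G) ∈ normalizer (T' : Set G) := (mem_nT_iff N _ a).1 haS
  have hafix' : ∀ w ∈ T', Commute (a : G) w → w = 1 := by
    rintro _ ⟨t, ht, rfl⟩ hc
    rw [hafix t ht (Subtype.ext hc.eq)]; rfl
  have ha3 : (a : G) ^ 3 = 1 := by
    rw [← hao, ← Subgroup.orderOf_coe]; exact pow_orderOf_eq_one _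
  -- the automizer is generated by `a`
  have hdec : ∀ n ∈ normalizer (T' : Set G),
      ∃ i : ℕ, ((a : G) ^ i)⁻¹ * n ∈ centralizer (T' : Set G) := by
    intro n hn
    set f : ℕ → G := fun i => (a : G) ^ i * v₀ * ((a : G) ^ i)⁻¹ with hf
    have hfT : ∀ i, f i ∈ T' := fun i => (mem_normalizer_iff.1 (pow_mem haT' i) v₀).1 hv₀
    have hf1 : ∀ i, f i ≠ 1 := fun i e => hv₀1 (conj_eq_one_iff.1 e)
    have hf01 : f 0 ≠ f 1 := fun e => hv₀1 (hafix' v₀ hv₀ (mul_inv_eq_iff_eq_mul.1
      (by simpa [hf] using e.symm)))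
    have hf12 : f 1 ≠ f 2 := fun e => hf01 (by
      have := congrArg (fun z => (a : G)⁻¹ * z * (a : G)) e
      simp only [hf, pow_two, pow_one, pow_zero] at this ⊢
      simpa [mul_assoc] using this)
    have hf02 : f 0 ≠ f 2 := fun e => hf12 (by
      have h3 : f 3 = f 0 := by simp [hf, ha3]
      have := congrArg (fun z => (a : G) * z * (a : G)⁻¹) e
      simp only [hf] at this
      have e1 : f 1 = f 3 := by
        simpa [hf, pow_succ, mul_assoc] using this
      rw [e1, h3, e])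
    have hcov : ∀ x ∈ T', x ≠ 1 → x = f 0 ∨ x = f 1 ∨ x = f 2 := by
      intro x hx hx1
      by_contra hcon
      push Not at hcon
      let g : Fin 5 → T' := ![1, ⟨x, hx⟩, ⟨f 0, hfT 0⟩, ⟨f 1, hfT 1⟩, ⟨f 2, hfT 2⟩]
      have hg : Function.Injective g := by
        intro i j e
        have e' : ((g i : T') : G) = g j := congrArg Subtype.val e
        fin_cases i <;> fin_cases j <;> simp [g] at e' <;>
          first
          | rfl
          | exact absurd e' hx1
          | exact absurd e'.symm hx1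
          | exact absurd e' (hf1 _)
          | exact absurd e'.symm (hf1 _)
          | exact absurd e' hcon.1
          | exact absurd e'.symm hcon.1
          | exact absurd e' hcon.2.1
          | exact absurd e'.symm hcon.2.1
          | exact absurd e' hcon.2.2
          | exact absurd e'.symm hcon.2.2
          | exact absurd e' hf01
          | exact absurd e'.symm hf01
          | exact absurd e' hf02
          | exact absurd e'.symm hf02
          | exact absurd e' hf12
          | exact absurd e'.symm hf12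
      have := Nat.card_le_card_of_injective g hg
      rw [Nat.card_fin, hT'c] at this
      omega
    obtain ⟨i, hi⟩ : ∃ i, n * v₀ * n⁻¹ = f i := by
      rcases hcov _ ((mem_normalizer_iff.1 hn v₀).1 hv₀) (fun e => hv₀1 (conj_eq_one_iff.1 e)) with
        e | e | e
      exacts [⟨0, e⟩, ⟨1, e⟩, ⟨2, e⟩]
    set m := ((a : G) ^ i)⁻¹ * n with hm
    have hmN : m ∈ normalizer (T' : Set G) := mul_mem (inv_mem (pow_mem haT' i)) hn
    have hm0 : m * f 0 * m⁻¹ = f 0 := by
      calc m * f 0 * m⁻¹ = ((a : G) ^ i)⁻¹ * (n * v₀ * n⁻¹) * (a : G) ^ i := by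
            simp only [hf, hm, pow_zero]; group
        _ = f 0 := by rw [hi]; simp only [hf, pow_zero]; group
    refine ⟨i, ?_⟩
    by_contra hmC
    have hm2 : m ^ 2 ∈ centralizer (T' : Set G) := by
      refine mem_centralizer_iff.2 fun x hx => ?_
      refine (mul_inv_eq_iff_eq_mul.1 (?_ : m ^ 2 * x * (m ^ 2)⁻¹ = x)).symm
      have key : ∀ z ∈ T', z ≠ 1 → z ≠ f 0 →
          m * z * m⁻¹ ∈ T' ∧ m * z * m⁻¹ ≠ 1 ∧ m * z * m⁻¹ ≠ f 0 := fun z hz hz1 hz0 =>
        ⟨(mem_normalizer_iff.1 hmN z).1 hz, fun e => hz1 (conj_eq_one_iff.1 e), fun e => hz0 (by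
          calc z = m⁻¹ * (m * z * m⁻¹) * m := by group
            _ = m⁻¹ * (m * f 0 * m⁻¹) * m := by rw [e, hm0]
            _ = f 0 := by group)⟩
      have hsq' : m ^ 2 * x * (m ^ 2)⁻¹ = m * (m * x * m⁻¹) * m⁻¹ := by rw [sq]; group
      rw [hsq']
      by_cases hx1 : x = 1
      · simp [hx1]
      by_cases hx0 : x = f 0
      · rw [hx0, hm0, hm0]
      obtain ⟨hy, hy1, hy0⟩ := key x hx hx1 hx0
      obtain ⟨hz, hz1, hz0⟩ := key _ hy hy1 hy0
      rcases hcov x hx hx1 with e | e | e <;> rcases hcov _ hy hy1 with e' | e' | e' <;>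
        rcases hcov _ hz hz1 with e'' | e'' | e'' <;>
        first
        | exact absurd e hx0
        | exact absurd e' hy0
        | exact absurd e'' hz0
        | exact e''.trans e.symm
        | exact absurd (e''.symm.trans ((congrArg (fun z => m * z * m⁻¹) (e'.trans e.symm)).trans e'))
            (fun w => by
              first
              | exact hf12 w
              | exact hf12 w.symm)
        | exact absurd (e'.symm.trans ((congrArg (fun z => m * z * m⁻¹) (e.trans e''.symm)).trans e'')) (fun w => by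
              first
              | exact hf12 w
              | exact hf12 w.symm)
        | exact absurd (mul_left_cancel (mul_right_cancel (e''.trans e'.symm))) (fun w => by
            rw [e', e] at w
            first
            | exact hf12 w
            | exact hf12 w.symm)
    have hm4 : m ^ 2 ^ 2 = 1 := by
      rw [show (2 : ℕ) ^ 2 = 2 * 2 from rfl, pow_mul]; exact hC2 _ hm2
    obtain ⟨k, -, hk⟩ := (Nat.dvd_prime_pow Nat.prime_two).1 (orderOf_dvd_of_pow_eq_one hm4)
    exact hmC (hsup m hmN (h.two_sq hk))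
  -- an involution outside `N` would be isolated
  by_contra htop
  obtain ⟨g, hg⟩ : ∃ g, g ∉ N := by
    by_contra hcon
    push Not at hcon
    exact htop (eq_top_iff.2 fun x _ => hcon x)
  obtain ⟨b, hb, n, hn, rfl⟩ := mem_sup_of_normal_right.1
    ((Sylow.normalizer_sup_eq_top T).symm ▸ mem_top g :
      g ∈ normalizer (T' : Set G) ⊔ N)
  obtain ⟨i, hi⟩ := hdec b hb
  set c := ((a : G) ^ i)⁻¹ * b with hc
  have hcN : c ∉ N := fun hcN => hg (mul_mem (by
    have := mul_mem (pow_mem a.2 i) hcN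
    rwa [hc, mul_inv_cancel_left] at this) hn)
  have hcT : ∀ w ∈ T', Commute c w := fun w hw => (mem_centralizer_iff.1 hi w hw).symm
  have hca : (a : G) * c * (a : G)⁻¹ * c⁻¹ ∈ T' := by
    have hcent : (a : G) * c * (a : G)⁻¹ * c⁻¹ ∈ centralizer (T' : Set G) := by
      refine mul_mem (mem_centralizer_iff.2 fun w hw => ?_) (inv_mem hi)
      have hw' : (a : G)⁻¹ * w * a ∈ T' := by
        have := (mem_normalizer_iff.1 (inv_mem haT') w).1 hw
        rwa [inv_inv] at this
      calc w * ((a : G) * c * (a : G)⁻¹) = a * (((a : G)⁻¹ * w * a) * c) * (a : G)⁻¹ := by group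
        _ = a * (c * ((a : G)⁻¹ * w * a)) * (a : G)⁻¹ := by rw [(hcT _ hw').eq]
        _ = _ := by group
    set d := (a : G) * c * (a : G)⁻¹ * c⁻¹
    have hdN : d ∈ N := commutator_mem N a.2
    have hd2 := hC2 d hcent
    have hp : IsPGroup 2 (T' ⊔ zpowers d : Subgroup G) := by
      refine hT'p.to_sup_of_normal_left' ?_ (zpowers_le.2 ((centralizer_le_normalizer _) hcent))
      obtain ⟨k, -, hk⟩ := (Nat.dvd_prime_pow Nat.prime_two).1
        (show orderOf d ∣ 2 ^ 1 by rw [pow_one]; exact orderOf_dvd_iff_pow_eq_one.2 hd2)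
      exact IsPGroup.of_card (n := k) (by rw [Nat.card_zpowers, hk])
    have hleN : T' ⊔ zpowers d ≤ N := sup_le (map_subtype_le _) (zpowers_le.2 hdN)
    have h2 := T.3 (hp.of_equiv (subgroupOfEquivOfLe hleN).symm)
      (fun t ht => mem_subgroupOf.2 (mem_sup_left (memT.2 ht)))
    exact memT.2 (h2 ▸ mem_subgroupOf.2 (mem_sup_right (mem_zpowers d)) :
      (⟨d, hdN⟩ : N) ∈ (T : Subgroup N))
  obtain ⟨w, hw, hac, hs2, hsT⟩ :=
    exists_fixed_translate T' hT'comm hT'sq haT' hafix' hcT (hC2 c hi) hca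
  have hswN : c * w ∉ N := fun e => hcN (by
    have := mul_mem e (inv_mem (map_subtype_le _ hw : w ∈ N))
    rwa [mul_inv_cancel_right] at this)
  refine false_of_isolated h N hev hC T (orderOf_two hs2 fun e => hswN (e ▸ one_mem N)) hswN
    (fun t ht => hsT _ (memT.2 ht)) fun n hn => ?_
  obtain ⟨j, hj⟩ := hdec n ((mem_nT_iff N _ n).1 hn)
  set d := ((a : G) ^ j)⁻¹ * (n : G) with hd
  have hdN : d ∈ N := mul_mem (inv_mem (pow_mem a.2 j)) n.2
  have hd2 := hC2 d hj
  have hp : IsPGroup 2 (T' ⊔ zpowers d : Subgroup G) := by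
    refine hT'p.to_sup_of_normal_left' ?_ (zpowers_le.2 ((centralizer_le_normalizer _) hj))
    obtain ⟨k, -, hk⟩ := (Nat.dvd_prime_pow Nat.prime_two).1
      (show orderOf d ∣ 2 ^ 1 by rw [pow_one]; exact orderOf_dvd_iff_pow_eq_one.2 hd2)
    exact IsPGroup.of_card (n := k) (by rw [Nat.card_zpowers, hk])
  have hleN : T' ⊔ zpowers d ≤ N := sup_le (map_subtype_le _) (zpowers_le.2 hdN)
  have h2 := T.3 (hp.of_equiv (subgroupOfEquivOfLe hleN).symm)
    (fun t ht => mem_subgroupOf.2 (mem_sup_left (memT.2 ht)))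
  have hdT : d ∈ T' := memT.2 (h2 ▸ mem_subgroupOf.2 (mem_sup_right (mem_zpowers d)) :
    (⟨d, hdN⟩ : N) ∈ (T : Subgroup N))
  have : (n : G) = (a : G) ^ j * d := by rw [hd, mul_inv_cancel_left]
  rw [this]
  exact (hac.pow_left j).mul_left (hsT d hdT).symm

/-- A simple socle without elements of order `2 * q` leaves none outside. -/
theorem socle_no_edge (h : EdgeB G q) (hedgeG : ∃ x : G, orderOf x = 2 * q) (N : Subgroup G)
    [N.Normal] [IsSimpleGroup N] (hN : ¬ IsMulCommutative N)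
    (hC : centralizer (N : Set G) = ⊥) (hno : ¬ ∃ x : N, orderOf x = 2 * q) : False := by
  classical
  haveI : Fact (Nat.Prime 2) := ⟨Nat.prime_two⟩
  haveI := Fact.mk h.prime
  have hN' := h.subgroup N
  have hnsN : ¬ Group.IsSolvable N := fun hs => hN
    ⟨⟨fun a b => IsSimpleGroup.comm_iff_isSolvable.2 hs a b⟩⟩
  have hns : ¬ Group.IsSolvable G := fun hs => hnsN (by haveI := hs; infer_instance)
  have hev : 2 ∣ Nat.card N := by
    by_contra hc
    exact hnsN (PF14.feitThompson.{u} N (Nat.odd_iff.2 (Nat.two_dvd_ne_zero.1 hc)))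
  have hcit : PGraphCIT.IsCIT N := PGraphCIT.IsCIT.of_odd_prime_commute fun r hr hr2 => by
    rintro ⟨x, hx⟩
    rcases hN'.even_order x (hx ▸ dvd_mul_right 2 r) with h1 | h1
    · have := hr.two_le; omega
    · exact hno ⟨x, h1⟩
  obtain ⟨T⟩ : Nonempty (Sylow 2 N) := inferInstance
  have hexp : ∀ t ∈ (T : Subgroup N), t ^ 2 = 1 := hN'.two_group_sq T.2
  have hec := PGraphCIT.echyp hN hcit hev T hexp
  set T' := (T : Subgroup N).map N.subtype with hT'
  have hT'p : IsPGroup 2 T' := T.2.map _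
  have hT'sq : ∀ x ∈ T', x ^ 2 = 1 := h.two_group_sq hT'p
  have hT'comm : ∀ x ∈ T', ∀ y ∈ T', Commute x y := fun x hx y hy => commute_of_sq hT'sq hx hy
  have memT : ∀ {t : N}, (t : G) ∈ T' ↔ t ∈ (T : Subgroup N) := fun {t} =>
    mem_map_iff_mem N.subtype_injective
  obtain ⟨n, hn⟩ := T.2.exists_card_eq
  have hn2 : 2 ≤ n := (Nat.pow_le_pow_iff_right one_lt_two).1
    (show 2 ^ 2 ≤ 2 ^ n from hn ▸ hec.two_le_card)
  obtain ⟨yy, hyy⟩ := TwoFusionB.exists_ne_coset hec.stronglyEmbedded (TwoFusionB.ECHyp.pt T)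
  have hnT := hec.card_nT hyy.symm
  haveI : Nontrivial T' := Finite.one_lt_card_iff_nontrivial.1 (by
    rw [card_map_of_injective N.subtype_injective]; have := hec.two_le_card; omega)
  obtain ⟨⟨v₀, hv₀⟩, hv₀1'⟩ := exists_ne (1 : T')
  have hv₀1 : v₀ ≠ 1 := fun e => hv₀1' (Subtype.ext e)
  have hCN : ∀ c ∈ N, (∀ w ∈ T', Commute c w) → c ∈ T' := by
    intro c hcN hc
    obtain ⟨v, hv, rfl⟩ := hv₀
    have h1 : (⟨c, hcN⟩ : N) ∈ centralizer ({v} : Set N) :=
      mem_centralizer_singleton_iff.2 (Subtype.ext (hc _ ⟨v, hv, rfl⟩).eq)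
    rw [hec.centralizer_eq hv fun e => hv₀1 (by rw [e]; rfl)] at h1
    exact memT.2 h1
  -- all involutions lie in `N`
  have hinvN : ∀ s : G, orderOf s = 2 → s ∈ N := by
    intro s hs
    by_contra hsN
    obtain ⟨S0, hS0⟩ := hT'p.exists_le_sylow
    obtain ⟨S1, hS1⟩ : ∃ S1 : Sylow 2 G, s ∈ (S1 : Subgroup G) := by
      obtain ⟨S1, hS1⟩ := (IsPGroup.of_card (n := 1)
        (by rw [Nat.card_zpowers, hs, pow_one]) : IsPGroup 2 (zpowers s)).exists_le_sylow
      exact ⟨S1, hS1 (mem_zpowers s)⟩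
    obtain ⟨g, rfl⟩ := MulAction.exists_smul_eq G S0 S1
    rw [Sylow.coe_subgroup_smul, mem_pointwise_smul_iff_inv_smul_mem] at hS1
    set s' := (MulAut.conj g)⁻¹ • s with hs'
    have hs'N : s' ∉ N := fun e => hsN (by
      have := (inferInstance : N.Normal).conj_mem _ e g
      simpa [hs', MulAut.smul_def, mul_assoc] using this)
    have hs'2 : s' ^ 2 = 1 := h.two_group_sq S0.2 s' hS1
    have hsT : ∀ w ∈ T', Commute s' w := fun w hw => h.sylow_comm hS1 (hS0 hw)
    have hd : ∀ d : N, d ∈ TwoFusionB.nT T → orderOf d ≠ 1 → Odd (orderOf d) →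
        ∃ w ∈ T', Commute (d : G) (s' * w) ∧ (s' * w) ^ 2 = 1 ∧ ∀ z ∈ T', Commute (s' * w) z := by
      intro d hdT hd1 hdodd
      have hd' : (d : G) ∈ normalizer (T' : Set G) := (mem_nT_iff N _ d).1 hdT
      refine exists_fixed_translate T' hT'comm hT'sq hd' ?_ hsT hs'2 ?_
      · rintro _ ⟨v, hv, rfl⟩ hc
        by_contra hv1
        have hv1' : v ≠ 1 := fun e => hv1 (by rw [e]; rfl)
        have h1 : d ∈ centralizer ({v} : Set N) :=
          mem_centralizer_singleton_iff.2 (Subtype.ext hc.eq)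
        rw [hec.centralizer_eq hv hv1'] at h1
        have h2 := orderOf_dvd_of_pow_eq_one (hexp d h1)
        rcases (Nat.dvd_prime Nat.prime_two).1 h2 with e | e
        · exact hd1 e
        · rw [e] at hdodd; exact absurd hdodd (by decide)
      · refine hCN _ (commutator_mem N d.2) fun w hw => ?_
        have hw' : (d : G)⁻¹ * w * d ∈ T' := by
          have := (mem_normalizer_iff.1 (inv_mem hd') w).1 hw
          rwa [inv_inv] at this
        refine Commute.mul_left ?_ (hsT w hw).inv_left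
        show (d : G) * s' * (d : G)⁻¹ * w = w * ((d : G) * s' * (d : G)⁻¹)
        calc (d : G) * s' * (d : G)⁻¹ * w = d * (s' * ((d : G)⁻¹ * w * d)) * (d : G)⁻¹ := by group
          _ = d * (((d : G)⁻¹ * w * d) * s') * (d : G)⁻¹ := by rw [(hsT _ hw').eq]
          _ = _ := by group
    -- the odd part of the automizer has order `q`
    have hprimes : ∀ r : ℕ, r.Prime → r ∣ Nat.card T - 1 → r = q := by
      intro r hr hrd
      haveI := Fact.mk hr
      obtain ⟨d, hd0⟩ := exists_prime_orderOf_dvd_card' (G := TwoFusionB.nT T) r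
        (hnT ▸ dvd_mul_of_dvd_right hrd _)
      have hdo : orderOf (d : N) = r := (Subgroup.orderOf_coe d).trans hd0
      have hr2 : r ≠ 2 := by
        rintro rfl
        rw [hn] at hrd
        have h2n : 2 ∣ 2 ^ n := dvd_pow_self 2 (show n ≠ 0 by omega)
        have h1 := Nat.dvd_sub h2n hrd
        rw [Nat.sub_sub_self Nat.one_le_two_pow] at h1
        exact absurd h1 (by norm_num)
      obtain ⟨w, hw, hdw, hw2, -⟩ := hd d d.2 (by rw [hdo]; exact hr.ne_one)
        (hdo ▸ hr.odd_of_ne_two hr2)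
      by_contra hrq
      have hne : s' * w ≠ 1 := fun e => hs'N (by
        rw [eq_inv_of_mul_eq_one_left e]; exact inv_mem (map_subtype_le _ hw))
      have hdG : orderOf ((d : N) : G) = r := (Subgroup.orderOf_coe (d : N)).trans hdo
      have := h.eq_one_of_commute (Or.inl (orderOf_two hw2 hne)) hdw.symm (by
        rw [hdG, Nat.coprime_mul_iff_right]
        exact ⟨(Nat.coprime_primes hr Nat.prime_two).2 hr2,
          (Nat.coprime_primes hr h.prime).2 hrq⟩)
      rw [this, orderOf_one] at hdG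
      exact hr.ne_one hdG.symm
    have hcardq : Nat.card T - 1 = q := by
      have h2 := hec.two_le_card
      obtain ⟨k, hk⟩ : ∃ k, Nat.card T - 1 = q ^ k :=
        ⟨_, Nat.eq_prime_pow_of_unique_prime_dvd (by omega) fun {r} hr hrd => hprimes r hr hrd⟩
      rw [hk, mersenne_prime_power h.prime h.odd hn2 (k := k) (by rw [← hk, ← hn]; omega), pow_one]
    obtain ⟨d, hd0⟩ := exists_prime_orderOf_dvd_card' (G := TwoFusionB.nT T) q
      (hnT ▸ dvd_mul_of_dvd_right hcardq.symm.dvd _)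
    have hdo : orderOf (d : N) = q := (Subgroup.orderOf_coe d).trans hd0
    obtain ⟨w, hw, hdw, hw2, hwT⟩ := hd d d.2 (by rw [hdo]; exact h.prime.ne_one) (hdo ▸ h.odd)
    have hne : s' * w ∉ N := fun e => hs'N (by
      have := mul_mem e (inv_mem (map_subtype_le _ hw : w ∈ N))
      rwa [mul_inv_cancel_right] at this)
    refine false_of_isolated h N hev hC T (orderOf_two hw2 fun e => hne (e ▸ one_mem N)) hne
      (fun t ht => hwT _ (memT.2 ht)) fun m hm => ?_
    -- `T` and `d` generate the normalizer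
    let H : Subgroup N := TwoFusionB.nT T ⊓ (centralizer ({s' * w} : Set G)).comap N.subtype
    have hHT : (T : Subgroup N) ≤ H := fun t ht => mem_inf.2 ⟨Subgroup.le_normalizer ht,
      mem_comap.2 (mem_centralizer_singleton_iff.2 (hwT _ (memT.2 ht)).eq.symm)⟩
    have hHd : (d : N) ∈ H :=
      mem_inf.2 ⟨d.2, mem_comap.2 (mem_centralizer_singleton_iff.2 hdw.eq)⟩
    have hHeq : H = TwoFusionB.nT T := by
      refine eq_of_le_of_card_ge inf_le_left (Nat.le_of_dvd Nat.card_pos ?_)
      rw [hnT, hcardq]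
      have h1 : Nat.card (T : Subgroup N) ∣ Nat.card H := Subgroup.card_dvd_of_le hHT
      have h2 : q ∣ Nat.card H := hdo ▸ Subgroup.orderOf_dvd_natCard H hHd
      refine Nat.Coprime.mul_dvd_of_dvd_of_dvd ?_ h1 h2
      rw [hn]
      exact (Nat.coprime_two_left.2 h.odd).pow_left n
    have hmH : m ∈ H := hHeq.symm ▸ hm
    exact (mem_centralizer_singleton_iff.1 (mem_comap.1 (mem_inf.1 hmH).2) : _)
  -- `T'` is a Sylow subgroup of `G`
  obtain ⟨S, hS⟩ := hT'p.exists_le_sylow
  have hSle : (S : Subgroup G) ≤ T' := by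
    intro s hs
    by_cases hs1 : s = 1
    · rw [hs1]; exact one_mem _
    exact hCN s (hinvN s (h.sylow_involution hs hs1)) fun w hw => h.sylow_comm hs (hS hw)
  have hST : (S : Subgroup G) = T' := le_antisymm hSle hS
  have h4 : 4 ≤ Nat.card (S : Subgroup G) := by
    rw [hST, card_map_of_injective N.subtype_injective]; exact hec.two_le_card
  have hcent : ∀ t ∈ (S : Subgroup G), t ≠ 1 →
      centralizer ({t} : Set G) ≤ normalizer ((S : Subgroup G) : Set G) := by
    intro t ht ht1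
    haveI := h.solvable_centralizer (Or.inl (h.sylow_involution ht ht1))
    refine (h.le_core_sup S (h.sylow_le_centralizer ht)).trans (sup_le ?_ inf_le_left)
    refine fun z hz => (Subgroup.centralizer_le_normalizer _)
      (mem_centralizer_iff.2 fun s hs => ?_)
    have hsN : s ∈ N := map_subtype_le _ (hST ▸ hs : s ∈ T')
    have hsC : s ∈ centralizer ({t} : Set G) := h.sylow_le_centralizer ht hs
    set e := s * z * s⁻¹ * z⁻¹ with he
    have heN : e ∈ N := commutator_mem N hsN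
    have hec' : e ∈ core (centralizer ({t} : Set G)) :=
      mul_mem ((mem_normalizer_iff.1 (le_normalizer_core _ hsC) z).1 hz) (inv_mem hz)
    obtain ⟨t₀, ht₀, rfl⟩ := (hST ▸ ht : t ∈ T')
    have h1 : (⟨e, heN⟩ : N) ∈ centralizer ({t₀} : Set N) :=
      mem_centralizer_singleton_iff.2 (Subtype.ext
        (mem_centralizer_singleton_iff.1 (core_le _ hec')))
    rw [hec.centralizer_eq ht₀ fun e' => ht1 (by rw [e']; rfl)] at h1
    have he1 : e = 1 := orderOf_eq_one_iff.1 (Nat.Coprime.eq_one_of_dvd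
      (Nat.coprime_two_right.2 (orderOf_odd_of_mem (core_odd _) hec'))
      (orderOf_dvd_iff_pow_eq_one.2 (by
        have := congrArg Subtype.val (hexp _ h1)
        simpa using this)))
    rw [he, mul_inv_eq_one, mul_inv_eq_iff_eq_mul] at he1
    exact he1
  have hproper : normalizer ((S : Subgroup G) : Set G) ≠ ⊤ := fun e => by
    haveI : (S : Subgroup G).Normal := normalizer_eq_top_iff.1 e
    have := no_two_normal h hns (S : Subgroup G) S.2
    rw [this, card_bot] at h4
    omega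
  have hSE := SE.mk' h S h4 hcent hproper
  have hcardN : Nat.card N = 2 ^ n * (2 ^ (2 * n) - 1) ∧ (n = 3 → ∃ x : N, orderOf x = 9) := by
    obtain ⟨F, iF, iFin, hF, ⟨e⟩⟩ := hec.exists_iso_PSL2
    refine ⟨by rw [Nat.card_congr e.toEquiv,
      PGraphCIT.card_psl_two_even F (by omega) (hF.trans hn)], ?_⟩
    rintro rfl
    obtain ⟨x, hx⟩ := (PGraphCIT.psl_order_cases (F := F) (m := 3) (by norm_num) (hF.trans hn) 9).2
      (Or.inr (Or.inr (by norm_num)))
    exact ⟨e.symm x, (MulEquiv.orderOf_eq e.symm x).trans hx⟩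
  set M := normalizer ((S : Subgroup G) : Set G) with hM
  rcases hSE.nonreg (hSE.not_reg hedgeG) with ⟨R, -, -, y, hyo, -, hfix⟩ | ⟨hq3, h8, -⟩
  · -- count the cosets
    have hMT : M = normalizer (T' : Set G) := by rw [hM, hST]
    have hidx : M.index = 2 ^ n + 1 := by
      have h1 := Recog71.card_mul_eq_of_sup_eq_top M N
        (by rw [hMT]; exact Sylow.normalizer_sup_eq_top T)
      have hBN : N ⊓ M = (TwoFusionB.nT T).map N.subtype := by
        ext x
        rw [hMT]
        exact ⟨fun hx => ⟨⟨x, hx.1⟩, (mem_nT_iff N _ ⟨x, hx.1⟩).2 hx.2, rfl⟩, by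
          rintro ⟨z, hz, rfl⟩; exact ⟨z.2, (mem_nT_iff N _ z).1 hz⟩⟩
      rw [hBN, card_map_of_injective N.subtype_injective, hnT, hn] at h1
      have h2 := N.card_mul_index
      have h3 := M.card_mul_index
      rw [← h2, ← h1, hcardN.1] at h3
      have hpos : 0 < N.index := Nat.pos_of_ne_zero Subgroup.FiniteIndex.index_ne_zero
      have h4' : 1 < 2 ^ n := Nat.one_lt_pow (by omega) (by norm_num)
      have h5 : 2 ^ n * (2 ^ n - 1) * M.index = 2 ^ n * (2 ^ (2 * n) - 1) :=
        Nat.eq_of_mul_eq_mul_right hpos (by rw [← h3]; ring)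
      have h6 : 2 ^ (2 * n) - 1 = (2 ^ n - 1) * (2 ^ n + 1) := by
        rw [mul_comm (2 ^ n - 1), ← Nat.sq_sub_sq, one_pow, ← pow_mul, mul_comm n]
      rw [h6, ← mul_assoc] at h5
      exact Nat.eq_of_mul_eq_mul_left (Nat.mul_pos (Nat.two_pow_pos n) (by omega)) h5
    have hyo' : orderOf (y : G) = q := (Subgroup.orderOf_coe y).trans hyo
    have hp : IsPGroup q (zpowers (y : G)) :=
      IsPGroup.of_card (n := 1) (by rw [Nat.card_zpowers, hyo', pow_one])
    have hmod := hp.card_modEq_card_fixedPoints (G ⧸ M)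
    have hfp : Nat.card (MulAction.fixedPoints (zpowers (y : G)) (G ⧸ M)) = 1 := by
      refine Nat.card_eq_one_iff_exists.2 ⟨⟨QuotientGroup.mk 1, fun z => ?_⟩, fun ⟨c, hc⟩ => ?_⟩
      · show (z : G) • (QuotientGroup.mk 1 : G ⧸ M) = QuotientGroup.mk 1
        rw [TwoFusionB.smul_one_eq_iff]
        exact (zpowers_le.2 y.2) z.2
      · refine Subtype.ext ?_
        show c = QuotientGroup.mk 1
        induction c using QuotientGroup.induction_on with
        | _ g =>
          have := hfix g (TwoFusionB.smul_mk_eq_iff.1 (hc ⟨(y : G), mem_zpowers _⟩))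
          rw [QuotientGroup.eq, mul_one]
          exact inv_mem this
    rw [hfp, ← Subgroup.index_eq_card, hidx] at hmod
    have hdvd : q ∣ 2 ^ n := by
      have := Nat.ModEq.add_right_cancel' 1 (show 2 ^ n + 1 ≡ 0 + 1 [MOD q] by rwa [zero_add])
      exact Nat.modEq_zero_iff_dvd.1 this
    exact h.ne_two ((Nat.prime_dvd_prime_iff_eq h.prime Nat.prime_two).1
      (h.prime.dvd_of_dvd_pow hdvd))
  · subst hq3
    rw [hST, card_map_of_injective N.subtype_injective, hn] at h8
    obtain rfl : n = 3 := Nat.pow_right_injective le_rfl (h8.trans (by norm_num))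
    obtain ⟨x, hx⟩ := hcardN.2 rfl
    rcases hN'.q_order x (by rw [hx]; norm_num) with h1 | h1 <;> omega

end Cfsg.Agent.Three68
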