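import Cfsg.Agent.PGraphCIT.Almost
import Cfsg.Agent.CNCit80.SzAut
import Cfsg.Agent.CIT.TISylow
import Cfsg.Agent.Three68.EdgeSocle

/-!
# Overgroups of simple groups with `2`-group involution centralisers and exponent four
-/

set_option autoImplicit false
set_option linter.style.haveILetI false

namespace Cfsg.Agent.Three68

open Subgroup PGraphCIT

universe u

variable {X : Type u} [Group X] [Finite X]

/-- An element outside a normal subgroup whose square lies inside is a `2`-element. -/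
theorem two_pow_of_outer (hcit : IsCIT X) {N : Subgroup X} {g : X} (hg : g ∉ N)
    (hg2 : g ^ 2 ∈ N) : ∃ k, g ^ 2 ^ k = 1 := by
  obtain ⟨e, m, hm, he⟩ :=
    Nat.exists_eq_pow_mul_and_not_dvd (orderOf_pos g).ne' 2 (by norm_num)
  have he0 : e ≠ 0 := by
    rintro rfl
    rw [pow_zero, one_mul] at he
    apply hg
    have h1 : g = (g ^ 2) ^ ((m + 1) / 2) := by
      rw [← pow_mul, Nat.mul_div_cancel' (by omega), pow_succ, ← he, pow_orderOf_eq_one, one_mul]
    rw [h1]
    exact pow_mem hg2 _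
  refine ⟨e, ?_⟩
  have hm0 : 0 < m := Nat.pos_of_ne_zero fun h => hm (h ▸ dvd_zero 2)
  have hv : (g ^ m) ^ 2 ^ e = 1 := by rw [← pow_mul, mul_comm, ← he, pow_orderOf_eq_one]
  have hv1 : g ^ m ≠ 1 := fun h => by
    have h2 := Nat.le_of_dvd hm0 (orderOf_dvd_of_pow_eq_one h)
    rw [he] at h2
    have h3 : 2 * m ≤ 2 ^ e * m :=
      Nat.mul_le_mul_right m (Nat.le_self_pow he0 2)
    omega
  refine hcit.eq_one_of_two_elt hv hv1 ((Commute.refl g).pow_pow m (2 ^ e)) ?_
  rw [orderOf_pow, he, Nat.gcd_mul_right_left, Nat.mul_div_cancel_left _ (Nat.two_pow_pos e),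
    Nat.odd_iff]
  exact Nat.two_dvd_ne_zero.1 hm

/-- A covering subgroup contains an element of order two modulo `N`. -/
theorem exists_outer_sq (N : Subgroup X) [N.Normal] (hquot : IsPGroup 2 (X ⧸ N)) (hne : N ≠ ⊤)
    (H : Subgroup X) (hH : ∀ g : X, ∃ n ∈ N, g * n ∈ H) : ∃ g ∈ H, g ∉ N ∧ g ^ 2 ∈ N := by
  obtain ⟨x, hx⟩ : ∃ x, x ∉ N := by
    by_contra h
    push Not at h
    exact hne (eq_top_iff.2 fun x _ => h x)
  obtain ⟨n, hn, hxn⟩ := hH x
  have hxN : x * n ∉ N := fun h => hx ((mul_mem_cancel_right hn).1 h)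
  obtain ⟨k, hk⟩ := hquot (QuotientGroup.mk (x * n))
  have hk' : (x * n) ^ 2 ^ k ∈ N := (QuotientGroup.eq_one_iff _).1 (by simpa using hk)
  clear hk
  induction k with
  | zero => exact absurd (by simpa using hk') hxN
  | succ k ih =>
    by_cases h : (x * n) ^ 2 ^ k ∈ N
    · exact ih h
    · exact ⟨_, pow_mem hxn _, h, by rwa [← pow_mul, ← pow_succ]⟩

/-- If the coset of every element meets the centraliser of an involution the index is a power
of two. -/
theorem isPGroup_quotient (hcit : IsCIT X) (N : Subgroup X) [N.Normal] {t : X}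
    (ht : orderOf t = 2) (hsurj : ∀ g : X, ∃ n ∈ N, Commute (g * n) t) : IsPGroup 2 (X ⧸ N) := by
  intro c
  obtain ⟨g, rfl⟩ := QuotientGroup.mk'_surjective N c
  obtain ⟨n, hn, hc⟩ := hsurj g
  obtain ⟨k, hk⟩ := hcit t ht ⟨g * n, mem_centralizer_singleton_iff.2 hc.eq⟩
  refine ⟨k, ?_⟩
  rw [show QuotientGroup.mk' N g = QuotientGroup.mk' N (g * n) by
    rw [map_mul, show QuotientGroup.mk' N n = 1 from (QuotientGroup.eq_one_iff n).2 hn, mul_one],
    ← map_pow, show (g * n) ^ 2 ^ k = 1 from congrArg Subtype.val hk, map_one]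

/-- Frattini, in the form used here. -/
theorem frattini_cover (N : Subgroup X) [N.Normal] {p : ℕ} [Fact p.Prime] (P : Sylow p N) :
    ∀ g : X, ∃ n ∈ N,
      g * n ∈ normalizer (((P : Subgroup N).map N.subtype : Subgroup X) : Set X) := by
  intro g
  obtain ⟨b, hb, n, hn, rfl⟩ := mem_sup_of_normal_right.1
    ((Sylow.normalizer_sup_eq_top P).symm ▸ mem_top g :
      g ∈ normalizer (((P : Subgroup N).map N.subtype : Subgroup X) : Set X) ⊔ N)
  exact ⟨n⁻¹, inv_mem hn, by rwa [mul_inv_cancel_right]⟩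

/-- An involution normalising an abelian subgroup of odd order inverts it. -/
theorem inv_of_involution (hcit : IsCIT X) {w x : X} (hw : orderOf w = 2)
    (hx : Odd (orderOf x)) (hc : Commute x (w * x * w⁻¹)) : w * x * w⁻¹ = x⁻¹ := by
  have hw2 : w * w = 1 := by rw [← pow_two, ← hw, pow_orderOf_eq_one]
  have hwi : w⁻¹ = w := inv_eq_of_mul_eq_one_right hw2
  have hy : Commute w (x * (w * x * w⁻¹)) := by
    refine mul_inv_eq_iff_eq_mul.1 ?_
    calc w * (x * (w * x * w⁻¹)) * w⁻¹ = (w * x * w⁻¹) * ((w * w) * x * (w * w)⁻¹) := by group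
      _ = (w * x * w⁻¹) * x := by rw [hw2, one_mul, inv_one, mul_one]
      _ = x * (w * x * w⁻¹) := hc.eq.symm
  have hodd : Odd (orderOf (x * (w * x * w⁻¹))) := by
    refine (Odd.mul hx ?_).of_dvd_nat hc.orderOf_mul_dvd_mul_orderOf
    rwa [show w * x * w⁻¹ = MulAut.conj w x from rfl, MulEquiv.orderOf_eq]
  exact eq_inv_of_mul_eq_one_right (hcit.eq_one hw hy hodd)

/-- Burnside: the normaliser of an abelian Sylow subgroup of a simple group is not central. -/
theorem exists_noncentral {N : Type u} [Group N] [Finite N] [IsSimpleGroup N]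
    (hN : ¬ IsMulCommutative N) {p : ℕ} [Fact p.Prime] (P : Sylow p N)
    (hd : p ∣ Nat.card N) (hab : ∀ a ∈ (P : Subgroup N), ∀ b ∈ (P : Subgroup N), Commute a b) :
    ∃ y ∈ normalizer ((P : Subgroup N) : Set N), ∃ a ∈ (P : Subgroup N), ¬ Commute y a := by
  by_contra hno
  push Not at hno
  have hP : normalizer ((P : Subgroup N) : Set N) ≤ centralizer ((P : Subgroup N) : Set N) :=
    fun y hy => mem_centralizer_iff.2 fun a ha => (hno y hy a ha).eq.symm
  have hc := MonoidHom.ker_transferSylow_isComplement' P hP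
  rcases (MonoidHom.normal_ker (MonoidHom.transferSylow P hP)).eq_bot_or_eq_top with h | h
  · rw [h, isComplement'_bot_left] at hc
    exact hN ⟨⟨fun a b => (hab a (hc ▸ mem_top a) b (hc ▸ mem_top b)).eq⟩⟩
  · rw [h, isComplement'_top_left] at hc
    have h1 := P.dvd_card_of_dvd_card hd
    rw [hc, card_bot] at h1
    exact (Fact.out : p.Prime).ne_one (Nat.dvd_one.1 h1)

/-- A simple normal subgroup with a Sylow subgroup of order `r ≡ 3 (mod 4)` has odd index. -/
theorem eq_top_of_sylow_prime (hcit : IsCIT X) (N : Subgroup X) [N.Normal] [IsSimpleGroup N]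
    (hN : ¬ IsMulCommutative N) (hquot : IsPGroup 2 (X ⧸ N)) {r : ℕ} (hr : r.Prime)
    (h4 : r % 4 = 3) (hd : r ∣ Nat.card N) (hnd : ¬ r ^ 2 ∣ Nat.card N) : N = ⊤ := by
  haveI := Fact.mk hr
  by_contra hne
  obtain ⟨P⟩ : Nonempty (Sylow r N) := inferInstance
  obtain ⟨n, hn⟩ := P.2.exists_card_eq
  have h1 : n = 1 := by
    have h2 := P.dvd_card_of_dvd_card hd
    rw [hn] at h2
    have hn0 : n ≠ 0 := by
      rintro rfl
      exact hr.ne_one (Nat.dvd_one.1 (by rwa [pow_zero] at h2))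
    by_contra hn1
    exact hnd ((pow_dvd_pow r (show 2 ≤ n by omega)).trans
      (hn ▸ card_subgroup_dvd_card (P : Subgroup N)))
  subst h1
  rw [pow_one] at hn
  obtain ⟨x, hx⟩ := exists_prime_orderOf_dvd_card' (G := (P : Subgroup N)) r hn.symm.dvd
  have hxo : orderOf (x : N) = r := (Subgroup.orderOf_coe x).trans hx
  have hPx : zpowers (x : N) = P := by
    refine eq_of_le_of_card_ge (zpowers_le.2 x.2) ?_
    rw [hn, Nat.card_zpowers, hxo]
  set x' : X := ((x : N) : X) with hx'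
  have hx'o : orderOf x' = r := (Subgroup.orderOf_coe (x : N)).trans hxo
  set P' := (P : Subgroup N).map N.subtype with hP'
  have hP'x : P' = zpowers x' := by
    rw [hP', ← hPx, MonoidHom.map_zpowers]; rfl
  have hxodd : Odd (orderOf x') := hx'o ▸ hr.odd_of_ne_two (by omega)
  -- outer elements invert `x`
  have key : ∀ g ∈ normalizer (P' : Set X), g ∉ N → g ^ 2 ∈ N → g * x' * g⁻¹ = x'⁻¹ := by
    intro g hg hgN hg2
    obtain ⟨k, hk⟩ := two_pow_of_outer hcit hgN hg2
    have hgx : g * x' * g⁻¹ ∈ zpowers x' := hP'x ▸ (mem_normalizer_iff.1 hg x').1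
      (hP'x ▸ mem_zpowers x')
    obtain ⟨a, ha : x' ^ a = g * x' * g⁻¹⟩ := mem_powers_iff_mem_zpowers.2 hgx
    have hiter : ∀ j : ℕ, g ^ j * x' * (g ^ j)⁻¹ = x' ^ (a ^ j) := by
      intro j
      induction j with
      | zero => simp
      | succ j ih =>
        rw [pow_succ' g, mul_inv_rev, show g * g ^ j * x' * ((g ^ j)⁻¹ * g⁻¹) =
          g * (g ^ j * x' * (g ^ j)⁻¹) * g⁻¹ by group, ih, ← conj_pow, ← ha, ← pow_mul,
          ← pow_succ']
    have hmod : (a : ZMod r) ^ 2 ^ k = 1 := by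
      have h2 := hiter (2 ^ k)
      rw [hk, one_mul, inv_one, mul_one] at h2
      have h3 : x' ^ 1 = x' ^ (a ^ 2 ^ k) := by rw [pow_one]; exact h2
      rw [pow_eq_pow_iff_modEq, hx'o, ← ZMod.natCast_eq_natCast_iff] at h3
      simpa using h3.symm
    have ha0 : (a : ZMod r) ≠ 0 := fun h => by
      rw [h, zero_pow (Nat.two_pow_pos k).ne'] at hmod
      exact zero_ne_one hmod
    have ha2 : (a : ZMod r) ^ 2 = 1 := by
      have h2 : orderOf (a : ZMod r) ∣ 2 ^ k := orderOf_dvd_of_pow_eq_one hmod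
      have h3 : orderOf (a : ZMod r) ∣ r - 1 :=
        orderOf_dvd_of_pow_eq_one (ZMod.pow_card_sub_one_eq_one ha0)
      obtain ⟨j, -, hj⟩ := (Nat.dvd_prime_pow Nat.prime_two).1 h2
      rw [← orderOf_dvd_iff_pow_eq_one, hj]
      rcases j with _ | _ | j
      · simp
      · simp
      · exfalso
        have h5 : 4 ∣ r - 1 := ((pow_dvd_pow 2 (show 2 ≤ j + 1 + 1 by omega)).trans (hj ▸ h3) :)
        omega
    have hc2 : Commute (g ^ 2) x' := by
      refine mul_inv_eq_iff_eq_mul.1 ?_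
      rw [hiter 2]
      conv_rhs => rw [← pow_one x']
      rw [pow_eq_pow_iff_modEq, hx'o, ← ZMod.natCast_eq_natCast_iff]
      push_cast
      exact ha2
    have hg1 : g ^ 2 = 1 := by
      by_contra h2
      have := hcit.eq_one_of_two_elt (v := g ^ 2) (k := k)
        (by rw [← pow_mul, mul_comm, pow_mul, hk, one_pow]) h2 hc2 hxodd
      rw [this, orderOf_one] at hx'o
      exact hr.ne_one hx'o.symm
    refine inv_of_involution hcit (orderOf_eq_prime hg1 fun h => hgN (h ▸ one_mem N)) hxodd ?_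
    rw [← ha]
    exact Commute.self_pow x' a
  obtain ⟨g, hg, hgN, hg2⟩ := exists_outer_sq N hquot hne _ (frattini_cover N P)
  obtain ⟨y, hy, b, hb, hyb⟩ := exists_noncentral hN P hd fun s hs t ht => by
    rw [← hPx] at hs ht
    obtain ⟨i, rfl⟩ := mem_zpowers_iff.1 hs
    obtain ⟨j, rfl⟩ := mem_zpowers_iff.1 ht
    exact (Commute.refl (x : N)).zpow_zpow i j
  apply hyb
  have hy' : (y : X) ∈ normalizer (P' : Set X) := (mem_nT_iff N _ y).1 hy
  have hgyN : g * (y : X) ∉ N := fun h => hgN ((mul_mem_cancel_right y.2).1 h)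
  have hgy2 : (g * (y : X)) ^ 2 ∈ N := by
    rw [← QuotientGroup.eq_one_iff, QuotientGroup.mk_pow, QuotientGroup.mk_mul,
      (QuotientGroup.eq_one_iff (y : X)).2 y.2, mul_one, ← QuotientGroup.mk_pow,
      QuotientGroup.eq_one_iff]
    exact hg2
  have h2 := key _ (mul_mem hg hy') hgyN hgy2
  rw [← key g hg hgN hg2] at h2
  have hcy : Commute y (x : N) := by
    refine mul_inv_eq_iff_eq_mul.1 (Subtype.ext ?_)
    show (y : X) * x' * (y : X)⁻¹ = x'
    calc (y : X) * x' * (y : X)⁻¹ = g⁻¹ * (g * (y : X) * x' * (g * (y : X))⁻¹) * g := by group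
      _ = x' := by rw [h2]; group
  rw [← hPx] at hb
  obtain ⟨i, rfl⟩ := mem_zpowers_iff.1 hb
  exact hcy.zpow_right i

/-- There is no normal `2`-subgroup over a self-centralised simple group. -/
theorem pCore_bot (N : Subgroup X) [N.Normal] [IsSimpleGroup N] (hN : ¬ IsMulCommutative N)
    (hC : centralizer (N : Set X) = ⊥) : Cfsg.pCore 2 X = ⊥ := by
  haveI : Fact (Nat.Prime 2) := ⟨Nat.prime_two⟩
  set K := Cfsg.pCore 2 X with hK
  have hdis : Disjoint K N := by
    rw [disjoint_iff]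
    have h1 : ((K ⊓ N).subgroupOf N).Normal :=
      ⟨fun a ha b => mem_subgroupOf.2
        ⟨(inferInstance : K.Normal).conj_mem _ (mem_subgroupOf.1 ha).1 b, (b * a * b⁻¹).2⟩⟩
    rcases h1.eq_bot_or_eq_top with h | h
    · rw [subgroupOf_eq_bot] at h
      exact le_bot_iff.1 (h le_rfl inf_le_right)
    · exfalso
      rw [subgroupOf_eq_top] at h
      exact hN (SmallGroups.comm_of_isPGroup
        ((Thompson.isPGroup_pCore (G := X) (p := 2)).to_le (h.trans inf_le_left)))
  rw [eq_bot_iff, ← hC]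
  intro a ha
  exact mem_centralizer_iff.2 fun b hb =>
    (Subgroup.commute_of_normal_of_disjoint K N inferInstance inferInstance hdis a b ha hb).eq.symm

/-- Outer involutions invert no element of odd order which is real in `N`. -/
theorem no_outer_involution (hcit : IsCIT X) (N : Subgroup X) [N.Normal] [IsSimpleGroup N]
    (hN : ¬ IsMulCommutative N) (hC : centralizer (N : Set X) = ⊥)
    (hquot : IsPGroup 2 (X ⧸ N))
    (hreal : ∀ r : ℕ, r.Prime → r ≠ 2 → ∀ x : N, orderOf x = r → ∃ z : N, z * x * z⁻¹ = x⁻¹)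
    {w : X} (hw : orderOf w = 2) : w ∈ N := by
  by_contra hwN
  obtain ⟨f, hfodd, hf1, hfw⟩ := CIT.exists_inverted_odd (pCore_bot N hN hC) hw
  obtain ⟨r, hr, hrd⟩ := Nat.exists_prime_and_dvd (mt orderOf_eq_one_iff.1 hf1)
  have hr2 : r ≠ 2 := fun e => Nat.not_even_iff_odd.2 hfodd (even_iff_two_dvd.2 (e ▸ hrd))
  set x := f ^ (orderOf f / r) with hx
  have hxo : orderOf x = r := orderOf_pow_orderOf_div (orderOf_pos f).ne' hrd
  have hwx : w * x * w⁻¹ = x⁻¹ := by rw [hx, ← conj_pow, hfw, inv_pow]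
  have hxN : x ∈ N := by
    rw [← QuotientGroup.eq_one_iff]
    obtain ⟨k, hk⟩ := hquot (x : X ⧸ N)
    exact orderOf_eq_one_iff.1 (Nat.eq_one_of_dvd_coprimes
      (((Nat.coprime_primes hr Nat.prime_two).2 hr2).pow_right k)
      ((orderOf_map_dvd (QuotientGroup.mk' N) x).trans hxo.dvd)
      (orderOf_dvd_of_pow_eq_one hk))
  obtain ⟨z, hz⟩ := hreal r hr hr2 ⟨x, hxN⟩ ((Subgroup.orderOf_coe _).symm.trans hxo)
  have hz' : (z : X) * x * (z : X)⁻¹ = x⁻¹ := congrArg Subtype.val hz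
  set v := (z : X)⁻¹ * w with hv
  have hvN : v ∉ N := fun h => hwN (by
    have := mul_mem z.2 h
    rwa [hv, mul_inv_cancel_left] at this)
  have hv2 : v ^ 2 ∈ N := by
    rw [← QuotientGroup.eq_one_iff, QuotientGroup.mk_pow, hv, QuotientGroup.mk_mul,
      (QuotientGroup.eq_one_iff _).2 (inv_mem z.2), one_mul, ← QuotientGroup.mk_pow, ← hw,
      pow_orderOf_eq_one, QuotientGroup.mk_one]
  have hcv : Commute v x := by
    refine mul_inv_eq_iff_eq_mul.1 ?_
    calc v * x * v⁻¹ = (z : X)⁻¹ * (w * x * w⁻¹) * z := by rw [hv]; group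
      _ = (z : X)⁻¹ * ((z : X) * x * (z : X)⁻¹) * z := by rw [hwx, hz']
      _ = x := by group
  obtain ⟨k, hk⟩ := two_pow_of_outer hcit hvN hv2
  have h1 := hcit.eq_one_of_two_elt hk (fun e => hvN (e ▸ one_mem N)) hcv
    (hxo ▸ hr.odd_of_ne_two hr2)
  rw [h1, orderOf_one] at hxo
  exact hr.ne_one hxo.symm

/-- With a dihedral Sylow `2`-subgroup every coset meets the centraliser of its element of
order four. -/
theorem surj_of_dihedral (N : Subgroup X) [N.Normal] (T : Sylow 2 N) {c : N}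
    (hc : c ∈ (T : Subgroup N)) (ho : orderOf c = 4)
    (hgen : ∀ t ∈ (T : Subgroup N), t ^ 2 ≠ 1 → t = c ∨ t = c⁻¹)
    (hs : ∃ s ∈ (T : Subgroup N), s * c * s⁻¹ = c⁻¹) :
    ∀ g : X, ∃ n ∈ N, Commute (g * n) (c : X) := by
  intro g
  haveI : Fact (Nat.Prime 2) := ⟨Nat.prime_two⟩
  obtain ⟨n, hn, hb⟩ := frattini_cover N T g
  set b := g * n with hbdef
  obtain ⟨t, ht, hte⟩ := (mem_normalizer_iff.1 hb (c : X)).1 ⟨c, hc, rfl⟩
  have hte' : (t : X) = b * (c : X) * b⁻¹ := hte
  have ht2 : t ^ 2 ≠ 1 := fun h => by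
    have h1 : (b * (c : X) * b⁻¹) ^ 2 = 1 := by
      rw [← hte']; exact congrArg Subtype.val h
    rw [conj_pow, conj_eq_one_iff] at h1
    have h2 : orderOf c ∣ 2 := orderOf_dvd_of_pow_eq_one (Subtype.ext h1)
    rw [ho] at h2
    norm_num at h2
  rcases hgen t ht ht2 with rfl | rfl
  · exact ⟨n, hn, mul_inv_eq_iff_eq_mul.1 hte'.symm⟩
  · obtain ⟨s, -, hsc⟩ := hs
    refine ⟨n * s, mul_mem hn s.2, mul_inv_eq_iff_eq_mul.1 ?_⟩
    have hsc' : (s : X) * c * (s : X)⁻¹ = (c : X)⁻¹ := congrArg Subtype.val hsc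
    have hte'' : b * (c : X) * b⁻¹ = (c : X)⁻¹ := hte'.symm
    calc g * (n * s) * c * (g * (n * s))⁻¹ = b * ((s : X) * c * (s : X)⁻¹) * b⁻¹ := by
          rw [hbdef]; group
      _ = (b * c * b⁻¹)⁻¹ := by rw [hsc']; group
      _ = c := by rw [hte'', inv_inv]

/-- Without elements of order eight and outer involutions the group is `N`. -/
theorem eq_top_of_order_four (hexp8 : ∀ x : X, orderOf x ≠ 8) (N : Subgroup X) [N.Normal]
    (hquot : IsPGroup 2 (X ⧸ N)) (hno : ∀ w : X, orderOf w = 2 → w ∈ N) {c : N}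
    (ho : orderOf c = 4) (hsurj : ∀ g : X, ∃ n ∈ N, Commute (g * n) (c : X))
    (hCN : ∀ n : N, Commute n c → n ∈ zpowers c) : N = ⊤ := by
  by_contra hne
  obtain ⟨g, hg, hgN, hg2⟩ := exists_outer_sq N hquot hne (centralizer ({(c : X)} : Set X))
    fun x => by
      obtain ⟨n, hn, h⟩ := hsurj x
      exact ⟨n, hn, mem_centralizer_singleton_iff.2 h.eq⟩
  have hgc : Commute g (c : X) := mem_centralizer_singleton_iff.1 hg
  obtain ⟨i, hi⟩ := mem_powers_iff_mem_zpowers.2
    (hCN ⟨g ^ 2, hg2⟩ (Subtype.ext (hgc.pow_left 2).eq))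
  have hi' : (c : X) ^ i = g ^ 2 := congrArg Subtype.val hi
  have hco : orderOf (c : X) = 4 := (Subgroup.orderOf_coe c).trans ho
  rcases Nat.even_or_odd i with ⟨j, rfl⟩ | hodd
  · -- an outer involution
    have hv2 : (g * ((c : X) ^ j)⁻¹) ^ 2 = 1 := by
      rw [((hgc.pow_right j).inv_right).mul_pow, inv_pow, ← pow_mul, mul_comm, mul_inv_eq_one,
        ← hi', two_mul]
    refine hgN ?_
    have := mul_mem (hno _ (orderOf_eq_prime hv2 fun e => hgN ?_)) (pow_mem c.2 j)
    · simpa using this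
    · rw [mul_inv_eq_one.1 e]; exact pow_mem c.2 j
  · refine hexp8 g ?_
    rw [show (8 : ℕ) = 2 ^ (2 + 1) by norm_num]
    refine orderOf_eq_prime_pow ?_ ?_
    · rw [show (2 : ℕ) ^ 2 = 2 * 2 by norm_num, pow_mul, ← hi', ← pow_mul,
        ← orderOf_dvd_iff_pow_eq_one, hco]
      obtain ⟨j, rfl⟩ := hodd
      omega
    · rw [show (2 : ℕ) ^ (2 + 1) = 2 * 4 by norm_num, pow_mul, ← hi', ← pow_mul,
        ← orderOf_dvd_iff_pow_eq_one, hco]
      exact dvd_mul_left 4 i

theorem d4_facts : ∀ x : DihedralGroup 4,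
    (x ^ 2 ≠ 1 → x = DihedralGroup.r 1 ∨ x = (DihedralGroup.r 1)⁻¹) ∧
    x * (DihedralGroup.r 1) ^ 2 = (DihedralGroup.r 1) ^ 2 * x ∧
    (x * DihedralGroup.r 1 = DihedralGroup.r 1 * x →
      ∃ i : Fin 4, x = (DihedralGroup.r 1) ^ (i : ℕ)) := by decide

/-- The element of order four of a dihedral Sylow subgroup with self-centralised centre. -/
theorem dihedral_data {N : Type u} [Group N] [Finite N] (T : Sylow 2 N)
    (e : (T : Subgroup N) ≃* DihedralGroup 4)
    (hcent : ∀ z : N, z ∈ (T : Subgroup N) → z ≠ 1 → (∀ t ∈ (T : Subgroup N), t * z = z * t) →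
      centralizer ({z} : Set N) = T) :
    ∃ c ∈ (T : Subgroup N), orderOf c = 4 ∧
      (∀ t ∈ (T : Subgroup N), t ^ 2 ≠ 1 → t = c ∨ t = c⁻¹) ∧
      (∃ s ∈ (T : Subgroup N), s * c * s⁻¹ = c⁻¹) ∧
      ∀ n : N, Commute n c → n ∈ zpowers c := by
  set c₀ := e.symm (DihedralGroup.r 1) with hc₀
  have hc₀o : orderOf c₀ = 4 := by rw [hc₀, MulEquiv.orderOf_eq, DihedralGroup.orderOf_r_one]
  have hco : orderOf (c₀ : N) = 4 := (Subgroup.orderOf_coe c₀).trans hc₀o
  have hC : centralizer ({(c₀ : N) ^ 2} : Set N) = T := by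
    refine hcent _ (pow_mem c₀.2 2) (fun h => ?_) fun t ht => ?_
    · have := orderOf_dvd_of_pow_eq_one h
      rw [hco] at this
      norm_num at this
    · have h1 : (⟨t, ht⟩ : (T : Subgroup N)) * c₀ ^ 2 = c₀ ^ 2 * ⟨t, ht⟩ := e.injective (by
        rw [map_mul, map_mul, map_pow, hc₀, e.apply_symm_apply]
        exact (d4_facts _).2.1)
      exact congrArg Subtype.val h1
  refine ⟨(c₀ : N), c₀.2, hco, fun t ht h2 => ?_,
    ⟨(e.symm (DihedralGroup.sr 0) : N), (e.symm (DihedralGroup.sr 0)).2, ?_⟩, fun n hn => ?_⟩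
  · rcases (d4_facts (e ⟨t, ht⟩)).1 (fun h => h2 (by
      rw [← map_pow, MulEquiv.map_eq_one_iff] at h
      exact congrArg Subtype.val h)) with h | h
    · left
      exact congrArg Subtype.val (show (⟨t, ht⟩ : (T : Subgroup N)) = c₀ by
        rw [hc₀, ← h, e.symm_apply_apply])
    · right
      exact congrArg Subtype.val (show (⟨t, ht⟩ : (T : Subgroup N)) = c₀⁻¹ by
        rw [hc₀, ← map_inv, ← h, e.symm_apply_apply])
  · have h1 : e.symm (DihedralGroup.sr 0) * c₀ * (e.symm (DihedralGroup.sr 0))⁻¹ = c₀⁻¹ := by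
      simp only [hc₀, ← map_mul, ← map_inv]
      congr 1
    exact congrArg Subtype.val h1
  · have hnT : n ∈ (T : Subgroup N) := hC ▸ mem_centralizer_singleton_iff.2 (hn.pow_right 2).eq
    obtain ⟨i, hi⟩ := (d4_facts (e ⟨n, hnT⟩)).2.2 (by
      have h1 : (⟨n, hnT⟩ : (T : Subgroup N)) * c₀ = c₀ * ⟨n, hnT⟩ := Subtype.ext hn.eq
      have h2 := congrArg e h1
      rwa [map_mul, map_mul, hc₀, e.apply_symm_apply] at h2)
    have h1 : n = (c₀ : N) ^ (i : ℕ) := congrArg Subtype.val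
      (show (⟨n, hnT⟩ : (T : Subgroup N)) = c₀ ^ (i : ℕ) by
        rw [hc₀, ← map_pow, ← hi, e.symm_apply_apply])
    rw [h1]
    exact npow_mem_zpowers _ _

/-- In a simple group of order `360` elements of odd prime order are real. -/
theorem real_360 {N : Type u} [Group N] [Finite N] [IsSimpleGroup N] (hN : ¬ IsMulCommutative N)
    (hcit : IsCIT N) (h360 : Nat.card N = 360) {r : ℕ} (hr : r.Prime) (hr2 : r ≠ 2) {x : N}
    (hx : orderOf x = r) : ∃ z : N, z * x * z⁻¹ = x⁻¹ := by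
  haveI := Fact.mk hr
  have hd : r ∣ 360 := h360 ▸ hx ▸ orderOf_dvd_natCard x
  obtain ⟨P, hP⟩ := (IsPGroup.of_card (n := 1) (by rw [Nat.card_zpowers, hx, pow_one]) :
    IsPGroup r (zpowers x)).exists_le_sylow
  have hr35 : r = 3 ∨ r = 5 := by
    have h1 : r ∈ Nat.divisors 360 := Nat.mem_divisors.2 ⟨hd, by norm_num⟩
    have h2 : r ≤ 360 := Nat.le_of_dvd (by norm_num) hd
    have h3 : ∀ d ∈ Nat.divisors 360, d.Prime → d = 2 ∨ d = 3 ∨ d = 5 := by decide +kernel
    rcases h3 r h1 hr with h | h | h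
    exacts [absurd h hr2, Or.inl h, Or.inr h]
  have hPc : Nat.card (P : Subgroup N) = if r = 3 then 9 else 5 := by
    rcases hr35 with rfl | rfl
    · exact SmallGroups.card_sylow_eq (a := 2) (m := 40) (by rw [h360]; norm_num) (by norm_num) P
    · exact SmallGroups.card_sylow_eq (a := 1) (m := 72) (by rw [h360]; norm_num) (by norm_num) P
  have hab : ∀ a ∈ (P : Subgroup N), ∀ b ∈ (P : Subgroup N), Commute a b := by
    intro a ha b hb
    have hcm : IsMulCommutative (P : Subgroup N) := by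
      rcases hr35 with rfl | rfl
      · exact IsPGroup.isMulCommutative_of_card_eq_prime_sq (p := 3) (by rw [hPc]; norm_num)
      · haveI := isCyclic_of_prime_card (p := 5) (α := (P : Subgroup N)) (by rw [hPc]; norm_num)
        infer_instance
    exact congrArg Subtype.val (hcm.is_comm.comm ⟨a, ha⟩ ⟨b, hb⟩)
  have hxP : x ∈ (P : Subgroup N) := hP (mem_zpowers x)
  by_cases hev : 2 ∣ Nat.card (normalizer ((P : Subgroup N) : Set N))
  · haveI : Fact (Nat.Prime 2) := ⟨Nat.prime_two⟩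
    obtain ⟨z, hz⟩ := exists_prime_orderOf_dvd_card' _ hev
    refine ⟨z, inv_of_involution hcit ((Subgroup.orderOf_coe z).trans hz)
      (hx ▸ hr.odd_of_ne_two hr2) ?_⟩
    exact hab x hxP _ ((mem_normalizer_iff.1 z.2 x).1 hxP)
  exfalso
  have h1 := Sylow.card_eq_index_normalizer P
  have h2 := card_sylow_modEq_one r N
  have h3 := (normalizer ((P : Subgroup N) : Set N)).card_mul_index
  have h4 : Nat.card (P : Subgroup N) ∣ Nat.card (normalizer ((P : Subgroup N) : Set N)) :=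
    Subgroup.card_dvd_of_le le_normalizer
  rw [show (normalizer ((P : Subgroup N) : Set N)).index = Nat.card (Sylow r N) from h1.symm,
    h360] at h3
  obtain ⟨q, hq⟩ := h4
  rw [hq] at h3 hev
  rw [hPc] at h3 hev hq
  have hq1 : q = 1 ∧ r = 3 := by
    have h2' : Nat.card (Sylow r N) % r = 1 % r := h2
    have hn0 : 0 < Nat.card (Sylow r N) := Nat.card_pos
    have hq0 : 0 < q := Nat.pos_of_ne_zero fun h => hev (by simp [h])
    rcases hr35 with rfl | rfl
    · simp only [↓reduceIte] at h3 hev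
      have hle : q ≤ 40 := by nlinarith [mul_le_mul_of_nonneg_left hn0 (Nat.zero_le (9 * q))]
      refine ⟨?_, rfl⟩
      interval_cases q <;> omega
    · exfalso
      simp only [show ¬ (5 : ℕ) = 3 by norm_num, ↓reduceIte] at h3 hev
      have hle : q ≤ 72 := by nlinarith [mul_le_mul_of_nonneg_left hn0 (Nat.zero_le (5 * q))]
      interval_cases q <;> omega
  obtain ⟨rfl, rfl⟩ := hq1
  obtain ⟨y, hy, b, hb, hyb⟩ := exists_noncentral hN P (h360 ▸ by norm_num) hab
  have hPN : (P : Subgroup N) = normalizer ((P : Subgroup N) : Set N) :=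
    eq_of_le_of_card_ge le_normalizer (by rw [hq, hPc]; simp)
  exact hyb (hab y (hPN ▸ hy) b hb)

end Cfsg.Agent.Three68
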