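import Cfsg.Agent.Three68.AlmostA
import Cfsg.Agent.CIT.Main
import Cfsg.Agent.PGraphCIT.Main
import Cfsg.Agent.InvChar68.A6Centralizer
import Cfsg.Agent.S0497
import Cfsg.Agent.S0820
import Cfsg.Agent.S1004
import Cfsg.Agent.EPPO42.Simple

/-!
# Almost simple groups of this kind are simple
-/

set_option autoImplicit false
set_option linter.style.haveILetI false

namespace Cfsg.Agent.Three68

open Subgroup PGraphCIT
open TwoFusionB (nT)
open TwoFusionB.ECHyp (pt stab2)

universe u

/-- The simple groups which occur. -/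
def SocleList (N : Type u) [Group N] : Prop :=
  (∃ (F : Type) (_ : Field F) (_ : Fintype F) (n : ℕ), 2 ≤ n ∧ Fintype.card F = 2 ^ n ∧
      Nonempty (N ≃* Matrix.ProjectiveSpecialLinearGroup (Fin 2) F)) ∨
  (∃ (F : Type) (_ : Field F) (_ : Fintype F), (Fintype.card F = 7 ∨ Fintype.card F = 9) ∧
      Nonempty (N ≃* Matrix.ProjectiveSpecialLinearGroup (Fin 2) F)) ∨
  (∃ (F : Type) (_ : Field F) (_ : Fintype F), Fintype.card F = 4 ∧
      Nonempty (N ≃* Matrix.ProjectiveSpecialLinearGroup (Fin 3) F)) ∨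
  (∃ (F : Type) (_ : Field F) (_ : Fintype F) (m : ℕ), 1 ≤ m ∧
      Fintype.card F = 2 ^ (2 * m + 1) ∧ Nonempty (N ≃* Cfsg.Sz F m))

theorem card_psl_two {F : Type} [Field F] [Fintype F] :
    Nat.gcd 2 (Fintype.card F - 1) * Nat.card (Matrix.ProjectiveSpecialLinearGroup (Fin 2) F) =
      Fintype.card F * (Fintype.card F ^ 2 - 1) := by
  have := LinearGroup.gcd_mul_card_PSL_two (F := F)
  rwa [Nat.card_eq_fintype_card (α := F)] at this

/-- The list. -/
theorem socle_list {N : Type u} [Group N] [Finite N] [IsSimpleGroup N] (hN : ¬ IsMulCommutative N)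
    (hcit : IsCIT N) (hexp : ∀ x : N, 2 ∣ orderOf x → orderOf x = 2 ∨ orderOf x = 4) :
    SocleList N := by
  have hG : ∃ a b : N, a * b ≠ b * a := by
    by_contra h
    push Not at h
    exact hN ⟨⟨h⟩⟩
  rcases CIT.classify hG hcit with ⟨F, iF, iT, hF, ⟨e⟩⟩ | ⟨F, iF, iT, hF, he⟩ | ⟨h, -⟩
  · have hc := card_psl_two (F := F)
    rw [← Nat.card_congr e.toEquiv] at hc
    rcases hF with h9 | ⟨n, hn⟩ | ⟨hp, k, hk⟩
    · exact Or.inr (Or.inl ⟨F, iF, iT, Or.inr h9, ⟨e⟩⟩)
    · refine Or.inl ⟨F, iF, iT, n, ?_, hn, ⟨e⟩⟩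
      by_contra hlt
      have h1 := Fintype.one_lt_card (α := F)
      rw [hn] at hc h1
      obtain rfl | rfl : n = 0 ∨ n = 1 := by omega
      · norm_num at h1
      norm_num at hc
      haveI : Fact (Nat.Prime 3) := ⟨Nat.prime_three⟩
      obtain ⟨P⟩ : Nonempty (Sylow 3 N) := inferInstance
      have hP := SmallGroups.card_sylow_eq (a := 1) (m := 2) (by rw [hc]; norm_num) (by norm_num) P
      have h2 := (P : Subgroup N).card_mul_index
      rw [hP, hc] at h2
      have := SmallGroups.two_mul_card_dvd_index hN (H := (P : Subgroup N)) (fun e => by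
        rw [e, card_top, hc] at hP; norm_num at hP)
      rw [hc, show (P : Subgroup N).index = 2 by omega] at this
      norm_num at this
    · -- the odd primes
      haveI := Fact.mk hp
      haveI : CharP F (Fintype.card F) := charP_of_card_eq_prime rfl
      by_cases h2 : Fintype.card F = 2
      · exfalso
        rw [h2] at hc
        norm_num at hc
        haveI : Fact (Nat.Prime 3) := ⟨Nat.prime_three⟩
        obtain ⟨P⟩ : Nonempty (Sylow 3 N) := inferInstance
        have hP := SmallGroups.card_sylow_eq (a := 1) (m := 2) (by rw [hc]; norm_num) (by norm_num) P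
        have h3 := (P : Subgroup N).card_mul_index
        rw [hP, hc] at h3
        have := SmallGroups.two_mul_card_dvd_index hN (H := (P : Subgroup N)) (fun e => by
          rw [e, card_top, hc] at hP; norm_num at hP)
        rw [hc, show (P : Subgroup N).index = 2 by omega] at this
        norm_num at this
      have hodd : Odd (Fintype.card F) := hp.odd_of_ne_two h2
      have hgcd : Nat.gcd 2 (Fintype.card F - 1) = 2 :=
        Nat.gcd_eq_left (by obtain ⟨j, hj⟩ := hodd; omega)
      have hord : ∀ m : ℕ, m ∣ (Fintype.card F - 1) / 2 ∨ m ∣ (Fintype.card F + 1) / 2 →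
          ∃ x : N, orderOf x = m := by
        intro m hm
        have h3 : m ∈ Set.range
            (orderOf : Matrix.ProjectiveSpecialLinearGroup (Fin 2) F → ℕ) := by
          rw [SL2Tor.range_orderOf_psl (Fintype.card F), Set.mem_setOf_eq, hgcd]
          exact Or.inr hm
        obtain ⟨x, hx⟩ := h3
        exact ⟨e.symm x, (MulEquiv.orderOf_eq e.symm x).trans hx⟩
      have hk3 : k ≤ 3 := by
        by_contra hk4
        obtain ⟨x, hx⟩ := hord 8 (by
          have h4 : (8 : ℕ) ∣ 2 ^ (k - 1) :=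
            (show (8 : ℕ) = 2 ^ 3 by norm_num) ▸ pow_dvd_pow 2 (show 3 ≤ k - 1 by omega)
          have h5 : 2 ^ k = 2 * 2 ^ (k - 1) := by
            rw [← pow_succ']; congr 1; omega
          rcases hk with hk | hk
          · exact Or.inl (by rwa [show (Fintype.card F - 1) / 2 = 2 ^ (k - 1) by omega])
          · exact Or.inr (by rwa [show (Fintype.card F + 1) / 2 = 2 ^ (k - 1) by omega]))
        have := hexp x (by rw [hx]; norm_num)
        omega
      have hval : Fintype.card F = 3 ∨ Fintype.card F = 5 ∨ Fintype.card F = 7 ∨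
          Fintype.card F = 9 := by
        have := hp.two_le
        clear hc hord
        obtain ⟨j, hj⟩ := hodd
        interval_cases k <;> norm_num at hk <;> omega
      rcases hval with h3 | h5 | h7 | h9
      · exfalso
        rw [h3] at hc
        norm_num at hc
        haveI : Fact (Nat.Prime 2) := ⟨Nat.prime_two⟩
        obtain ⟨P⟩ : Nonempty (Sylow 2 N) := inferInstance
        have hc' : Nat.card N = 12 := by omega
        have hP := SmallGroups.card_sylow_eq (a := 2) (m := 3) (by rw [hc']; norm_num) (by norm_num) P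
        have h4 := (P : Subgroup N).card_mul_index
        rw [hP, hc'] at h4
        have := SmallGroups.two_mul_card_dvd_index hN (H := (P : Subgroup N)) (fun e => by
          rw [e, card_top, hc'] at hP; norm_num at hP)
        rw [hc', show (P : Subgroup N).index = 3 by omega] at this
        norm_num [Nat.factorial] at this
      · obtain ⟨K, iK, iKT, hK⟩ := EPPO42.exists_field_four
        obtain ⟨e5⟩ := LinearGroup.psl_two_five (F := F) (by rw [Nat.card_eq_fintype_card, h5])
        obtain ⟨e4⟩ := LinearGroup.psl_two_small (F := K)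
          (Or.inr (by rw [Nat.card_eq_fintype_card, hK]))
        rw [Nat.card_eq_fintype_card, hK] at e4
        exact Or.inl ⟨K, iK, iKT, 2, le_rfl, by rw [hK]; norm_num, ⟨e.trans (e5.trans e4.symm)⟩⟩
      · exact Or.inr (Or.inl ⟨F, iF, iT, Or.inl h7, ⟨e⟩⟩)
      · exact Or.inr (Or.inl ⟨F, iF, iT, Or.inr h9, ⟨e⟩⟩)
  · exact Or.inr (Or.inr (Or.inl ⟨F, iF, iT, hF, he⟩))
  · obtain ⟨F, iF, iT, m, hm, hF, ⟨e⟩⟩ := h
    exact Or.inr (Or.inr (Or.inr
      ⟨F, iF, iT, m, hm, hF, ⟨e.trans (RankOne.SzBridge.szEquiv hF hm).symm⟩⟩))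

variable {X : Type u} [Group X] [Finite X]

/-- Two elements of an elementary Sylow subgroup are conjugate under a two-point stabiliser. -/
theorem ec_conj {N : Type u} [Group N] [Finite N] {T : Sylow 2 N} (hec : TwoFusionB.ECHyp T)
    {y : N ⧸ nT T} (hy : y ≠ pt T) {z w : N} (hz : z ∈ (T : Subgroup N)) (hz1 : z ≠ 1)
    (hw : w ∈ (T : Subgroup N)) (hw1 : w ≠ 1) : ∃ a ∈ stab2 T y, a * z * a⁻¹ = w := by
  have hpt : ∀ {t : N}, t ∈ (T : Subgroup N) → t • pt T = pt T := fun ht =>
    TwoFusionB.smul_one_eq_iff.mpr (le_normalizer ht)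
  obtain ⟨a, hay, ha1, had⟩ := TwoFusionB.exists_conj_fix hec.stronglyEmbedded hy
    (hec.orderOf_eq_two hz hz1) (hpt hz) (hec.orderOf_eq_two hw hw1) (hpt hw)
  exact ⟨a, ⟨ha1, hay⟩, had⟩

/-- Elementary Sylow subgroup: every coset meets an involution centraliser. -/
theorem surj_of_ec (N : Subgroup X) [N.Normal] {T : Sylow 2 N} (hec : TwoFusionB.ECHyp T) :
    ∃ t : X, orderOf t = 2 ∧ ∀ g : X, ∃ n ∈ N, Commute (g * n) t := by
  haveI : Fact (Nat.Prime 2) := ⟨Nat.prime_two⟩
  haveI : Nontrivial (T : Subgroup N) :=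
    Finite.one_lt_card_iff_nontrivial.1 (by have := hec.two_le_card; omega)
  obtain ⟨⟨t, ht⟩, ht1'⟩ := exists_ne (1 : (T : Subgroup N))
  have ht1 : t ≠ 1 := fun e => ht1' (Subtype.ext e)
  refine ⟨t, (Subgroup.orderOf_coe t).trans (hec.orderOf_eq_two ht ht1), fun g => ?_⟩
  obtain ⟨n, hn, hb⟩ := frattini_cover N T g
  set b := g * n with hbdef
  obtain ⟨t', ht', hte⟩ := (mem_normalizer_iff.1 hb (t : X)).1 ⟨t, ht, rfl⟩
  have hte' : (t' : X) = b * (t : X) * b⁻¹ := hte
  obtain ⟨y, hy⟩ := TwoFusionB.exists_ne_coset hec.stronglyEmbedded (pt T)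
  obtain ⟨a, -, ha⟩ := ec_conj hec hy.symm ht ht1 ht' (fun e => ht1 (Subtype.ext
    (conj_eq_one_iff.1 (hte'.symm.trans (congrArg Subtype.val e) : b * (t : X) * b⁻¹ = 1))))
  have ha' : (a : X) * t * (a : X)⁻¹ = t' := congrArg Subtype.val ha
  refine ⟨g⁻¹ * (a : X)⁻¹ * g * n, mul_mem ?_ hn, mul_inv_eq_iff_eq_mul.1 ?_⟩
  · have := (inferInstance : N.Normal).conj_mem _ (inv_mem a.2) g⁻¹
    rwa [inv_inv] at this
  · calc g * (g⁻¹ * (a : X)⁻¹ * g * n) * t * (g * (g⁻¹ * (a : X)⁻¹ * g * n))⁻¹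
        = (a : X)⁻¹ * (b * (t : X) * b⁻¹) * a := by rw [hbdef]; group
      _ = t := by rw [← hte', ← ha']; group

/-- Elementary Sylow subgroup of order at least eight. -/
theorem eq_top_of_ec (hcit : IsCIT X) (N : Subgroup X) [N.Normal] {T : Sylow 2 N}
    (hec : TwoFusionB.ECHyp T) (h8 : 5 ≤ Nat.card T) : N = ⊤ := by
  haveI : Fact (Nat.Prime 2) := ⟨Nat.prime_two⟩
  obtain ⟨y, hy⟩ := TwoFusionB.exists_ne_coset hec.stronglyEmbedded (pt T)
  replace hy := hy.symm
  refine CNCit80.eq_top_of_torus hcit N T (Z := (T : Subgroup N).map N.subtype)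
    (H := (stab2 T y).map N.subtype) le_rfl ?_ ?_ ?_ ?_ ?_ ?_ ?_ ?_ ?_
  · exact fun b hb z hz => (mem_normalizer_iff.1 hb z).1 hz
  · rintro _ ⟨s, hs, rfl⟩ _ ⟨t, ht, rfl⟩
    exact congrArg Subtype.val (hec.comm hs ht)
  · rintro _ ⟨s, hs, rfl⟩
    have := hec.sq_eq_one hs
    rw [pow_two] at this
    exact congrArg Subtype.val this
  · rwa [card_map_of_injective N.subtype_injective]
  · exact map_subtype_le _
  · rw [card_map_of_injective N.subtype_injective]
    exact hec.odd_card_stab2 hy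
  · rintro _ ⟨d, hd, rfl⟩
    exact (mem_nT_iff N _ d).1 (TwoFusionB.ECHyp.stab2_le y hd)
  · rintro _ ⟨z, hz, rfl⟩ hz1 _ ⟨w, hw, rfl⟩ hw1
    obtain ⟨a, ha, had⟩ := ec_conj hec hy hz (fun e => hz1 (by rw [e]; rfl)) hw
      (fun e => hw1 (by rw [e]; rfl))
    exact ⟨a, ⟨a, ha, rfl⟩, congrArg Subtype.val had⟩
  · intro g hgN hg
    obtain ⟨d, hd, t, ht, hdt⟩ := hec.exists_mul_eq hy ((mem_nT_iff N _ ⟨g, hgN⟩).2 hg)
    refine ⟨((d * t * d⁻¹ : N) : X), ⟨_, (mem_normalizer_iff.1
      (TwoFusionB.ECHyp.stab2_le y hd) t).1 ht, rfl⟩, d, ⟨d, hd, rfl⟩, ?_⟩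
    rw [← Subgroup.coe_mul, inv_mul_cancel_right, hdt]

/-- A simple group of order `360` has the dihedral data. -/
theorem data_360 {N : Type u} [Group N] [Finite N] [IsSimpleGroup N] (h360 : Nat.card N = 360) :
    ∃ T : Sylow 2 N, Nonempty ((T : Subgroup N) ≃* DihedralGroup 4) ∧
      ∀ z : N, z ∈ (T : Subgroup N) → z ≠ 1 → (∀ t ∈ (T : Subgroup N), t * z = z * t) →
        centralizer ({z} : Set N) = T := by
  haveI : Fact (Nat.Prime 2) := ⟨Nat.prime_two⟩
  obtain ⟨e⟩ := S0497.result h360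
  have hmem : InvChar68.sigma6 ∈ alternatingGroup (Fin 6) := by
    rw [Equiv.Perm.mem_alternatingGroup]; decide
  set σ : alternatingGroup (Fin 6) := ⟨InvChar68.sigma6, hmem⟩
  have hσ : orderOf σ = 2 := orderOf_eq_prime (Subtype.ext (by
      show InvChar68.sigma6 ^ 2 = 1
      decide)) (fun h => absurd (congrArg Subtype.val h) (by
      show InvChar68.sigma6 ≠ 1
      decide))
  obtain ⟨f⟩ := InvChar68.centralizer_double_transposition σ hσ (by
    show InvChar68.sigma6.support.card = 4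
    decide)
  set z₀ := e.symm σ with hz₀
  have hmap : (centralizer ({σ} : Set (alternatingGroup (Fin 6)))).map e.symm.toMonoidHom =
      centralizer ({z₀} : Set N) := by
    ext g
    rw [mem_centralizer_singleton_iff]
    constructor
    · rintro ⟨a, ha, rfl⟩
      show e.symm a * z₀ = z₀ * e.symm a
      rw [hz₀, ← map_mul, ← map_mul, mem_centralizer_singleton_iff.1 ha]
    · intro h
      refine ⟨e g, mem_centralizer_singleton_iff.2 (e.symm.injective ?_), e.symm_apply_apply g⟩
      rw [map_mul, map_mul, e.symm_apply_apply]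
      exact h
  have e8 : (centralizer ({z₀} : Set N) : Subgroup N) ≃* DihedralGroup 4 :=
    ((MulEquiv.subgroupCongr hmap.symm).trans
      ((centralizer ({σ} : Set (alternatingGroup (Fin 6)))).equivMapOfInjective _
        e.symm.injective).symm).trans f
  have hcard : Nat.card (centralizer ({z₀} : Set N)) = 8 := by
    rw [Nat.card_congr e8.toEquiv, DihedralGroup.nat_card]
  have hp : IsPGroup 2 (centralizer ({z₀} : Set N)) :=
    IsPGroup.of_card (n := 3) (by rw [hcard]; norm_num)
  have hidx : ¬ 2 ∣ (centralizer ({z₀} : Set N)).index := by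
    have h1 := (centralizer ({z₀} : Set N)).card_mul_index
    rw [hcard, h360] at h1
    omega
  refine ⟨hp.toSylow hidx, ⟨e8⟩, fun z hz hz1 hcomm => ?_⟩
  have hz0 : z₀ ∈ centralizer ({z₀} : Set N) := mem_centralizer_singleton_iff.2 rfl
  have hz0ne : z₀ ≠ 1 := fun h => by
    have h1 : orderOf z₀ = 2 := by rw [hz₀, MulEquiv.orderOf_eq, hσ]
    rw [h, orderOf_one] at h1
    omega
  have huniq : ∀ a b : DihedralGroup 4, (∀ x, x * a = a * x) → (∀ x, x * b = b * x) → a ≠ 1 →
      b ≠ 1 → a = b := by decide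
  have hzC : z ∈ centralizer ({z₀} : Set N) := hz
  have h1 := huniq (e8 ⟨z, hzC⟩) (e8 ⟨z₀, hz0⟩)
    (fun x => by
      obtain ⟨⟨x, hx⟩, rfl⟩ := e8.surjective x
      rw [← map_mul, ← map_mul]
      exact congrArg e8 (Subtype.ext (hcomm x hx)))
    (fun x => by
      obtain ⟨⟨x, hx⟩, rfl⟩ := e8.surjective x
      rw [← map_mul, ← map_mul]
      exact congrArg e8 (Subtype.ext (mem_centralizer_singleton_iff.1 hx)))
    (fun h => hz1 (congrArg Subtype.val (e8.injective (h.trans (map_one e8).symm))))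
    (fun h => hz0ne (congrArg Subtype.val (e8.injective (h.trans (map_one e8).symm))))
  rw [show z = z₀ from congrArg Subtype.val (e8.injective h1)]
  rfl

/-- The dihedral cases: the quotient is a `2`-group and there is an element of order four. -/
theorem dihedral_case (hcit : IsCIT X) (N : Subgroup X) [N.Normal] (T : Sylow 2 N)
    (e : (T : Subgroup N) ≃* DihedralGroup 4)
    (hcent : ∀ z : N, z ∈ (T : Subgroup N) → z ≠ 1 → (∀ t ∈ (T : Subgroup N), t * z = z * t) →
      centralizer ({z} : Set N) = T) :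
    IsPGroup 2 (X ⧸ N) ∧ ∃ c : N, orderOf c = 4 ∧ (∀ g : X, ∃ n ∈ N, Commute (g * n) (c : X)) ∧
      ∀ n : N, Commute n c → n ∈ zpowers c := by
  obtain ⟨c, hc, ho, hgen, hs, hCN⟩ := dihedral_data T e hcent
  have hsurj := surj_of_dihedral N T hc ho hgen hs
  refine ⟨isPGroup_quotient hcit N (t := (c : X) ^ 2) ?_ fun g => ?_, c, ho, hsurj, hCN⟩
  · rw [orderOf_pow, Subgroup.orderOf_coe, ho]; norm_num
  · obtain ⟨n, hn, h⟩ := hsurj g
    exact ⟨n, hn, h.pow_right 2⟩

/-- An almost simple group of this kind is simple. -/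
theorem almost_top (hcit : IsCIT X) (hexp : ∀ x : X, 2 ∣ orderOf x → orderOf x = 2 ∨ orderOf x = 4)
    (N : Subgroup X) [N.Normal] [IsSimpleGroup N] (hN : ¬ IsMulCommutative N)
    (hC : centralizer (N : Set X) = ⊥) (hlist : SocleList N) : N = ⊤ := by
  haveI : Fact (Nat.Prime 2) := ⟨Nat.prime_two⟩
  have hcitN : IsCIT N := hcit.subgroup N
  have hev : 2 ∣ Nat.card N := by
    by_contra hc
    have := PF14.feitThompson.{u} N (Nat.odd_iff.2 (Nat.two_dvd_ne_zero.1 hc))
    exact hN ⟨⟨fun a b => IsSimpleGroup.comm_iff_isSolvable.2 this a b⟩⟩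
  rcases hlist with ⟨F, iF, iT, n, hn, hF, ⟨e⟩⟩ | ⟨F, iF, iT, h7 | h9, ⟨e⟩⟩ |
      ⟨F, iF, iT, hF, ⟨e⟩⟩ | ⟨F, iF, iT, m, hm, hF, ⟨e⟩⟩
  · obtain ⟨T⟩ : Nonempty (Sylow 2 N) := inferInstance
    have hTexp : ∀ t ∈ (T : Subgroup N), t ^ 2 = 1 := by
      intro t ht
      obtain ⟨k, hk⟩ := T.2 ⟨t, ht⟩
      rw [← orderOf_dvd_iff_pow_eq_one]
      have h2 : orderOf t ∣ 2 ^ k := orderOf_dvd_of_pow_eq_one (congrArg Subtype.val hk)
      have h3 := (PGraphCIT.psl_order_cases (F := F) (by omega : 0 < n) hF (orderOf t)).1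
        ⟨e t, MulEquiv.orderOf_eq e t⟩
      rcases h3 with h | h | h
      · exact h
      · refine (Nat.eq_one_of_dvd_coprimes ?_ h2 h) ▸ one_dvd 2
        exact ((Nat.prime_two.coprime_iff_not_dvd).2
          (PGraphCIT.not_two_dvd_pow_sub (k := n) (by omega))).pow_left k
      · refine (Nat.eq_one_of_dvd_coprimes ?_ h2 h) ▸ one_dvd 2
        refine ((Nat.prime_two.coprime_iff_not_dvd).2 ?_).pow_left k
        have : 2 ∣ 2 ^ n := dvd_pow_self 2 (by omega)
        omega
    have hec := echyp hN hcitN hev T hTexp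
    by_cases h5 : 5 ≤ Nat.card T
    · exact eq_top_of_ec hcit N hec h5
    obtain ⟨t, ht, hsurj⟩ := surj_of_ec N hec
    refine eq_top_of_sylow_prime hcit N hN (isPGroup_quotient hcit N ht hsurj) Nat.prime_three
      (by norm_num) ?_ ?_
    all_goals
      obtain ⟨F', iF', iT', hF', ⟨e'⟩⟩ := hec.exists_iso_PSL2
      have h4 : Fintype.card F' = 4 := by have := hec.two_le_card; omega
      have h60 : Nat.card N = 60 := by
        rw [Nat.card_congr e'.toEquiv,
          card_psl_two_even F' two_pos (h4.trans (by norm_num) : Fintype.card F' = 2 ^ 2)]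
        norm_num
      rw [h60]; norm_num
  · have hc := card_psl_two (F := F)
    rw [← Nat.card_congr e.toEquiv, h7] at hc
    norm_num at hc
    have h168 : Nat.card N = 168 := by omega
    obtain ⟨T⟩ : Nonempty (Sylow 2 N) := inferInstance
    obtain ⟨hd, -, hcent⟩ := S1004.result h168 T
    exact eq_top_of_sylow_prime hcit N hN
      (dihedral_case hcit N T hd.some hcent).1 Nat.prime_three (by norm_num)
      (by rw [h168]; norm_num) (by rw [h168]; norm_num)
  · have hc := card_psl_two (F := F)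
    rw [← Nat.card_congr e.toEquiv, h9] at hc
    norm_num at hc
    have h360 : Nat.card N = 360 := by omega
    obtain ⟨T, ⟨eT⟩, hcent⟩ := data_360 h360
    obtain ⟨hquot, c, ho, hsurj, hCN⟩ := dihedral_case hcit N T eT hcent
    exact eq_top_of_order_four (fun x hx => by
        have := hexp x (by rw [hx]; norm_num)
        omega) N hquot
      (fun w hw => no_outer_involution hcit N hN hC hquot
        (fun r hr hr2 x hx => real_360 hN hcitN h360 hr hr2 hx) hw) ho hsurj hCN
  · have h20160 : Nat.card N = 20160 := by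
      rw [Nat.card_congr e.toEquiv, CIT.PlaneL34.card_PSL hF]
    obtain ⟨t, ht⟩ := exists_prime_orderOf_dvd_card' (G := N) 2 hev
    have ht' : orderOf (t : X) = 2 := (Subgroup.orderOf_coe t).trans ht
    refine eq_top_of_sylow_prime hcit N hN (isPGroup_quotient hcit N ht' fun g => ?_)
      (by norm_num : Nat.Prime 7) (by norm_num) (by rw [h20160]; norm_num)
      (by rw [h20160]; norm_num)
    set u : N := ⟨g * t * g⁻¹, (inferInstance : N.Normal).conj_mem _ t.2 g⟩ with hu
    have huo : orderOf u = 2 := by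
      rw [← Subgroup.orderOf_coe, ← ht']
      exact MulEquiv.orderOf_eq (MulAut.conj g) (t : X)
    obtain ⟨c, hc⟩ := isConj_iff.1 (S0820.result hF (e t) (e u) ((MulEquiv.orderOf_eq e t).trans ht)
      ((MulEquiv.orderOf_eq e u).trans huo))
    have hc' : ((e.symm c : N) : X) * t * ((e.symm c : N) : X)⁻¹ = g * t * g⁻¹ := by
      have h1 : e.symm c * t * (e.symm c)⁻¹ = u := e.injective (by
        rw [map_mul, map_mul, map_inv, e.apply_symm_apply, hc])
      exact congrArg Subtype.val h1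
    refine ⟨g⁻¹ * ((e.symm c : N) : X)⁻¹ * g, ?_, mul_inv_eq_iff_eq_mul.1 ?_⟩
    · have := (inferInstance : N.Normal).conj_mem _ (inv_mem (e.symm c).2) g⁻¹
      rwa [inv_inv] at this
    · calc g * (g⁻¹ * ((e.symm c : N) : X)⁻¹ * g) * t *
            (g * (g⁻¹ * ((e.symm c : N) : X)⁻¹ * g))⁻¹
          = ((e.symm c : N) : X)⁻¹ * (g * t * g⁻¹) * ((e.symm c : N) : X) := by group
        _ = t := by rw [← hc']; group
  · exact CNCit80.eq_top_of_suzuki hcit N hm hF e

end Cfsg.Agent.Three68
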