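import Cfsg.Agent.S0144
import Cfsg.Agent.Recog71.ThreePrimes
import Cfsg.Prelude.Def_Local
import Cfsg.Agent.BGUniq.LocalFrattini
import Cfsg.Agent.Lib.Thompson.Cores
import Mathlib.GroupTheory.Perm.Cycle.Type
import Mathlib.GroupTheory.Sylow

/-!
# Groups in which `2` is joined to one odd prime only, by elements of order `2 * q` only

Elementary consequences: elementary Sylow `2`-subgroups, solvable centralizers of involutions.
-/

set_option autoImplicit false
set_option linter.style.haveILetI false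

namespace Cfsg.Agent.Three68

open Subgroup

variable {G : Type*} [Group G]

/-- The element orders divisible by `2` or by `q` are among `2`, `q` and `2 * q`. -/
structure EdgeB (G : Type*) [Group G] (q : ℕ) : Prop where
  prime : q.Prime
  ne_two : q ≠ 2
  even_order : ∀ x : G, 2 ∣ orderOf x → orderOf x = 2 ∨ orderOf x = 2 * q
  q_order : ∀ x : G, q ∣ orderOf x → orderOf x = q ∨ orderOf x = 2 * q

variable {q : ℕ}

theorem EdgeB.odd (h : EdgeB G q) : Odd q := h.prime.odd_of_ne_two h.ne_two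

theorem EdgeB.three_le (h : EdgeB G q) : 3 ≤ q := by
  have := h.prime.two_le
  have := h.ne_two
  omega

theorem EdgeB.subgroup (h : EdgeB G q) (H : Subgroup G) : EdgeB H q :=
  ⟨h.prime, h.ne_two, fun x hx => by
    rw [← Subgroup.orderOf_coe] at hx ⊢
    exact h.even_order x hx, fun x hx => by
    rw [← Subgroup.orderOf_coe] at hx ⊢
    exact h.q_order x hx⟩

theorem EdgeB.quotient [Finite G] (h : EdgeB G q) (N : Subgroup G) [N.Normal] :
    EdgeB (G ⧸ N) q := by
  refine ⟨h.prime, h.ne_two, fun x hx => ?_, fun x hx => ?_⟩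
  · obtain ⟨g, hg⟩ := Recog71.exists_orderOf_of_hom_surjective (QuotientGroup.mk'_surjective N) x
    rcases h.even_order g (hg ▸ hx) with h1 | h1
    · exact Or.inl (hg ▸ h1)
    · exact Or.inr (hg ▸ h1)
  · obtain ⟨g, hg⟩ := Recog71.exists_orderOf_of_hom_surjective (QuotientGroup.mk'_surjective N) x
    rcases h.q_order g (hg ▸ hx) with h1 | h1
    · exact Or.inl (hg ▸ h1)
    · exact Or.inr (hg ▸ h1)

theorem EdgeB.two_sq (h : EdgeB G q) {x : G} {k : ℕ} (hx : orderOf x = 2 ^ k) : x ^ 2 = 1 := by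
  rcases Nat.eq_zero_or_pos k with rfl | hk
  · rw [pow_zero, orderOf_eq_one_iff] at hx
    rw [hx, one_pow]
  rcases h.even_order x (hx ▸ dvd_pow_self 2 hk.ne') with h1 | h1
  · rw [← h1, pow_orderOf_eq_one]
  · exfalso
    have h2 : q ∣ 2 ^ k := hx ▸ h1 ▸ dvd_mul_left q 2
    exact h.ne_two ((Nat.prime_dvd_prime_iff_eq h.prime Nat.prime_two).1 (h.prime.dvd_of_dvd_pow h2))

theorem EdgeB.q_pow (h : EdgeB G q) {x : G} {k : ℕ} (hx : orderOf x = q ^ k) : x ^ q = 1 := by
  rcases Nat.eq_zero_or_pos k with rfl | hk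
  · rw [pow_zero, orderOf_eq_one_iff] at hx
    rw [hx, one_pow]
  rcases h.q_order x (hx ▸ dvd_pow_self q hk.ne') with h1 | h1
  · conv_lhs => rw [← h1]
    exact pow_orderOf_eq_one x
  · exfalso
    have h2 : 2 ∣ q ^ k := hx ▸ h1 ▸ dvd_mul_right 2 q
    exact h.ne_two ((Nat.prime_dvd_prime_iff_eq Nat.prime_two h.prime).1
      (Nat.prime_two.dvd_of_dvd_pow h2)).symm

/-- An element commuting with an involution satisfies `x ^ (2 * q) = 1`. -/
theorem EdgeB.commute_involution (h : EdgeB G q) {t x : G} (ht : orderOf t = 2)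
    (hc : Commute t x) : x ^ (2 * q) = 1 := by
  rcases Nat.even_or_odd (orderOf x) with he | ho
  · rcases h.even_order x (even_iff_two_dvd.1 he) with h1 | h1
    · rw [pow_mul, ← h1, pow_orderOf_eq_one, one_pow]
    · rw [← h1, pow_orderOf_eq_one]
  · have hcop : Nat.Coprime (orderOf t) (orderOf x) := ht ▸ Nat.coprime_two_left.2 ho
    have h2 := hc.orderOf_mul_eq_mul_orderOf_of_coprime hcop
    rw [ht] at h2
    refine orderOf_dvd_iff_pow_eq_one.1 ?_
    rcases h.even_order _ (h2 ▸ dvd_mul_right 2 _) with h1 | h1 <;> rw [h1] at h2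
    · have : orderOf x = 1 := by omega
      rw [this]; exact one_dvd _
    · rw [h2]; exact dvd_mul_left _ _

/-- An element of odd order commuting with an involution satisfies `x ^ q = 1`. -/
theorem EdgeB.odd_commute (h : EdgeB G q) {t x : G} (ht : orderOf t = 2) (hc : Commute t x)
    (ho : Odd (orderOf x)) : x ^ q = 1 := by
  refine orderOf_dvd_iff_pow_eq_one.1 ?_
  exact (Nat.Coprime.dvd_mul_left (Nat.coprime_two_right.2 ho)).1
    (orderOf_dvd_iff_pow_eq_one.2 (h.commute_involution ht hc))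

/-- An element commuting with an element of order `q` satisfies `x ^ (2 * q) = 1`. -/
theorem EdgeB.commute_q (h : EdgeB G q) {y x : G} (hy : orderOf y = q) (hc : Commute y x) :
    x ^ (2 * q) = 1 := by
  by_cases hq : q ∣ orderOf x
  · rcases h.q_order x hq with h1 | h1
    · rw [mul_comm, pow_mul]
      conv_lhs => rw [← h1, pow_orderOf_eq_one, one_pow]
    · rw [← h1, pow_orderOf_eq_one]
  · have hcop : Nat.Coprime (orderOf y) (orderOf x) := hy ▸ (h.prime.coprime_iff_not_dvd.2 hq)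
    have h2 := hc.orderOf_mul_eq_mul_orderOf_of_coprime hcop
    rw [hy] at h2
    refine orderOf_dvd_iff_pow_eq_one.1 ?_
    have hq0 := h.prime.pos
    rcases h.q_order _ (h2 ▸ dvd_mul_right q _) with h1 | h1 <;> rw [h1] at h2
    · have : orderOf x = 1 := Nat.eq_of_mul_eq_mul_left hq0 (by rw [mul_one]; exact h2.symm)
      rw [this]; exact one_dvd _
    · have : orderOf x = 2 := Nat.eq_of_mul_eq_mul_left hq0 (by rw [← h2, mul_comm])
      rw [this]; exact dvd_mul_right _ _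

/-- No element whose order is prime to `2 * q` commutes with an involution or an element of
order `q`. -/
theorem EdgeB.eq_one_of_commute (h : EdgeB G q) {y x : G} (hy : orderOf y = 2 ∨ orderOf y = q)
    (hc : Commute y x) (hx : (orderOf x).Coprime (2 * q)) : x = 1 := by
  have h1 : x ^ (2 * q) = 1 := hy.elim (fun h' => h.commute_involution h' hc)
    fun h' => h.commute_q h' hc
  rw [← orderOf_eq_one_iff]
  exact hx.eq_one_of_dvd (orderOf_dvd_iff_pow_eq_one.2 h1)

/-- A finite subgroup of exponent dividing `2 * q` is solvable. -/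
theorem EdgeB.solvable_of_pow (h : EdgeB G q) (H : Subgroup G) [Finite H]
    (hH : ∀ x ∈ H, x ^ (2 * q) = 1) : Group.IsSolvable H := by
  have hprimes : ∀ p : ℕ, p.Prime → p ∣ Nat.card H → p = 2 ∨ p = q := by
    intro p hp hd
    haveI := Fact.mk hp
    obtain ⟨x, hx⟩ := exists_prime_orderOf_dvd_card' p hd
    have h1 : p ∣ 2 * q := hx ▸ orderOf_dvd_iff_pow_eq_one.2 (Subtype.ext (hH x x.2))
    exact (hp.dvd_mul.1 h1).imp (fun h' => (Nat.prime_dvd_prime_iff_eq hp Nat.prime_two).1 h')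
      fun h' => (Nat.prime_dvd_prime_iff_eq hp h.prime).1 h'
  refine S0144.result 2 q ((Nat.card H).factorization 2) ((Nat.card H).factorization q)
    Nat.prime_two h.prime ?_
  refine Nat.eq_of_factorization_eq Nat.card_pos.ne'
    (mul_ne_zero (pow_ne_zero _ two_ne_zero) (pow_ne_zero _ h.prime.ne_zero)) fun p => ?_
  rw [Nat.factorization_mul (pow_ne_zero _ two_ne_zero) (pow_ne_zero _ h.prime.ne_zero),
    Nat.prime_two.factorization_pow, h.prime.factorization_pow, Finsupp.add_apply,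
    Finsupp.single_apply, Finsupp.single_apply]
  by_cases hp2 : 2 = p
  · subst hp2; rw [if_pos rfl, if_neg h.ne_two, add_zero]
  by_cases hpq : q = p
  · subst hpq; rw [if_neg hp2, if_pos rfl, zero_add]
  · rw [if_neg hp2, if_neg hpq, add_zero]
    by_cases hp : p.Prime
    · refine Nat.factorization_eq_zero_of_not_dvd fun hd => ?_
      rcases hprimes p hp hd with h1 | h1
      · exact hp2 h1.symm
      · exact hpq h1.symm
    · exact Nat.factorization_eq_zero_of_not_prime _ hp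

theorem EdgeB.solvable_centralizer [Finite G] (h : EdgeB G q) {y : G}
    (hy : orderOf y = 2 ∨ orderOf y = q) : Group.IsSolvable (centralizer ({y} : Set G)) :=
  h.solvable_of_pow _ fun _ hx => hy.elim
    (fun h' => h.commute_involution h' (mem_centralizer_singleton_iff.1 hx).symm)
    fun h' => h.commute_q h' (mem_centralizer_singleton_iff.1 hx).symm

theorem EdgeB.two_group_sq (h : EdgeB G q) {P : Subgroup G} (hP : IsPGroup 2 P) :
    ∀ x ∈ P, x ^ 2 = 1 := by
  haveI : Fact (Nat.Prime 2) := ⟨Nat.prime_two⟩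
  intro x hx
  obtain ⟨k, hk⟩ := IsPGroup.iff_orderOf.1 hP ⟨x, hx⟩
  rw [Subgroup.orderOf_mk] at hk
  exact h.two_sq hk

theorem commute_of_sq {P : Subgroup G} (hP : ∀ x ∈ P, x ^ 2 = 1) {x y : G} (hx : x ∈ P)
    (hy : y ∈ P) : Commute x y := by
  have hi : ∀ {z : G}, z ∈ P → z⁻¹ = z := fun hz =>
    inv_eq_of_mul_eq_one_right (by rw [← sq]; exact hP _ hz)
  show x * y = y * x
  rw [← hi (mul_mem hx hy), mul_inv_rev, hi hx, hi hy]

theorem EdgeB.sylow_comm (h : EdgeB G q) {S : Sylow 2 G} {x y : G} (hx : x ∈ (S : Subgroup G))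
    (hy : y ∈ (S : Subgroup G)) : Commute x y :=
  commute_of_sq (h.two_group_sq S.2) hx hy

theorem orderOf_two {x : G} (hx : x ^ 2 = 1) (hx1 : x ≠ 1) : orderOf x = 2 :=
  orderOf_eq_prime hx hx1

theorem EdgeB.sylow_involution (h : EdgeB G q) {S : Sylow 2 G} {x : G}
    (hx : x ∈ (S : Subgroup G)) (hx1 : x ≠ 1) : orderOf x = 2 :=
  orderOf_two (h.two_group_sq S.2 x hx) hx1

theorem EdgeB.sylow_le_centralizer (h : EdgeB G q) {S : Sylow 2 G} {x : G}
    (hx : x ∈ (S : Subgroup G)) : (S : Subgroup G) ≤ centralizer ({x} : Set G) := fun _ hy =>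
  mem_centralizer_singleton_iff.2 (h.sylow_comm hy hx).eq

/-- A Sylow `2`-subgroup with at least four elements is not cyclic. -/
theorem EdgeB.not_isCyclic (h : EdgeB G q) {P : Subgroup G} [Finite P] (hP : IsPGroup 2 P)
    (h4 : 4 ≤ Nat.card P) : ¬ IsCyclic P := fun hc => by
  obtain ⟨g, hg⟩ := hc.exists_generator
  have h1 := orderOf_eq_card_of_forall_mem_zpowers hg
  have h2 : orderOf g ∣ 2 := orderOf_dvd_iff_pow_eq_one.2
    (Subtype.ext (h.two_group_sq hP g g.2))
  have := Nat.le_of_dvd two_pos h2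
  omega

/-! ### The odd core of a solvable subgroup containing a Sylow `2`-subgroup -/

/-- `O(L)` as a subgroup of `G`. -/
abbrev core (L : Subgroup G) : Subgroup G := (Cfsg.pPrimeCore 2 L).map L.subtype

theorem core_le (L : Subgroup G) : core L ≤ L := map_subtype_le _

theorem core_odd [Finite G] (L : Subgroup G) : Odd (Nat.card (core L)) := by
  rw [core, Subgroup.card_map_of_injective L.subtype_injective]
  exact Nat.coprime_two_right.1 Thompson.card_pPrimeCore_coprime

theorem le_normalizer_core (L : Subgroup G) : L ≤ normalizer (core L : Set G) := by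
  intro g hg
  refine mem_normalizer_iff.2 fun x => ⟨?_, fun hx => ?_⟩
  · rintro ⟨y, hy, rfl⟩
    exact ⟨⟨g, hg⟩ * y * ⟨g, hg⟩⁻¹,
      (inferInstance : (Cfsg.pPrimeCore 2 L).Normal).conj_mem y hy _, rfl⟩
  · obtain ⟨y, hy, hye⟩ := hx
    refine ⟨⟨g, hg⟩⁻¹ * y * (⟨g, hg⟩⁻¹ : L)⁻¹,
      (inferInstance : (Cfsg.pPrimeCore 2 L).Normal).conj_mem y hy _, ?_⟩
    simp only [coe_subtype] at hye ⊢
    simp [hye, mul_assoc]

theorem mem_pPrimePCore_of_mem [Finite G] (h : EdgeB G q) {L : Subgroup G} [Group.IsSolvable L]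
    (T : Sylow 2 L) {x : L} (hx : x ∈ (T : Subgroup L)) : x ∈ Cfsg.pPrimePCore 2 L := by
  haveI : Fact (Nat.Prime 2) := ⟨Nat.prime_two⟩
  exact BGUniq.sylow_inf_centralizer_le T hx (mem_centralizer_iff.2 fun u hu =>
    ((h.subgroup L).sylow_comm hu.1 hx).eq)

/-- An invariant subgroup of odd order lies in the odd core. -/
theorem EdgeB.le_core [Finite G] (h : EdgeB G q) (S : Sylow 2 G) {L : Subgroup G}
    [Group.IsSolvable L] (hSL : (S : Subgroup G) ≤ L) {U : Subgroup G} (hUL : U ≤ L)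
    (hU : Odd (Nat.card U)) (hSU : (S : Subgroup G) ≤ normalizer (U : Set G)) :
    U ≤ core L := by
  haveI : Fact (Nat.Prime 2) := ⟨Nat.prime_two⟩
  intro u hu
  let T : Sylow 2 L := S.subtype hSL
  let π := QuotientGroup.mk' (Cfsg.pPrimeCore 2 L)
  let uL : L := ⟨u, hUL hu⟩
  suffices hmem : uL ∈ Cfsg.pPrimePCore 2 L by
    have h1 : π uL ∈ Cfsg.pCore 2 (L ⧸ Cfsg.pPrimeCore 2 L) := hmem
    obtain ⟨k, hk⟩ := IsPGroup.iff_orderOf.1 (Thompson.isPGroup_pCore (p := 2)) ⟨_, h1⟩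
    rw [Subgroup.orderOf_mk] at hk
    have h2 : Odd (orderOf (π uL)) :=
      (hU.of_dvd_nat ((Subgroup.orderOf_mk u hu).symm ▸ orderOf_dvd_natCard (⟨u, hu⟩ : U))
        ).of_dvd_nat ((orderOf_map_dvd π uL).trans (by rw [← Subgroup.orderOf_coe]))
    rw [hk] at h2
    rcases Nat.eq_zero_or_pos k with rfl | hk0
    · rw [pow_zero, orderOf_eq_one_iff] at hk
      exact ⟨uL, (QuotientGroup.eq_one_iff _).1 hk, rfl⟩
    · exact absurd h2 (Nat.not_odd_iff_even.2 ((Nat.even_pow).2 ⟨even_two, hk0.ne'⟩))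
  show π uL ∈ Cfsg.pCore 2 (L ⧸ Cfsg.pPrimeCore 2 L)
  refine Thompson.centralizer_pCore_le
    (Thompson.isPSolvable_quotient _ (BGUniq.isPSolvable_of_isSolvable' 2 L))
    Thompson.pPrimeCore_quotient_pPrimeCore (mem_centralizer_iff.2 fun y hy => ?_)
  -- the `2`-core of the quotient is the image of the Sylow subgroup
  let Tb : Sylow 2 (L ⧸ Cfsg.pPrimeCore 2 L) := T.mapSurjective (QuotientGroup.mk'_surjective _)
  obtain ⟨z, hz, hzy⟩ : y ∈ (T : Subgroup L).map π :=
    (Thompson.isPGroup_pCore.le_sylow_of_normal Tb) hy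
  subst hzy
  -- the commutator lies in the odd subgroup `U` and in `O_{2',2}`
  have hc : π (z * uL * z⁻¹ * uL⁻¹) ∈ Cfsg.pCore 2 (L ⧸ Cfsg.pPrimeCore 2 L) := by
    show z * uL * z⁻¹ * uL⁻¹ ∈ Cfsg.pPrimePCore 2 L
    have h1 := mem_pPrimePCore_of_mem h T hz
    haveI : (Cfsg.pPrimePCore 2 L).Normal := Subgroup.Normal.comap Thompson.instPCoreNormal _
    rw [mul_assoc, mul_assoc, ← mul_assoc uL]
    exact mul_mem h1 ((inferInstance : (Cfsg.pPrimePCore 2 L).Normal).conj_mem _ (inv_mem h1) uL)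
  have hcU : ((z * uL * z⁻¹ * uL⁻¹ : L) : G) ∈ U := by
    simp only [Subgroup.coe_mul, Subgroup.coe_inv, uL]
    exact mul_mem ((mem_normalizer_iff.1 (hSU hz) u).1 hu) (inv_mem hu)
  have h1 : π (z * uL * z⁻¹ * uL⁻¹) = 1 := by
    obtain ⟨k, hk⟩ := IsPGroup.iff_orderOf.1 (Thompson.isPGroup_pCore (p := 2))
      ⟨_, hc⟩
    rw [Subgroup.orderOf_mk] at hk
    have h2 : Odd (orderOf (π (z * uL * z⁻¹ * uL⁻¹))) :=
      (hU.of_dvd_nat ((Subgroup.orderOf_mk _ hcU).symm ▸ orderOf_dvd_natCard (⟨_, hcU⟩ : U))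
        ).of_dvd_nat ((orderOf_map_dvd π _).trans (by rw [← Subgroup.orderOf_coe]))
    rw [hk] at h2
    rcases Nat.eq_zero_or_pos k with rfl | hk0
    · rw [pow_zero, orderOf_eq_one_iff] at hk
      exact hk
    · exact absurd h2 (Nat.not_odd_iff_even.2 ((Nat.even_pow).2 ⟨even_two, hk0.ne'⟩))
  simp only [map_mul, map_inv] at h1
  rw [mul_inv_eq_one, mul_inv_eq_iff_eq_mul] at h1
  exact h1

/-- The Frattini factorisation `L = O(L) N_L(S)`. -/
theorem EdgeB.le_core_sup [Finite G] (h : EdgeB G q) (S : Sylow 2 G) {L : Subgroup G}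
    [Group.IsSolvable L] (hSL : (S : Subgroup G) ≤ L) :
    L ≤ core L ⊔ (normalizer ((S : Subgroup G) : Set G) ⊓ L) := by
  haveI : Fact (Nat.Prime 2) := ⟨Nat.prime_two⟩
  intro g hg
  let T : Sylow 2 L := S.subtype hSL
  have hTP : (T : Subgroup L) ⊓ Cfsg.pPrimePCore 2 L = T :=
    inf_eq_left.2 fun x hx => mem_pPrimePCore_of_mem h T hx
  have h1 := BGUniq.pPrimeCore_sup_normalizer_inf_pPrimePCore T
  rw [hTP] at h1
  have h2 : (⟨g, hg⟩ : L) ∈ Cfsg.pPrimeCore 2 L ⊔ normalizer ((T : Subgroup L) : Set L) :=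
    h1 ▸ mem_top _
  rw [mem_sup_of_normal_left] at h2
  obtain ⟨d, hd, n, hn, hdn⟩ := h2
  have : g = (d : G) * (n : G) := congrArg Subtype.val hdn.symm
  rw [this]
  refine mul_mem_sup ⟨d, hd, rfl⟩ ⟨mem_normalizer_iff.2 fun x => ⟨fun hx => ?_, fun hx => ?_⟩, n.2⟩
  · exact (mem_normalizer_iff.1 hn ⟨x, hSL hx⟩).1 hx
  · have hxL : x ∈ L := by
      have := L.mul_mem (L.mul_mem (L.inv_mem n.2) (hSL hx)) n.2
      simpa [mul_assoc] using this
    exact (mem_normalizer_iff.1 hn ⟨x, hxL⟩).2 hx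

end Cfsg.Agent.Three68
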