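import Cfsg.Agent.Three68.Norm
import Cfsg.Agent.Lib.Coprime.Generation
import Cfsg.Agent.PF14.Compose
import Mathlib.GroupTheory.Transfer

/-!
# Signalizers and automizers in groups of type `EdgeB`
-/

set_option autoImplicit false
set_option linter.style.haveILetI false

namespace Cfsg.Agent.Three68

open Subgroup

universe u

variable {G : Type u} [Group G] [Finite G] {q : ℕ}

theorem EdgeB.gen_le (h : EdgeB G q) {S : Subgroup G} (hS : IsPGroup 2 S) (h4 : 4 ≤ Nat.card S)
    {K H : Subgroup G} (hK : Odd (Nat.card K)) (hSK : S ≤ normalizer (K : Set G))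
    (hle : ∀ e ∈ S, e ≠ 1 → K ⊓ centralizer ({e} : Set G) ≤ H) : K ≤ H := by
  haveI : Fact (Nat.Prime 2) := ⟨Nat.prime_two⟩
  haveI : IsMulCommutative S := ⟨⟨fun a b => Subtype.ext
    (commute_of_sq (h.two_group_sq hS) a.2 b.2).eq⟩⟩
  obtain ⟨n, hn⟩ := hS.exists_card_eq
  exact Coprime.le_of_centralizer_le S K H (h.not_isCyclic hS h4) hSK
    (hn ▸ (Nat.coprime_two_left.2 hK).pow_left n) hle

omit [Finite G] in
theorem orderOf_odd_of_mem {K : Subgroup G} (hK : Odd (Nat.card K)) {x : G} (hx : x ∈ K) :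
    Odd (orderOf x) :=
  hK.of_dvd_nat ((Subgroup.orderOf_mk x hx).symm ▸ orderOf_dvd_natCard (⟨x, hx⟩ : K))

theorem EdgeB.core_isPGroup (_h : EdgeB G q) {L : Subgroup G}
    (hL : ∀ x ∈ L, x ^ (2 * q) = 1) : IsPGroup q (core L) := by
  intro x
  refine ⟨1, Subtype.ext ?_⟩
  rw [SubgroupClass.coe_pow, pow_one, OneMemClass.coe_one]
  have ho := orderOf_odd_of_mem (core_odd L) x.2
  exact orderOf_dvd_iff_pow_eq_one.1 ((Nat.Coprime.dvd_mul_left (Nat.coprime_two_right.2 ho)).1
    (orderOf_dvd_iff_pow_eq_one.2 (hL _ (core_le L x.2))))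

omit [Finite G] in
theorem EdgeB.centralizer_pow (h : EdgeB G q) {t : G} (ht : orderOf t = 2) :
    ∀ x ∈ centralizer ({t} : Set G), x ^ (2 * q) = 1 := fun _ hx =>
  h.commute_involution ht (mem_centralizer_singleton_iff.1 hx).symm

theorem EdgeB.core_centralizer_isPGroup (h : EdgeB G q) {t : G} (ht : orderOf t = 2) :
    IsPGroup q (core (centralizer ({t} : Set G))) :=
  h.core_isPGroup (h.centralizer_pow ht)

/-- An element of odd order centralizing `S` lies in each `O(C(t))`. -/
theorem EdgeB.mem_core_of_centralize (h : EdgeB G q) (S : Sylow 2 G) {t c : G}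
    (ht : t ∈ (S : Subgroup G)) (ht1 : t ≠ 1) (hc : c ∈ centralizer ((S : Subgroup G) : Set G))
    (ho : Odd (orderOf c)) : c ∈ core (centralizer ({t} : Set G)) := by
  haveI := h.solvable_centralizer (Or.inl (h.sylow_involution ht ht1))
  refine h.le_core S (h.sylow_le_centralizer ht) (U := zpowers c) (zpowers_le.2 ?_) ?_ ?_
    (mem_zpowers c)
  · exact mem_centralizer_singleton_iff.2 (mem_centralizer_iff.1 hc t ht).symm
  · rwa [Nat.card_zpowers]
  · intro s hs
    refine mem_normalizer_iff.2 fun x => ?_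
    have hsc : s * c = c * s := mem_centralizer_iff.1 hc s hs
    constructor
    · intro hx
      obtain ⟨i, rfl⟩ := mem_zpowers_iff.1 hx
      rw [((show Commute s c from hsc).zpow_right i).eq, mul_inv_cancel_right]
      exact hx
    · intro hx
      obtain ⟨i, hi⟩ := mem_zpowers_iff.1 hx
      have h1 : x = s⁻¹ * c ^ i * s := by rw [hi]; group
      rw [h1, mul_assoc, ← ((show Commute s c from hsc).zpow_right i).eq, inv_mul_cancel_left]
      exact ⟨i, rfl⟩

omit [Finite G] in
/-- A fixed-point-free element of odd prime-power order has a fixed-point-free power of prime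
order. -/
theorem EdgeB.exists_prime_fpf (h : EdgeB G q) {U : Subgroup G} (hU : IsPGroup 2 U) {x : G}
    {p k : ℕ} (hp : p.Prime) (hp2 : p ≠ 2) (hx : orderOf x = p ^ k) (hx1 : x ≠ 1)
    (hfix : ∀ u ∈ U, Commute x u → u = 1) :
    ∃ z ∈ zpowers x, orderOf z = p ∧ ∀ u ∈ U, Commute z u → u = 1 := by
  haveI := Fact.mk hp
  obtain ⟨j, rfl⟩ : ∃ j, k = j + 1 := by
    refine ⟨k - 1, (Nat.sub_add_cancel (Nat.pos_of_ne_zero fun hk => hx1 ?_)).symm⟩
    rwa [hk, pow_zero, orderOf_eq_one_iff] at hx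
  refine ⟨x ^ p ^ j, pow_mem (mem_zpowers x) _, ?_, ?_⟩
  · rw [orderOf_pow' _ (pow_ne_zero _ hp.ne_zero), hx, Nat.gcd_eq_right (pow_dvd_pow p j.le_succ),
      pow_succ, Nat.mul_div_cancel_left _ (pow_pos hp.pos _)]
  intro u hu hc
  by_contra hu1
  have hz : orderOf (x ^ p ^ j) = p := by
    rw [orderOf_pow' _ (pow_ne_zero _ hp.ne_zero), hx, Nat.gcd_eq_right (pow_dvd_pow p j.le_succ),
      pow_succ, Nat.mul_div_cancel_left _ (pow_pos hp.pos _)]
  have hu2 : orderOf u = 2 := orderOf_two (h.two_group_sq hU u hu) hu1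
  by_cases hpq : p = q
  · subst hpq
    have h1 : p ^ (j + 1) ∣ p := hx ▸ orderOf_dvd_iff_pow_eq_one.2 (h.q_pow hx)
    have hj : j = 0 := by
      have := Nat.le_of_dvd hp.pos h1
      have h2 := hp.two_le
      by_contra hj
      have : p ^ 2 ≤ p ^ (j + 1) := Nat.pow_le_pow_right hp.pos (by omega)
      nlinarith
    subst hj
    rw [pow_zero, pow_one] at hc
    exact hu1 (hfix u hu hc)
  · have h1 := h.eq_one_of_commute (Or.inl hu2) hc.symm (by
      rw [hz, Nat.coprime_mul_iff_right]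
      exact ⟨(Nat.coprime_primes hp Nat.prime_two).2 hp2, (Nat.coprime_primes hp h.prime).2 hpq⟩)
    rw [h1, orderOf_one] at hz
    exact hp.ne_one hz.symm

/-- A nonsolvable subgroup containing `S` does not centralize it in its normalizer. -/
theorem exists_moving (S : Sylow 2 G) {L : Subgroup G} (hSL : (S : Subgroup G) ≤ L)
    (hL : ¬ Group.IsSolvable L) :
    ∃ x ∈ L, x ∈ normalizer ((S : Subgroup G) : Set G) ∧
      ∃ s ∈ (S : Subgroup G), ¬ Commute x s := by
  haveI : Fact (Nat.Prime 2) := ⟨Nat.prime_two⟩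
  by_contra hcon
  push Not at hcon
  let T : Sylow 2 L := S.subtype hSL
  have hT : normalizer ((T : Subgroup L) : Set L) ≤ centralizer ((T : Subgroup L) : Set L) := by
    intro g hg
    refine mem_centralizer_iff.2 fun s hs => Subtype.ext ?_
    refine ((hcon g g.2 (mem_normalizer_iff.2 fun y => ⟨fun hy => ?_, fun hy => ?_⟩) s hs).eq).symm
    · exact (mem_normalizer_iff.1 hg ⟨y, hSL hy⟩).1 hy
    · have hyL : y ∈ L := by
        have := L.mul_mem (L.mul_mem (L.inv_mem g.2) (hSL hy)) g.2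
        simpa [mul_assoc] using this
      exact (mem_normalizer_iff.1 hg ⟨y, hyL⟩).2 hy
  have hc := MonoidHom.ker_transferSylow_isComplement' T hT
  set K := (MonoidHom.transferSylow T hT).ker
  have hodd : Odd (Nat.card K) := by
    rw [← hc.index_eq_card]
    exact Nat.odd_iff.2 (Nat.two_dvd_ne_zero.1 T.not_dvd_index)
  have hK : Group.IsSolvable K := PF14.feitThompson.{u} K hodd
  have hp : IsPGroup 2 (L ⧸ K) := by
    obtain ⟨n, hn⟩ := T.2.exists_card_eq
    refine IsPGroup.of_card (n := n) ?_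
    rw [← hn, ← Subgroup.index_eq_card, hc.symm.index_eq_card]
  haveI := hp.isNilpotent
  exact hL (Group.isSolvable_of_ker_le_range K.subtype (QuotientGroup.mk' K)
    (by rw [range_subtype, QuotientGroup.ker_mk']))

/-- A nonsolvable subgroup with Sylow subgroup a four group contains an element of order three
permuting the involutions of that subgroup. -/
theorem EdgeB.exists_three (h : EdgeB G q) (S : Sylow 2 G) (hS4 : Nat.card (S : Subgroup G) = 4)
    {L : Subgroup G} (hSL : (S : Subgroup G) ≤ L) (hL : ¬ Group.IsSolvable L) :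
    ∃ a ∈ L, orderOf a = 3 ∧ a ∈ normalizer ((S : Subgroup G) : Set G) ∧
      ∀ s ∈ (S : Subgroup G), Commute a s → s = 1 := by
  classical
  haveI : Fact (Nat.Prime 2) := ⟨Nat.prime_two⟩
  obtain ⟨x, hxL, hxN, s₀, hs₀, hns⟩ := exists_moving S hSL hL
  -- the odd part of `x` moves `S` as well
  set n := orderOf x with hn
  obtain ⟨k, m, hm, hnm⟩ : ∃ k m, ¬ 2 ∣ m ∧ n = 2 ^ k * m :=
    Nat.exists_eq_pow_mul_and_not_dvd (orderOf_pos x).ne' 2 (by norm_num)
  set N := normalizer ((S : Subgroup G) : Set G)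
  have hmS : x ^ m ∈ (S : Subgroup G) := by
    have hp : IsPGroup 2 ((S : Subgroup G) ⊔ zpowers (x ^ m) : Subgroup G) := by
      refine IsPGroup.to_sup_of_normal_left' S.2 ?_ (zpowers_le.2 (pow_mem hxN m))
      refine IsPGroup.of_card (n := k) ?_
      rw [Nat.card_zpowers, orderOf_pow, ← hn, hnm, Nat.gcd_eq_right (dvd_mul_left m _),
        Nat.mul_div_cancel _ (Nat.pos_of_ne_zero fun hm0 => hm (by rw [hm0]; exact dvd_zero 2))]
    rw [← S.3 hp le_sup_left]
    exact (le_sup_right : zpowers (x ^ m) ≤ _) (mem_zpowers _)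
  -- Bezout
  obtain ⟨y, hy, hyo, hyns⟩ : ∃ y ∈ zpowers x, Odd (orderOf y) ∧ ¬ Commute y s₀ := by
    refine ⟨x ^ 2 ^ k, pow_mem (mem_zpowers x) _, ?_, fun hc => hns ?_⟩
    · rw [orderOf_pow, ← hn, hnm, Nat.gcd_eq_right (dvd_mul_right _ m),
        Nat.mul_div_cancel_left _ (pow_pos two_pos k)]
      exact Nat.odd_iff.2 (Nat.two_dvd_ne_zero.1 hm)
    · have hcm : Commute (x ^ m) s₀ := h.sylow_comm hmS hs₀
      have hcop : Nat.Coprime (2 ^ k) m :=
        Nat.Coprime.pow_left k (Nat.prime_two.coprime_iff_not_dvd.2 hm)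
      have hb := Nat.gcd_eq_gcd_ab (2 ^ k) m
      rw [hcop.gcd_eq_one] at hb
      have hx : x = (x ^ 2 ^ k) ^ Nat.gcdA (2 ^ k) m * (x ^ m) ^ Nat.gcdB (2 ^ k) m := by
        rw [← zpow_natCast, ← zpow_natCast x m, ← zpow_mul, ← zpow_mul, ← zpow_add, ← hb,
          Nat.cast_one, zpow_one]
      rw [hx]
      exact (hc.zpow_left _).mul_left (hcm.zpow_left _)
  have hyN : y ∈ N := (zpowers_le.2 hxN) hy
  -- the images of `s` under conjugation
  haveI : Nontrivial (S : Subgroup G) := Finite.one_lt_card_iff_nontrivial.1 (by omega)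
  haveI : IsKleinFour (S : Subgroup G) :=
    ⟨by rw [hS4], Monoid.exponent_eq_prime_iff Nat.prime_two |>.2 fun v hv => by
      refine orderOf_two (Subtype.ext ?_) hv
      exact h.two_group_sq S.2 v v.2⟩
  set c : G → G := fun v => y * v * y⁻¹ with hc
  have hcS : ∀ v ∈ (S : Subgroup G), c v ∈ (S : Subgroup G) := fun v hv =>
    (mem_normalizer_iff.1 hyN v).1 hv
  -- `y` has no fixed point, and its cube is trivial on `S`
  have key : ∀ u ∈ (S : Subgroup G), Commute y u → u = 1 := by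
    intro u hu hcu
    by_contra hu1
    apply hyns
    have hy2 : Commute (y ^ 2) s₀ := by
      by_cases hs0u : s₀ = u
      · subst hs0u; exact hcu.pow_left 2
      by_cases hs01 : s₀ = 1
      · subst hs01; exact Commute.one_right _
      have hci : ∀ v, c v = v → Commute y v := fun v hv => by
        rw [hc] at hv; exact mul_inv_eq_iff_eq_mul.1 hv
      have h1 : c s₀ ≠ 1 := fun h' => hs01 (by simpa [hc] using h')
      have h2 : c s₀ ≠ u := fun h' => hs0u (by
        have : c s₀ = c u := by rw [h', hc]; exact (mul_inv_eq_of_eq_mul hcu.eq).symm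
        simpa [hc] using this)
      have h3 : c s₀ ≠ s₀ := fun h' => hyns (hci _ h')
      have e1 := IsKleinFour.eq_mul_of_ne_all (x := (⟨u, hu⟩ : (S : Subgroup G))) (y := ⟨s₀, hs₀⟩)
        (z := ⟨c s₀, hcS _ hs₀⟩) (fun h' => hu1 (congrArg Subtype.val h'))
        (fun h' => hs01 (congrArg Subtype.val h')) (fun h' => hs0u (congrArg Subtype.val h').symm)
        (fun h' => h1 (congrArg Subtype.val h')) (fun h' => h2 (congrArg Subtype.val h'))
        (fun h' => h3 (congrArg Subtype.val h'))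
      have e2 : c s₀ = u * s₀ := congrArg Subtype.val e1
      have hcuu : c u = u := by rw [hc]; exact mul_inv_eq_of_eq_mul hcu.eq
      have e3 : c (c s₀) = s₀ := by
        have hmul : c (u * s₀) = c u * c s₀ := by simp only [hc]; group
        rw [e2, hmul, hcuu, e2, ← mul_assoc, ← sq, h.two_group_sq S.2 u hu, one_mul]
      show y ^ 2 * s₀ = s₀ * y ^ 2
      refine mul_inv_eq_iff_eq_mul.1 ?_
      calc y ^ 2 * s₀ * (y ^ 2)⁻¹ = c (c s₀) := by simp only [hc, sq]; group
        _ = s₀ := e3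
    obtain ⟨j, hj⟩ := hyo
    have hy1 : (y ^ 2) ^ (j + 1) = y := by
      rw [← pow_mul, show 2 * (j + 1) = orderOf y + 1 by omega, pow_succ, pow_orderOf_eq_one,
        one_mul]
    rw [← hy1]
    exact hy2.pow_left _
  have hcube : ∀ v ∈ (S : Subgroup G), Commute (y ^ 3) v := by
    intro v hv
    by_cases hv1 : v = 1
    · subst hv1; exact Commute.one_right _
    have hfix : ∀ w, c w = w → Commute y w := fun w hw => by
      rw [hc] at hw; exact mul_inv_eq_iff_eq_mul.1 hw
    have hne : ∀ w ∈ (S : Subgroup G), w ≠ 1 → c w ≠ w := fun w hw hw1 h' =>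
      hw1 (key w hw (hfix w h'))
    have h1 : ∀ w, w ≠ 1 → c w ≠ 1 := fun w hw h' => hw (by simpa [hc] using h')
    have hinj : ∀ w w', c w = c w' → w = w' := fun w w' h' => by simpa [hc] using h'
    set v1 := c v
    set v2 := c v1
    have hv1S := hcS v hv
    have hv2S := hcS v1 hv1S
    have hv3S := hcS v2 hv2S
    have g1 : v1 ≠ v := hne v hv hv1
    have g2 : v2 ≠ v1 := hne v1 hv1S (h1 v hv1)
    have g3 : c v2 ≠ v2 := hne v2 hv2S (h1 _ (h1 v hv1))
    have g4 : v2 ≠ v := fun h' => by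
      -- a transposition has odd order acting as itself
      obtain ⟨j, hj⟩ := hyo
      have hy2 : Commute (y ^ 2) v := by
        show y ^ 2 * v = v * y ^ 2
        refine mul_inv_eq_iff_eq_mul.1 ?_
        calc y ^ 2 * v * (y ^ 2)⁻¹ = c (c v) := by simp only [hc, sq]; group
          _ = v := h'
      refine g1 (mul_inv_eq_of_eq_mul ?_)
      have hy1 : (y ^ 2) ^ (j + 1) = y := by
        rw [← pow_mul, show 2 * (j + 1) = orderOf y + 1 by omega, pow_succ, pow_orderOf_eq_one,
          one_mul]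
      rw [← hy1]
      exact (hy2.pow_left _).eq
    have g5 : c v2 ≠ v1 := fun h' => g4 (hinj _ _ h')
    have e : c v2 = v := by
      by_contra g6
      have e1 := IsKleinFour.eq_mul_of_ne_all (x := (⟨v1, hv1S⟩ : (S : Subgroup G))) (y := ⟨v2, hv2S⟩)
        (z := ⟨v, hv⟩) (fun h' => h1 v hv1 (congrArg Subtype.val h'))
        (fun h' => h1 _ (h1 v hv1) (congrArg Subtype.val h'))
        (fun h' => g2 (congrArg Subtype.val h').symm)
        (fun h' => hv1 (congrArg Subtype.val h')) (fun h' => g1 (congrArg Subtype.val h').symm)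
        (fun h' => g4 (congrArg Subtype.val h').symm)
      have e2 := IsKleinFour.eq_mul_of_ne_all (x := (⟨v1, hv1S⟩ : (S : Subgroup G))) (y := ⟨v2, hv2S⟩)
        (z := ⟨c v2, hv3S⟩) (fun h' => h1 v hv1 (congrArg Subtype.val h'))
        (fun h' => h1 _ (h1 v hv1) (congrArg Subtype.val h'))
        (fun h' => g2 (congrArg Subtype.val h').symm)
        (fun h' => h1 _ (h1 _ (h1 v hv1)) (congrArg Subtype.val h'))
        (fun h' => g5 (congrArg Subtype.val h')) (fun h' => g3 (congrArg Subtype.val h'))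
      exact g6 (congrArg Subtype.val (e2.trans e1.symm))
    show y ^ 3 * v = v * y ^ 3
    refine mul_inv_eq_iff_eq_mul.1 ?_
    calc y ^ 3 * v * (y ^ 3)⁻¹ = c (c (c v)) := by simp only [hc, pow_succ, pow_zero, one_mul]; group
      _ = v := e
  -- the `3`-part
  obtain ⟨i, r, hr, hyr⟩ : ∃ i r, ¬ 3 ∣ r ∧ orderOf y = 3 ^ i * r :=
    Nat.exists_eq_pow_mul_and_not_dvd (orderOf_pos y).ne' 3 (by norm_num)
  have hz : orderOf (y ^ r) = 3 ^ i := by
    rw [orderOf_pow, hyr, Nat.gcd_eq_right (dvd_mul_left r _),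
      Nat.mul_div_cancel _ (Nat.pos_of_ne_zero fun hr0 => hr (by rw [hr0]; exact dvd_zero 3))]
  have hzfix : ∀ u ∈ (S : Subgroup G), Commute (y ^ r) u → u = 1 := by
    intro u hu hcu
    refine key u hu ?_
    have hb := Nat.gcd_eq_gcd_ab r 3
    rw [((Nat.prime_three.coprime_iff_not_dvd.2 hr).symm).gcd_eq_one] at hb
    have hy' : y = (y ^ r) ^ Nat.gcdA r 3 * (y ^ 3) ^ Nat.gcdB r 3 := by
      rw [← zpow_natCast, ← zpow_natCast y 3, ← zpow_mul, ← zpow_mul, ← zpow_add, ← hb,
        Nat.cast_one, zpow_one]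
    rw [hy']
    exact (hcu.zpow_left _).mul_left ((hcube u hu).zpow_left _)
  have hz1 : y ^ r ≠ 1 := fun h1 => by
    obtain ⟨v, hv, hv1⟩ : ∃ v ∈ (S : Subgroup G), v ≠ 1 :=
      ⟨s₀, hs₀, fun h' => hns (h' ▸ Commute.one_right x)⟩
    exact hv1 (hzfix v hv (h1 ▸ Commute.one_left v))
  obtain ⟨a, ha, hao, hafix⟩ := h.exists_prime_fpf S.2 Nat.prime_three (by norm_num) hz hz1 hzfix
  have hax : a ∈ zpowers x := (zpowers_le.2 (pow_mem hy r)) ha
  exact ⟨a, (zpowers_le.2 hxL) hax, hao, (zpowers_le.2 hxN) hax, hafix⟩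

end Cfsg.Agent.Three68
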