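import Cfsg.Agent.Three68.Centralizer
import Cfsg.Agent.Lib.Solvable.Basic
import Mathlib.GroupTheory.Transfer
import Mathlib.GroupTheory.Nilpotent

/-!
# Groups of odd order transitive on the nonidentity elements of an elementary abelian `2`-group
-/

set_option autoImplicit false
set_option linter.style.haveILetI false

namespace Cfsg.Agent.Three68

open Subgroup

/-- The norm of a fixed-point-free operator of finite order vanishes. -/
theorem norm_eq_one_of_fpf {H V : Type*} [Group H] [CommGroup V] (φ : H →* MulAut V) (a : H)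
    {p : ℕ} (hap : a ^ p = 1) (hfix : ∀ v, φ a v = v → v = 1) (v : V) :
    ∏ i ∈ Finset.range p, φ (a ^ i) v = 1 := by
  refine hfix _ ?_
  rw [map_prod]
  have hmul : ∀ i, φ a (φ (a ^ i) v) = φ (a ^ (i + 1)) v := fun i => by
    rw [pow_succ', map_mul]; rfl
  simp only [hmul]
  have h1 := (Finset.prod_range_succ' (fun i => φ (a ^ i) v) p).symm.trans
    (Finset.prod_range_succ (fun i => φ (a ^ i) v) p)
  rw [pow_zero, hap] at h1
  exact mul_right_cancel h1

/-- A Mersenne number which is a prime power is a prime. -/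
theorem mersenne_prime_power {q k n : ℕ} (hq : q.Prime) (hodd : Odd q) (hn : 2 ≤ n)
    (h : q ^ k + 1 = 2 ^ n) : k = 1 := by
  have h4 : 4 ∣ 2 ^ n := pow_dvd_pow 2 hn
  have hk : Odd k := by
    by_contra hk
    obtain ⟨i, rfl⟩ := Nat.not_odd_iff_even.1 hk
    obtain ⟨c, hc⟩ := hodd.pow (n := i)
    rw [pow_add, hc] at h
    ring_nf at h
    omega
  obtain ⟨a, ha, ha'⟩ := (Nat.dvd_prime_pow Nat.prime_two).1
    (show q + 1 ∣ 2 ^ n by
      have := hk.nat_add_dvd_pow_add_pow q 1
      rwa [one_pow, h] at this)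
  obtain ⟨i, rfl⟩ := hk
  rcases ha.eq_or_lt with rfl | hlt
  · exact Nat.pow_right_injective hq.two_le
      (show q ^ (2 * i + 1) = q ^ 1 by rw [pow_one]; omega)
  exfalso
  obtain ⟨c, hc⟩ := hodd
  have hq1 : (2 : ℤ) ^ (a + 1) ∣ (q : ℤ) ^ 2 - 1 := by
    refine ⟨(c : ℤ), ?_⟩
    have ha'' : (q : ℤ) + 1 = (2 : ℤ) ^ a := by exact_mod_cast ha'
    rw [show (q : ℤ) ^ 2 - 1 = ((q : ℤ) + 1) * ((q : ℤ) - 1) by ring, ha'', pow_succ, hc]
    push_cast
    ring
  have hqk : (2 : ℤ) ^ (a + 1) ∣ (q : ℤ) ^ (2 * i + 1) - q := by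
    rw [show (q : ℤ) ^ (2 * i + 1) - q = q * (((q : ℤ) ^ 2) ^ i - 1) by ring]
    exact Dvd.dvd.mul_left (hq1.trans (sub_one_dvd_pow_sub_one _ _)) _
  have h1 : (2 : ℤ) ^ (a + 1) ∣ (q : ℤ) ^ (2 * i + 1) + 1 := by
    have : 2 ^ (a + 1) ∣ q ^ (2 * i + 1) + 1 := by rw [h]; exact pow_dvd_pow 2 hlt
    exact_mod_cast this
  have h2 := dvd_sub h1 hqk
  rw [show (q : ℤ) ^ (2 * i + 1) + 1 - ((q : ℤ) ^ (2 * i + 1) - q) = (q : ℤ) + 1 by ring] at h2
  have h3 : 2 ^ (a + 1) ∣ q + 1 := by exact_mod_cast h2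
  rw [ha', Nat.pow_dvd_pow_iff_le_right (by norm_num)] at h3
  omega

/-- `A` has a normal `q`-complement regular on the nonidentity points, and the elements of order
`q` fix one point each. -/
theorem act_structure {A V : Type*} [Group A] [Finite A] [Group.IsSolvable A] [CommGroup V]
    [Finite V] {q : ℕ} (φ : A →* MulAut V) (hinj : Function.Injective φ) (h : EdgeB A q)
    (hA : Odd (Nat.card A)) (hV : ∀ v : V, v ^ 2 = 1) (hV4 : 4 ≤ Nat.card V)
    (hstab : ∀ a v, v ≠ 1 → φ a v = v → a ^ q = 1)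
    (htrans : ∀ v w : V, v ≠ 1 → w ≠ 1 → ∃ a, φ a v = w)
    (hns : ∃ a, a ≠ 1 ∧ ∃ v, v ≠ 1 ∧ φ a v = v) :
    ∃ (K : Subgroup A) (y : A) (t : V), K.Normal ∧ K.index = q ∧ orderOf y = q ∧ y ∉ K ∧
      t ≠ 1 ∧ φ y t = t ∧ (∀ v, φ y v = v → v = 1 ∨ v = t) ∧ (∀ k ∈ K, φ k t = t → k = 1) ∧
      Nat.card K + 1 = Nat.card V ∧ (∀ k ∈ K, Commute y k → k = 1) ∧
      (∀ a, ∃ i, i < q ∧ (y ^ i)⁻¹ * a ∈ K) ∧ (∀ a, a ∈ K ↔ ¬ q ∣ orderOf a) := by
  classical
  haveI := Fact.mk h.prime
  haveI : Fact (Nat.Prime 2) := ⟨Nat.prime_two⟩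
  obtain ⟨y, hy1, t, ht1, hyt⟩ := hns
  have hyo : orderOf y = q := orderOf_eq_prime (hstab y t ht1 hyt) hy1
  have hmul : ∀ a b v, φ (a * b) v = φ a (φ b v) := fun a b v => by rw [map_mul]; rfl
  have hinvA : ∀ a v, φ a⁻¹ (φ a v) = v := fun a v => by
    rw [← hmul, inv_mul_cancel, map_one]; rfl
  have htriv : ∀ a, (∀ v, φ a v = v) → a = 1 := fun a ha =>
    hinj (by rw [map_one]; exact MulEquiv.ext ha)
  have hVp : IsPGroup 2 V := fun v => ⟨1, by rw [pow_one]; exact hV v⟩
  obtain ⟨n, hn⟩ := hVp.exists_card_eq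
  have hodd : ∀ a : A, Odd (orderOf a) := fun a => hA.of_dvd_nat (orderOf_dvd_natCard a)
  have hpodd : ∀ p : ℕ, p.Prime → p ∣ Nat.card A → p ≠ 2 := fun p _ hd e => by
    subst e
    exact Nat.not_even_iff_odd.2 hA (even_iff_two_dvd.2 hd)
  -- there is a prime other than `q`
  obtain ⟨p, hp, hpA, hpq⟩ : ∃ p, p.Prime ∧ p ∣ Nat.card A ∧ p ≠ q := by
    by_contra hcon
    push Not at hcon
    obtain ⟨e, he⟩ : ∃ e, Nat.card A = q ^ e :=
      ⟨_, Nat.eq_prime_pow_of_unique_prime_dvd Nat.card_pos.ne' fun {d} hd hdA => hcon d hd hdA⟩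
    have hAq : IsPGroup q A := IsPGroup.of_card he
    haveI : Nontrivial A := ⟨⟨y, 1, hy1⟩⟩
    haveI := hAq.center_nontrivial
    obtain ⟨⟨z, hz⟩, hz1⟩ := exists_ne (1 : center A)
    have hz1' : z ≠ 1 := fun e => hz1 (Subtype.ext e)
    have hcz : ∀ a, a * z = z * a := mem_center_iff.1 hz
    -- the orbit of `t` has `q` elements
    let St : Subgroup A :=
      { carrier := {a | φ a t = t}
        one_mem' := by simp
        mul_mem' := fun {a b} ha hb => by
          show φ (a * b) t = t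
          rw [hmul, show φ b t = t from hb]; exact ha
        inv_mem' := fun {a} ha => by
          show φ a⁻¹ t = t
          nth_rewrite 1 [← (ha : φ a t = t)]
          exact hinvA a t }
    let f : A ⧸ St → {v : V // v ≠ 1} := Quotient.lift
      (fun a => ⟨φ a t, fun e => ht1 (by rw [← hinvA a t, e, map_one])⟩) fun a b e => by
        have hmem : φ (a⁻¹ * b) t = t := QuotientGroup.leftRel_apply.1 e
        refine Subtype.ext ?_
        show φ a t = φ b t
        conv_lhs => rw [← hmem]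
        rw [← hmul, mul_inv_cancel_left]
    have hf : Function.Bijective f := by
      refine ⟨?_, ?_⟩
      · rintro ⟨a⟩ ⟨b⟩ e
        have e' : φ a t = φ b t := congrArg Subtype.val e
        refine Quotient.sound (QuotientGroup.leftRel_apply.2 ?_)
        show φ (a⁻¹ * b) t = t
        rw [hmul, ← e']; exact hinvA a t
      · rintro ⟨v, hv⟩
        obtain ⟨a, ha⟩ := htrans t v ht1 hv
        exact ⟨QuotientGroup.mk a, Subtype.ext ha⟩
    have hm : St.index = Nat.card {v : V // v ≠ 1} :=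
      St.index_eq_card.trans (Nat.card_eq_of_bijective f hf)
    have hm' : Nat.card {v : V // v ≠ 1} + 1 = Nat.card V := by
      have := Fintype.ofFinite V
      rw [Nat.card_eq_fintype_card, Nat.card_eq_fintype_card, Fintype.card_subtype_compl,
        Fintype.card_subtype_eq]
      have := Fintype.card_pos (α := V)
      omega
    obtain ⟨k, -, hk⟩ := (Nat.dvd_prime_pow h.prime).1 (he ▸ St.index_dvd_card)
    have hn2 : 2 ≤ n := by
      by_contra hn2
      have h2 : (2 : ℕ) ^ n ≤ 2 ^ 1 := Nat.pow_le_pow_right (by norm_num) (by omega)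
      rw [← hn] at h2; omega
    have hk1 : k = 1 := mersenne_prime_power h.prime h.odd hn2 (by rw [← hk, hm, hm', hn])
    subst hk1
    rw [pow_one] at hk
    -- `z` moves `t`, so its powers fill the orbit
    have hzt : φ z t ≠ t := by
      intro e
      refine hz1' (htriv z fun v => ?_)
      by_cases hv : v = 1
      · rw [hv, map_one]
      obtain ⟨a, ha⟩ := htrans t v ht1 hv
      rw [← ha, ← hmul, ← hcz, hmul, e]
    have hzo : orderOf z = q := by
      obtain ⟨j, hj⟩ := hAq z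
      obtain ⟨i, -, hi⟩ := (Nat.dvd_prime_pow h.prime).1 (orderOf_dvd_of_pow_eq_one hj)
      exact orderOf_eq_prime (h.q_pow hi) hz1'
    let g : Fin q → {v : V // v ≠ 1} := fun i =>
      ⟨φ (z ^ (i : ℕ)) t, fun e => ht1 (by rw [← hinvA (z ^ (i : ℕ)) t, e, map_one])⟩
    have hfixz : ∀ d : ℕ, φ (z ^ d) t = t → q ∣ d := fun d hd => by
      by_contra hqd
      apply hzt
      obtain ⟨j, hj⟩ := exists_pow_eq_self_of_coprime (x := z) (n := d)
        (by rw [hzo]; exact (h.prime.coprime_iff_not_dvd.2 hqd).symm)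
      have hmem : z ^ d ∈ St := hd
      have : (z ^ d) ^ j ∈ St := pow_mem hmem j
      rw [hj] at this
      exact this
    have hg : Function.Injective g := by
      suffices key : ∀ i j : Fin q, (i : ℕ) ≤ j → g i = g j → i = j by
        intro i j e
        rcases le_total (i : ℕ) j with hle | hle
        · exact key i j hle e
        · exact (key j i hle e.symm).symm
      intro i j hle e
      have e' : φ (z ^ (i : ℕ)) t = φ (z ^ (j : ℕ)) t := congrArg Subtype.val e
      have hd : φ (z ^ ((j : ℕ) - i)) t = t := by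
        rw [← Nat.add_sub_of_le hle, pow_add, hmul] at e'
        exact ((φ (z ^ (i : ℕ))).injective e').symm
      have := Nat.eq_zero_of_dvd_of_lt (hfixz _ hd) (by omega)
      exact Fin.ext (by omega)
    have hgs : Function.Bijective g := by
      refine (Nat.bijective_iff_injective_and_card g).2 ⟨hg, ?_⟩
      rw [Nat.card_fin, ← hm, hk]
    refine hy1 (htriv y fun v => ?_)
    by_cases hv : v = 1
    · rw [hv, map_one]
    obtain ⟨i, hi⟩ := hgs.2 ⟨v, hv⟩
    have hi' : φ (z ^ (i : ℕ)) t = v := congrArg Subtype.val hi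
    rw [← hi', ← hmul, ((show Commute y z from hcz y).pow_right i).eq, hmul, hyt]
  haveI := Fact.mk hp
  obtain ⟨z, hzo⟩ := exists_prime_orderOf_dvd_card' p hpA
  have hz1 : z ≠ 1 := fun e => hp.ne_one (by rw [← hzo, e, orderOf_one])
  have hcop : ∀ {a : A}, ¬ q ∣ orderOf a → (orderOf a).Coprime (2 * q) := fun {a} ha =>
    Nat.coprime_mul_iff_right.2
      ⟨Nat.coprime_two_right.2 (hodd a), (h.prime.coprime_iff_not_dvd.2 ha).symm⟩
  have hcopq : ∀ {a : A}, a ^ q = 1 → a ≠ 1 → orderOf a = q := fun {a} ha ha1 =>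
    orderOf_eq_prime ha ha1
  have hzcop : ¬ q ∣ orderOf z := by
    rw [hzo]; exact fun e => hpq ((Nat.prime_dvd_prime_iff_eq h.prime hp).1 e).symm
  -- an element of prime order other than `q` is fixed-point-free
  have hfpf : ∀ a : A, a ≠ 1 → ¬ q ∣ orderOf a → ∀ v, φ a v = v → v = 1 := by
    intro a ha1 ha v hv
    by_contra hv1
    exact ha (by rw [hcopq (hstab a v hv1 hv) ha1])
  have hcopV : ∀ N : Subgroup A, (Nat.card V).Coprime (Nat.card N) := fun N =>
    hn ▸ (Nat.coprime_two_left.2 (hA.of_dvd_nat N.card_subgroup_dvd_card)).pow_left n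
  -- a nontrivial normal subgroup of order prime to `q`
  haveI : Nontrivial A := ⟨⟨y, 1, hy1⟩⟩
  obtain ⟨N, r, hNn, hNne, -, hr, hNr, -, hNpow, -⟩ := Solvable.exists_minimal_normal_elementary A
  haveI := hNn
  have hrq : r ≠ q := by
    rintro rfl
    have hfix : ∀ x ∈ N, Commute z x → x = 1 := fun x hx hc => by
      by_contra hx1
      exact hz1 (h.eq_one_of_commute (Or.inr (hcopq (hNpow x hx) hx1)) hc.symm (hcop hzcop))
    have := act_trivial_of_norm φ N z hp (by rw [← hzo, pow_orderOf_eq_one])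
      (by rw [normalizer_eq_top]; exact mem_top z) hfix (hcopV N)
      (norm_eq_one_of_fpf φ z (by rw [← hzo, pow_orderOf_eq_one]) (hfpf z hz1 hzcop))
    refine hNne ((Subgroup.eq_bot_iff_forall N).2 fun x hx => htriv x (this x hx))
  have hNq : ∀ x ∈ N, ¬ q ∣ orderOf x := fun x hx hd => by
    have h1 : q ∣ r := hd.trans (orderOf_dvd_of_pow_eq_one (hNpow x hx))
    exact hrq ((Nat.prime_dvd_prime_iff_eq h.prime hr).1 h1).symm
  have hNfix : ∀ a : A, orderOf a = q → ∀ x ∈ N, Commute a x → x = 1 := fun a ha x hx hc =>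
    h.eq_one_of_commute (Or.inr ha) hc (hcop (hNq x hx))
  -- the `q`-subgroups have order at most `q`
  have hQ : ∀ Q : Subgroup A, IsPGroup q Q → Nat.card Q ∣ q := by
    intro Q hQ
    obtain ⟨e, he⟩ := hQ.exists_card_eq
    rcases Nat.lt_or_ge e 2 with he2 | he2
    · rw [he]; exact (pow_dvd_pow q (by omega : e ≤ 1)).trans (by rw [pow_one])
    exfalso
    have hQ1 : 1 < Nat.card Q := he ▸ Nat.one_lt_pow (by omega) h.prime.one_lt
    haveI : Nontrivial Q := Finite.one_lt_card_iff_nontrivial.1 hQ1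
    haveI := hQ.center_nontrivial
    obtain ⟨⟨⟨c, hcQ⟩, hc⟩, hc1⟩ := exists_ne (1 : center Q)
    have hc1' : c ≠ 1 := fun e => hc1 (Subtype.ext (Subtype.ext e))
    have hexp : ∀ x ∈ Q, x ^ q = 1 := fun x hx => by
      obtain ⟨j, hj⟩ := hQ ⟨x, hx⟩
      obtain ⟨i, -, hi⟩ := (Nat.dvd_prime_pow h.prime).1
        (orderOf_dvd_of_pow_eq_one (congrArg Subtype.val hj : x ^ q ^ j = 1))
      exact h.q_pow hi
    have hco := hcopq (hexp c hcQ) hc1'
    obtain ⟨x, hx, hxc⟩ : ∃ x ∈ Q, x ∉ zpowers c := by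
      by_contra hcon
      push Not at hcon
      have := card_le_of_le (fun x hx => hcon x hx : Q ≤ zpowers c)
      rw [Nat.card_zpowers, hco, he] at this
      have h1 : q ^ 1 < q ^ e := Nat.pow_lt_pow_right h.prime.one_lt (by omega)
      rw [pow_one] at h1
      omega
    have hcx : c * x = x * c := (congrArg Subtype.val (mem_center_iff.1 hc ⟨x, hx⟩)).symm
    set E : Subgroup A := closure ({c, x} : Set A)
    haveI : IsMulCommutative E := isMulCommutative_closure fun a ha b hb => by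
      rcases ha with rfl | rfl <;> rcases hb with rfl | rfl <;> simp [hcx]
    have hEQ : E ≤ Q := (closure_le _).2 (by
      rintro _ (rfl | rfl)
      exacts [hcQ, hx])
    have hEc : ¬ IsCyclic E := by
      intro hcyc
      obtain ⟨⟨g, hg⟩, hgen⟩ := hcyc.exists_generator
      have hle : E ≤ zpowers g := fun a ha => by
        obtain ⟨i, hi⟩ := mem_zpowers_iff.1 (hgen ⟨a, ha⟩)
        exact mem_zpowers_iff.2 ⟨i, congrArg Subtype.val hi⟩
      have hgq : orderOf g ∣ q := orderOf_dvd_of_pow_eq_one (hexp g (hEQ hg))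
      have heq : zpowers c = zpowers g := by
        refine eq_of_le_of_card_ge (zpowers_le.2 (hle (subset_closure (Or.inl rfl)))) ?_
        rw [Nat.card_zpowers, Nat.card_zpowers, hco]
        exact Nat.le_of_dvd h.prime.pos hgq
      exact hxc (heq ▸ hle (subset_closure (Or.inr rfl)))
    have hN : N ≤ ⊥ := Coprime.le_of_centralizer_le E N ⊥ hEc
      (by rw [normalizer_eq_top]; exact le_top) (by
        obtain ⟨e1, he1⟩ := (hQ.to_le hEQ).exists_card_eq
        haveI := Fact.mk hr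
        obtain ⟨e2, he2⟩ := hNr.exists_card_eq
        rw [he1, he2]
        exact Nat.Coprime.pow _ _ ((Nat.coprime_primes h.prime hr).2 hrq.symm))
      fun e he' he1 x hx => mem_bot.2 (hNfix e (hcopq (hexp e (hEQ he')) he1) x hx.1
        (mem_centralizer_singleton_iff.1 hx.2).symm)
    exact hNne (le_bot_iff.1 hN)
  -- Burnside's transfer
  have hzp : IsPGroup q (zpowers y) := IsPGroup.of_card (n := 1) (by rw [Nat.card_zpowers, hyo, pow_one])
  obtain ⟨P, hP⟩ := hzp.exists_le_sylow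
  have hPe : (P : Subgroup A) = zpowers y :=
    (eq_of_le_of_card_ge hP (by
      rw [Nat.card_zpowers, hyo]; exact Nat.le_of_dvd h.prime.pos (hQ _ P.2))).symm
  have hPc : normalizer ((P : Subgroup A) : Set A) ≤ centralizer ((P : Subgroup A) : Set A) := by
    intro w hw
    by_contra hwc
    obtain ⟨d, hd, hdw, hdq⟩ :
        ∃ d, d.Prime ∧ d ∣ Nat.card (normalizer ((P : Subgroup A) : Set A)) ∧ d ≠ q := by
      by_contra hcon
      push Not at hcon
      apply hwc
      have hNp : IsPGroup q (normalizer ((P : Subgroup A) : Set A)) :=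
        IsPGroup.of_card (Nat.eq_prime_pow_of_unique_prime_dvd Nat.card_pos.ne'
          fun {d} hd hdA => hcon d hd hdA)
      have hwP : w ∈ (P : Subgroup A) := P.3 hNp Subgroup.le_normalizer ▸ hw
      rw [hPe] at hwP
      refine mem_centralizer_iff.2 fun b hb => ?_
      rw [hPe] at hb
      obtain ⟨i, rfl⟩ := mem_zpowers_iff.1 hwP
      obtain ⟨j, rfl⟩ := mem_zpowers_iff.1 hb
      exact ((Commute.refl y).zpow_zpow j i).eq
    haveI := Fact.mk hd
    obtain ⟨⟨x, hx⟩, hxo⟩ := exists_prime_orderOf_dvd_card' d hdw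
    rw [Subgroup.orderOf_mk] at hxo
    have hx1 : x ≠ 1 := fun e => hd.ne_one (by rw [← hxo, e, orderOf_one])
    have hxcop : ¬ q ∣ orderOf x := by
      rw [hxo]; exact fun e => hdq ((Nat.prime_dvd_prime_iff_eq h.prime hd).1 e).symm
    have hxd : x ^ d = 1 := by rw [← hxo, pow_orderOf_eq_one]
    have := act_trivial_of_norm φ (P : Subgroup A) x hd hxd hx (fun b hb hc => by
      by_contra hb1
      rw [hPe] at hb
      refine hx1 (h.eq_one_of_commute (Or.inr (hcopq ?_ hb1)) hc.symm (hcop hxcop))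
      exact orderOf_dvd_iff_pow_eq_one.1 (hyo ▸ orderOf_dvd_of_mem_zpowers hb)) (hcopV _)
      (norm_eq_one_of_fpf φ x hxd (hfpf x hx1 hxcop)) y (hPe ▸ mem_zpowers y)
    exact hy1 (htriv y this)
  have hc := MonoidHom.ker_transferSylow_isComplement' P hPc
  set K := (MonoidHom.transferSylow P hPc).ker
  have hKidx : K.index = q := by rw [hc.symm.index_eq_card, hPe, Nat.card_zpowers, hyo]
  have hKdvd : ¬ q ∣ Nat.card K := MonoidHom.not_dvd_card_ker_transferSylow P hPc
  have hKord : ∀ k ∈ K, ¬ q ∣ orderOf k := fun k hk hd =>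
    hKdvd (hd.trans ((Subgroup.orderOf_mk k hk) ▸ orderOf_dvd_natCard (⟨k, hk⟩ : K)))
  have hdec : ∀ a, ∃ i, i < q ∧ (y ^ i)⁻¹ * a ∈ K := by
    intro a
    obtain ⟨⟨k, b⟩, hkb⟩ := hc.2 a
    have hb : (b : A) ∈ zpowers y := hPe ▸ b.2
    rw [← mem_powers_iff_mem_zpowers, Submonoid.mem_powers_iff] at hb
    obtain ⟨i, hi⟩ := hb
    refine ⟨i % q, Nat.mod_lt _ h.prime.pos, ?_⟩
    have hi' : y ^ (i % q) = (b : A) :=
      ((congrArg (fun d => y ^ (i % d)) hyo).symm.trans (pow_mod_orderOf y i)).trans hi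
    rw [hi', ← (hkb : (k : A) * b = a)]
    have := (inferInstance : K.Normal).conj_mem _ k.2 (b : A)⁻¹
    rwa [inv_inv, mul_assoc] at this
  have hyK : y ∉ K := fun hy' => hKord y hy' (hyo ▸ dvd_rfl)
  have hKfix : ∀ k ∈ K, φ k t = t → k = 1 := fun k hk hkt => by
    by_contra hk1
    exact ht1 (hfpf k hk1 (hKord k hk) t hkt)
  have hKy : ∀ k ∈ K, Commute y k → k = 1 := fun k hk hc' =>
    h.eq_one_of_commute (Or.inr hyo) hc' (hcop (hKord k hk))
  have hsurj : ∀ w, w ≠ 1 → ∃ k ∈ K, φ k t = w := by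
    intro w hw
    obtain ⟨a, ha⟩ := htrans t w ht1 hw
    obtain ⟨⟨k, b⟩, hkb⟩ := hc.2 a
    refine ⟨k, k.2, ?_⟩
    have hb : φ (b : A) t = t := by
      have hbz : (b : A) ∈ zpowers y := hPe ▸ b.2
      rw [← mem_powers_iff_mem_zpowers, Submonoid.mem_powers_iff] at hbz
      obtain ⟨i, hi⟩ := hbz
      rw [← hi]
      clear hi
      induction i with
      | zero => simp
      | succ i ih => rw [pow_succ, hmul, hyt, ih]
    rw [← ha, ← (hkb : (k : A) * b = a), hmul, hb]
  refine ⟨K, y, t, inferInstance, hKidx, hyo, hyK, ht1, hyt, ?_, hKfix, ?_, hKy, hdec, ?_⟩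
  · intro v hv
    by_cases hv1 : v = 1
    · exact Or.inl hv1
    obtain ⟨k, hk, rfl⟩ := hsurj v hv1
    refine Or.inr ?_
    have hk' : y * k * y⁻¹ ∈ K := (inferInstance : K.Normal).conj_mem k hk y
    have hyi : φ y⁻¹ t = t := by nth_rewrite 1 [← hyt]; exact hinvA y t
    have e : φ (y * k * y⁻¹) t = φ k t := by
      rw [hmul, hyi, hmul, hv]
    have hkk : k⁻¹ * (y * k * y⁻¹) = 1 := hKfix _ (mul_mem (inv_mem hk) hk') (by
      rw [hmul, e]; exact hinvA k t)
    rw [inv_mul_eq_one, eq_mul_inv_iff_mul_eq] at hkk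
    rw [hKy k hk hkk.symm, map_one]
    rfl
  · have := Fintype.ofFinite V
    have hcard : Nat.card K = Nat.card {v : V // v ≠ 1} := by
      refine Nat.card_eq_of_bijective
        (fun k => ⟨φ (k : A) t, fun e => ht1 (by rw [← hinvA (k : A) t, e, map_one])⟩) ⟨?_, ?_⟩
      · intro k l e
        have e' : φ (k : A) t = φ (l : A) t := congrArg Subtype.val e
        exact Subtype.ext (inv_mul_eq_one.1 (hKfix _ (mul_mem (inv_mem k.2) l.2) (by
          rw [hmul, ← e']; exact hinvA _ _)))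
      · rintro ⟨w, hw⟩
        obtain ⟨k, hk, hkw⟩ := hsurj w hw
        exact ⟨⟨k, hk⟩, Subtype.ext hkw⟩
    rw [hcard, Nat.card_eq_fintype_card, Nat.card_eq_fintype_card, Fintype.card_subtype_compl,
      Fintype.card_subtype_eq]
    have := Fintype.card_pos (α := V)
    omega
  · intro a
    refine ⟨hKord a, fun ha => ?_⟩
    have h1 : orderOf (QuotientGroup.mk' K a) ∣ q :=
      (_root_.orderOf_dvd_natCard _).trans (K.index_eq_card.symm.trans hKidx).dvd
    have h2 : orderOf (QuotientGroup.mk' K a) ∣ orderOf a := orderOf_map_dvd _ a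
    rcases (Nat.dvd_prime h.prime).1 h1 with h3 | h3
    · exact (QuotientGroup.eq_one_iff a).1 (orderOf_eq_one_iff.1 h3)
    · exact absurd (h3 ▸ h2) ha

end Cfsg.Agent.Three68
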