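import Cfsg.Agent.Three68.StrongEmb
import Cfsg.Agent.Three68.Struct
import Cfsg.Agent.Lib.Coprime.SchurZassenhaus

/-!
# An element of order `q` fixing two cosets of `N(S)`
-/

set_option autoImplicit false
set_option linter.style.haveILetI false

namespace Cfsg.Agent.Three68

open Subgroup

universe u

variable {G : Type u} [Group G] [Finite G] {q : ℕ}

/-- The data of a non-regular strongly embedded normalizer: `R` is the preimage of the normal
`q`-complement, and `y` has order `q` and one fixed involution `t`. -/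
structure NR (G : Type u) [Group G] (q : ℕ) (S : Sylow 2 G) (R : Subgroup G) (y t : G) : Prop
    extends SE G q S where
  ymem : y ∈ normalizer ((S : Subgroup G) : Set G)
  yord : orderOf y = q
  tS : t ∈ (S : Subgroup G)
  t1 : t ≠ 1
  yt : Commute y t
  fix : ∀ s ∈ (S : Subgroup G), Commute y s → s = 1 ∨ s = t
  rle : R ≤ normalizer ((S : Subgroup G) : Set G)
  rmem : ∀ x ∈ normalizer ((S : Subgroup G) : Set G), Odd (orderOf x) →
    (x ∈ R ↔ ¬ q ∣ orderOf x)
  rinj : ∀ x ∈ R, Commute x t → x ∈ (S : Subgroup G)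
  dec : ∀ x ∈ normalizer ((S : Subgroup G) : Set G), ∃ i, i < q ∧ (y ^ i)⁻¹ * x ∈ R

/-- The part of `R` mapped into `N(S)` by `u`. -/
abbrev D0 (S : Sylow 2 G) (R : Subgroup G) (u : G) : Subgroup G :=
  R ⊓ (normalizer ((S : Subgroup G) : Set G)).comap (MulAut.conj u).toMonoidHom

variable {S : Sylow 2 G} {R : Subgroup G} {y t : G}

local notation "M" => normalizer ((S : Subgroup G) : Set G)

namespace NR

variable (h : NR G q S R y t)

omit [Finite G] in
theorem mem_d0 {u x : G} : x ∈ D0 S R u ↔ x ∈ R ∧ u * x * u⁻¹ ∈ M := Iff.rfl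

omit [Finite G] in
theorem conj_order (g x : G) : orderOf (g * x * g⁻¹) = orderOf x := by
  rw [← MulAut.conj_apply, MulEquiv.orderOf_eq]

omit [Finite G] in
theorem conj_order' (g x : G) : orderOf (g⁻¹ * x * g) = orderOf x := by
  have := conj_order g⁻¹ x
  rwa [inv_inv] at this

include h in
theorem odd_of_d0 {u : G} (hu : orderOf u = 2) (huM : u ∉ M) {x : G} (hx : x ∈ D0 S R u) :
    Odd (orderOf x) :=
  h.toSE.odd_of_mem hu huM (h.rle hx.1) (by have := (mem_d0.1 hx).2; rwa [involution_inv hu] at this)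

include h in
theorem coprime_of_d0 {u : G} (hu : orderOf u = 2) (huM : u ∉ M) {x : G} (hx : x ∈ D0 S R u) :
    (orderOf x).Coprime (2 * q) :=
  Nat.coprime_mul_iff_right.2 ⟨Nat.coprime_two_right.2 (h.odd_of_d0 hu huM hx),
    (h.edge.prime.coprime_iff_not_dvd.2
      ((h.rmem x (h.rle hx.1) (h.odd_of_d0 hu huM hx)).1 hx.1)).symm⟩

include h in
theorem d0_eq_one {u : G} (hu : orderOf u = 2) (huM : u ∉ M) {x z : G} (hx : x ∈ D0 S R u)
    (hz : orderOf z = 2 ∨ orderOf z = q) (hc : Commute z x) : x = 1 :=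
  h.edge.eq_one_of_commute hz hc (h.coprime_of_d0 hu huM hx)

include h in
theorem d0_inv {u : G} (hu : orderOf u = 2) (huM : u ∉ M) {x : G} (hx : x ∈ D0 S R u) :
    u * x * u = x⁻¹ := by
  have huu := mul_self_one hu
  have hui := involution_inv hu
  have key : ∀ z ∈ D0 S R u, u * z * u⁻¹ ∈ D0 S R u := fun z hz => by
    refine mem_d0.2 ⟨(h.rmem _ (mem_d0.1 hz).2 ?_).2 ?_, ?_⟩
    · rw [conj_order]; exact h.odd_of_d0 hu huM hz
    · rw [conj_order]; exact (h.rmem z (h.rle hz.1) (h.odd_of_d0 hu huM hz)).1 hz.1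
    · rw [hui, show u * (u * z * u) * u = u * u * z * (u * u) by group, huu, one_mul, mul_one]
      exact h.rle hz.1
  have hN : u ∈ normalizer (D0 S R u : Set G) := by
    refine mem_normalizer_iff.2 fun z => ⟨key z, fun hz => ?_⟩
    have h1 := key _ hz
    rwa [hui, show u * (u * z * u) * u = u * u * z * (u * u) by group, huu, one_mul, mul_one] at h1
  have := inverts_of_fixedPointFree huu hN
    (fun z hz hc => h.d0_eq_one hu huM hz (Or.inl hu) hc) x hx
  rwa [hui] at this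

include h in
theorem d0_comm {u : G} (hu : orderOf u = 2) (huM : u ∉ M) {a b : G} (ha : a ∈ D0 S R u)
    (hb : b ∈ D0 S R u) : Commute a b := by
  have h1 := h.d0_inv hu huM (mul_mem ha hb)
  have h2 : u * (a * b) * u = a⁻¹ * b⁻¹ := by
    calc u * (a * b) * u = u * a * (u * u) * b * u := by rw [mul_self_one hu, mul_one]; group
      _ = (u * a * u) * (u * b * u) := by group
      _ = _ := by rw [h.d0_inv hu huM ha, h.d0_inv hu huM hb]
  rw [h2, mul_inv_rev] at h1
  have h3 := congrArg (·⁻¹) h1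
  simp only [mul_inv_rev, inv_inv] at h3
  exact h3.symm

include h in
theorem d0_point {x : G} (hx : x ∈ R) : x * t * x⁻¹ ∈ (S : Subgroup G) ∧ x * t * x⁻¹ ≠ 1 :=
  ⟨(mem_normalizer_iff.1 (h.rle hx) t).1 h.tS, fun e => h.t1 (conj_eq_one_iff.1 e)⟩

include h in
theorem d0_point_inj {u : G} (hu : orderOf u = 2) (huM : u ∉ M) :
    Function.Injective (fun x : D0 S R u =>
      (⟨(x : G) * t * (x : G)⁻¹, h.d0_point x.2.1⟩ :
        {s : G // s ∈ (S : Subgroup G) ∧ s ≠ 1})) := by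
  rintro ⟨a, ha⟩ ⟨b, hb⟩ e
  have e' : a * t * a⁻¹ = b * t * b⁻¹ := congrArg Subtype.val e
  have hc : Commute (a⁻¹ * b) t := by
    show a⁻¹ * b * t = t * (a⁻¹ * b)
    calc a⁻¹ * b * t = a⁻¹ * (b * t * b⁻¹) * b := by group
      _ = a⁻¹ * (a * t * a⁻¹) * b := by rw [e']
      _ = _ := by group
  have hmem : a⁻¹ * b ∈ D0 S R u := mul_mem (inv_mem ha) hb
  exact Subtype.ext (inv_mul_eq_one.1
    (h.d0_eq_one hu huM hmem (Or.inl (h.toSE.involution h.tS h.t1)) hc.symm))

include h in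
theorem d0_card_le {u : G} (hu : orderOf u = 2) (huM : u ∉ M) :
    Nat.card (D0 S R u) ≤ SE.mm S :=
  Nat.card_le_card_of_injective _ (h.d0_point_inj hu huM)

include h in
theorem q_lt : q < SE.mm S := by
  classical
  haveI := Fact.mk h.edge.prime
  obtain ⟨s, hs, hs1, hst⟩ : ∃ s ∈ (S : Subgroup G), s ≠ 1 ∧ s ≠ t := by
    by_contra hcon
    push Not at hcon
    haveI : Subsingleton {s : G // s ∈ (S : Subgroup G) ∧ s ≠ 1} :=
      ⟨fun a b => Subtype.ext ((hcon a a.2.1 a.2.2).trans (hcon b b.2.1 b.2.2).symm)⟩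
    have h1 : SE.mm S ≤ 1 := Finite.card_le_one_iff_subsingleton.2 inferInstance
    have := h.toSE.three_le_mm
    omega
  let g : Option (Fin q) → {s : G // s ∈ (S : Subgroup G) ∧ s ≠ 1} := fun o => o.elim
    ⟨t, h.tS, h.t1⟩ fun i => ⟨y ^ (i : ℕ) * s * (y ^ (i : ℕ))⁻¹,
      (mem_normalizer_iff.1 (pow_mem h.ymem _) s).1 hs, fun e => hs1 (conj_eq_one_iff.1 e)⟩
  have hne : ∀ i : ℕ, y ^ i * s * (y ^ i)⁻¹ ≠ t := fun i e => hst (by
    calc s = (y ^ i)⁻¹ * (y ^ i * s * (y ^ i)⁻¹) * y ^ i := by group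
      _ = (y ^ i)⁻¹ * t * y ^ i := by rw [e]
      _ = t := by rw [mul_assoc, ← (h.yt.pow_left i).eq, inv_mul_cancel_left])
  have hfree : ∀ d : ℕ, Commute (y ^ d) s → q ∣ d := fun d hd => by
    by_contra hqd
    obtain ⟨j, hj⟩ := exists_pow_eq_self_of_coprime (x := y) (n := d)
      (by rw [h.yord]; exact (h.edge.prime.coprime_iff_not_dvd.2 hqd).symm)
    rcases h.fix s hs (hj ▸ hd.pow_left j) with h1 | h1
    exacts [hs1 h1, hst h1]
  have key : ∀ i j : Fin q, (i : ℕ) ≤ j → g (some i) = g (some j) → i = j := by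
    intro i j hle e
    have e' : y ^ (i : ℕ) * s * (y ^ (i : ℕ))⁻¹ = y ^ (j : ℕ) * s * (y ^ (j : ℕ))⁻¹ :=
      congrArg Subtype.val e
    have hd : Commute (y ^ ((j : ℕ) - i)) s := by
      rw [← Nat.add_sub_of_le hle, pow_add] at e'
      refine mul_inv_eq_iff_eq_mul.1 ?_
      calc y ^ ((j : ℕ) - i) * s * (y ^ ((j : ℕ) - i))⁻¹
          = (y ^ (i : ℕ))⁻¹ * (y ^ (i : ℕ) * y ^ ((j : ℕ) - i) * s *
            (y ^ (i : ℕ) * y ^ ((j : ℕ) - i))⁻¹) * y ^ (i : ℕ) := by group
        _ = _ := by rw [← e']; group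
    have := Nat.eq_zero_of_dvd_of_lt (hfree _ hd) (by omega)
    exact Fin.ext (by omega)
  have hinj : Function.Injective g := by
    rintro (_ | i) (_ | j) e
    · rfl
    · exact absurd (congrArg Subtype.val e).symm (hne j)
    · exact absurd (congrArg Subtype.val e) (hne i)
    · rcases le_total (i : ℕ) j with hle | hle
      · exact congrArg some (key i j hle e)
      · exact congrArg some (key j i hle e.symm).symm
  have := Nat.card_le_card_of_injective g hinj
  rw [Finite.card_option, Nat.card_fin] at this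
  exact this

include h in
/-- Either `u` inverts only elements of `R`, or few of them. -/
theorem invSet_cases {u : G} (hu : orderOf u = 2) (huM : u ∉ M) :
    InvSet S u ⊆ (D0 S R u : Set G) ∨ (InvSet S u).ncard ≤ q := by
  classical
  haveI := Fact.mk h.edge.prime
  have huu := mul_self_one hu
  have hui := involution_inv hu
  by_cases hsub : InvSet S u ⊆ (D0 S R u : Set G)
  · exact Or.inl hsub
  refine Or.inr ?_
  obtain ⟨x, hx, hxD⟩ := Set.not_subset.1 hsub
  have hxu : u * x * u ∈ M := hx.2 ▸ inv_mem hx.1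
  have hxodd := h.toSE.odd_of_mem hu huM hx.1 hxu
  have hxq : q ∣ orderOf x := by
    by_contra hq
    exact hxD (mem_d0.2 ⟨(h.rmem x hx.1 hxodd).2 hq, by rwa [hui]⟩)
  have hxo : orderOf x = q := by
    rcases h.edge.q_order x hxq with h1 | h1
    · exact h1
    · exfalso; rw [h1] at hxodd
      exact Nat.not_even_iff_odd.2 hxodd (even_two_mul q)
  have hbot : ∀ c ∈ D0 S R u, c = 1 := by
    intro c hc
    have hcu : u * c * u⁻¹ ∈ M := (mem_d0.1 hc).2
    have hxc : x * c * x⁻¹ ∈ D0 S R u := by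
      refine mem_d0.2 ⟨(h.rmem _ (mul_mem (mul_mem hx.1 (h.rle hc.1)) (inv_mem hx.1)) ?_).2 ?_, ?_⟩
      · rw [conj_order]; exact h.odd_of_d0 hu huM hc
      · rw [conj_order]; exact (h.rmem c (h.rle hc.1) (h.odd_of_d0 hu huM hc)).1 hc.1
      · have e : u * (x * c * x⁻¹) * u⁻¹ = (u * x * u⁻¹) * (u * c * u⁻¹) * (u * x * u⁻¹)⁻¹ := by
          group
        rw [e, hui]; rw [hui] at hcu
        exact mul_mem (mul_mem hxu hcu) (inv_mem hxu)
    have h1 := h.d0_inv hu huM hxc
    have h2 : u * (x * c * x⁻¹) * u = x⁻¹ * c⁻¹ * x := by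
      have hxi : u * x⁻¹ * u = x := by
        rw [← hx.2]
        calc u * (u * x * u) * u = u * u * x * (u * u) := by group
          _ = x := by rw [huu, one_mul, mul_one]
      calc u * (x * c * x⁻¹) * u = u * x * (u * u) * c * (u * u) * x⁻¹ * u := by
            rw [huu, mul_one, mul_one]; group
        _ = (u * x * u) * (u * c * u) * (u * x⁻¹ * u) := by group
        _ = _ := by rw [hx.2, hxi, h.d0_inv hu huM hc]
    rw [h2, mul_inv_rev, mul_inv_rev, inv_inv] at h1
    have hc2 : Commute (x ^ 2) c⁻¹ := by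
      show x ^ 2 * c⁻¹ = c⁻¹ * x ^ 2
      calc x ^ 2 * c⁻¹ = x * (x * (c⁻¹ * x⁻¹)) * x := by rw [sq]; group
        _ = x * (x⁻¹ * c⁻¹ * x) * x := by rw [h1]
        _ = c⁻¹ * x ^ 2 := by rw [sq]; group
    refine h.d0_eq_one hu huM hc (Or.inr ?_) (inv_inv c ▸ hc2.inv_right) |>.trans rfl
    rw [orderOf_pow, hxo, Nat.Coprime.gcd_eq_one (Nat.coprime_two_right.2 h.edge.odd), Nat.div_one]
  -- the elements are distinguished by their exponents of `y`
  have hK : ∀ z ∈ InvSet S u, ∃ i : Fin q, (y ^ (i : ℕ))⁻¹ * z ∈ R := fun z hz => by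
    obtain ⟨i, hi, hir⟩ := h.dec z hz.1
    exact ⟨⟨i, hi⟩, hir⟩
  choose f hf using fun z : InvSet S u => hK z.1 z.2
  rw [← Nat.card_coe_set_eq, ← Nat.card_fin q]
  refine Nat.card_le_card_of_injective f ?_
  rintro ⟨a, ha⟩ ⟨b, hb⟩ e
  have h1 := mul_mem (inv_mem (hf ⟨a, ha⟩)) (hf ⟨b, hb⟩)
  rw [e] at h1
  simp only [mul_inv_rev, inv_inv, mul_assoc, mul_inv_cancel_left] at h1
  refine Subtype.ext (inv_mul_eq_one.1 (hbot _ (mem_d0.2 ⟨h1, ?_⟩)))
  rw [show u * (a⁻¹ * b) * u⁻¹ = (u * a * u⁻¹)⁻¹ * (u * b * u⁻¹) by group, hui, ha.2, hb.2,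
    inv_inv]
  exact mul_mem ha.1 (inv_mem hb.1)

include h in
theorem invSet_le {u : G} (hu : orderOf u = 2) (huM : u ∉ M) :
    (InvSet S u).ncard ≤ SE.mm S := by
  rcases h.invSet_cases hu huM with h1 | h1
  · refine (Set.ncard_le_ncard h1).trans ?_
    rw [← Nat.card_coe_set_eq]
    exact h.d0_card_le hu huM
  · exact h1.trans h.q_lt.le

omit [Finite G] in
theorem d0_congr {u v : G} (huv : v⁻¹ * u ∈ M) (hu : u⁻¹ = u) (hv : v⁻¹ = v) :
    D0 S R u = D0 S R v := by
  have e : ∀ x, u * x * u⁻¹ = (v⁻¹ * u)⁻¹ * (v * x * v⁻¹) * (v⁻¹ * u) := fun x => by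
    calc u * x * u⁻¹ = u⁻¹ * x * u := by rw [hu]
      _ = (v⁻¹ * u)⁻¹ * (v⁻¹ * x * v⁻¹⁻¹) * (v⁻¹ * u) := by group
      _ = _ := congrArg (fun w => (v⁻¹ * u)⁻¹ * (w * x * w⁻¹) * (v⁻¹ * u)) hv
  ext x
  rw [mem_d0, mem_d0]
  refine and_congr_right fun _ => ⟨fun hx => ?_, fun hx => ?_⟩
  · rw [e] at hx
    have := mul_mem (mul_mem huv hx) (inv_mem huv)
    simpa [mul_assoc] using this
  · rw [e]
    exact mul_mem (mul_mem (inv_mem huv) hx) huv

include h in
theorem d0_card {v : G} (hv : orderOf v = 2) (hvM : v ∉ M) : Nat.card (D0 S R v) = SE.mm S := by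
  refine le_antisymm (h.d0_card_le hv hvM) ?_
  obtain ⟨u, hu, hvu, huM, hge⟩ :=
    h.toSE.exists_in_coset (fun u hu huM => h.invSet_le hu huM) hvM
  rcases h.invSet_cases hu huM with h1 | h1
  · rw [← d0_congr hvu (involution_inv hu) (involution_inv hv)]
    refine hge.trans ?_
    rw [← SetLike.coe_sort_coe, Nat.card_coe_set_eq]
    exact Set.ncard_le_ncard h1
  · have := h.q_lt; omega

include h in
theorem d0_exists_ne {v : G} (hv : orderOf v = 2) (hvM : v ∉ M) :
    ∃ x ∈ D0 S R v, x ≠ 1 := by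
  haveI : Nontrivial (D0 S R v) := Finite.one_lt_card_iff_nontrivial.1 (by
    have := h.toSE.three_le_mm; rw [h.d0_card hv hvM]; omega)
  obtain ⟨⟨x, hx⟩, hx1⟩ := exists_ne (1 : D0 S R v)
  exact ⟨x, hx, fun e => hx1 (Subtype.ext e)⟩

include h in
/-- `y` normalizes the part of `R` belonging to a coset fixed by it. -/
theorem d0_invariant {v : G} (hv : orderOf v = 2) (hvM : v ∉ M) (hy : v * y * v⁻¹ ∈ M)
    {x : G} (hx : x ∈ D0 S R v) : y * x * y⁻¹ ∈ D0 S R v := by
  refine mem_d0.2 ⟨(h.rmem _ (mul_mem (mul_mem h.ymem (h.rle hx.1)) (inv_mem h.ymem)) ?_).2 ?_, ?_⟩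
  · rw [conj_order]; exact h.odd_of_d0 hv hvM hx
  · rw [conj_order]; exact (h.rmem x (h.rle hx.1) (h.odd_of_d0 hv hvM hx)).1 hx.1
  · rw [show v * (y * x * y⁻¹) * v⁻¹ = (v * y * v⁻¹) * (v * x * v⁻¹) * (v * y * v⁻¹)⁻¹ by group]
    exact mul_mem (mul_mem hy (mem_d0.1 hx).2) (inv_mem hy)

include h in
/-- Two invariant complements of `S` in `R` differ by `t`. -/
theorem d0_conj {u v : G} (hu : orderOf u = 2) (huM : u ∉ M) (hyu : u * y * u⁻¹ ∈ M)
    (hv : orderOf v = 2) (hvM : v ∉ M) (hyv : v * y * v⁻¹ ∈ M) :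
    ∃ n, (n = 1 ∨ n = t) ∧ ∀ x, x ∈ D0 S R v ↔ n * x * n⁻¹ ∈ D0 S R u := by
  haveI : Fact (Nat.Prime 2) := ⟨Nat.prime_two⟩
  haveI : IsMulCommutative (S : Subgroup G) :=
    ⟨⟨fun a b => Subtype.ext (h.edge.sylow_comm a.2 b.2).eq⟩⟩
  have hm3 := h.toSE.three_le_mm
  have hsurj : Function.Surjective (fun x : D0 S R u =>
      (⟨(x : G) * t * (x : G)⁻¹, h.d0_point x.2.1⟩ :
        {s : G // s ∈ (S : Subgroup G) ∧ s ≠ 1})) :=
    ((Nat.bijective_iff_injective_and_card _).2 ⟨h.d0_point_inj hu huM, h.d0_card hu huM⟩).2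
  have hle : D0 S R v ≤ (S : Subgroup G) ⊔ D0 S R u := by
    intro x hx
    obtain ⟨⟨k, hk⟩, hkx⟩ := hsurj ⟨x * t * x⁻¹, h.d0_point hx.1⟩
    have e : k * t * k⁻¹ = x * t * x⁻¹ := congrArg Subtype.val hkx
    have hs : k⁻¹ * x ∈ (S : Subgroup G) := h.rinj _ (mul_mem (inv_mem hk.1) hx.1) (by
      show k⁻¹ * x * t = t * (k⁻¹ * x)
      calc k⁻¹ * x * t = k⁻¹ * (x * t * x⁻¹) * x := by group
        _ = k⁻¹ * (k * t * k⁻¹) * x := by rw [e]
        _ = _ := by group)
    have := mul_mem ((le_sup_right : D0 S R u ≤ (S : Subgroup G) ⊔ D0 S R u) hk)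
      ((le_sup_left : (S : Subgroup G) ≤ (S : Subgroup G) ⊔ D0 S R u) hs)
    rwa [mul_inv_cancel_left] at this
  have hodd : ∀ {w : G}, orderOf w = 2 → w ∉ M → Odd (Nat.card (D0 S R w)) := by
    intro w hw hwM
    by_contra hev
    obtain ⟨⟨x, hx⟩, hxo⟩ := exists_prime_orderOf_dvd_card' 2
      (even_iff_two_dvd.1 (Nat.not_odd_iff_even.1 hev))
    rw [Subgroup.orderOf_mk] at hxo
    have := h.odd_of_d0 hw hwM hx
    rw [hxo] at this
    exact absurd this (by decide)
  obtain ⟨b, hb⟩ := S.2.exists_card_eq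
  obtain ⟨n, hn, hnc⟩ := Coprime.exists_conj_le_of_comm (S : Subgroup G) (D0 S R v) (D0 S R u)
    (fun x hx => h.rle hx.1) (fun x hx => h.rle hx.1) hle
    (hb ▸ (Nat.coprime_two_right.2 (hodd hv hvM)).pow_right b)
    (hb ▸ (Nat.coprime_two_right.2 (hodd hu huM)).pow_right b)
  have hn2 : n * n = 1 := by rw [← sq]; exact h.edge.two_group_sq S.2 n hn
  have hiff : ∀ x, x ∈ D0 S R v ↔ n * x * n⁻¹ ∈ D0 S R u := by
    have hmap : (D0 S R v).map (MulAut.conj n).toMonoidHom = D0 S R u := by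
      refine eq_of_le_of_card_ge ?_ ?_
      · rintro _ ⟨x, hx, rfl⟩; exact hnc x hx
      · rw [card_map_of_injective (MulAut.conj n).injective, h.d0_card hu huM, h.d0_card hv hvM]
    intro x
    refine ⟨hnc x, fun hx => ?_⟩
    rw [← hmap] at hx
    obtain ⟨x', hx', e⟩ := hx
    rwa [(MulAut.conj n).injective e] at hx'
  -- `y` fixes the conjugating element
  have hcomm : Commute y n := by
    set c := n⁻¹ * (y * n * y⁻¹) with hc
    have hcS : c ∈ (S : Subgroup G) :=
      mul_mem (inv_mem hn) ((mem_normalizer_iff.1 h.ymem n).1 hn)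
    by_contra hyn
    have hc1 : c ≠ 1 := fun e => hyn (mul_inv_eq_iff_eq_mul.1 (inv_mul_eq_one.1 e).symm)
    obtain ⟨x, hx, hx1⟩ := h.d0_exists_ne hv hvM
    refine hx1 (h.d0_eq_one hv hvM hx (Or.inl (h.toSE.involution hcS hc1)) ?_)
    -- `c` normalizes the complement
    have hyx : ∀ z, z ∈ D0 S R v → y⁻¹ * z * y ∈ D0 S R v := by
      intro z hz
      have hk : ∀ k : ℕ, y ^ k * z * (y ^ k)⁻¹ ∈ D0 S R v := by
        intro k
        induction k with
        | zero => simpa using hz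
        | succ k ih =>
          rw [pow_succ', show y * y ^ k * z * (y * y ^ k)⁻¹ = y * (y ^ k * z * (y ^ k)⁻¹) * y⁻¹ by
            group]
          exact h.d0_invariant hv hvM hyv ih
      obtain ⟨k, hk'⟩ : ∃ k : ℕ, y⁻¹ = y ^ k := ⟨q - 1, (eq_inv_of_mul_eq_one_left (by
        rw [← pow_succ, Nat.sub_add_cancel h.edge.prime.pos, ← h.yord, pow_orderOf_eq_one])).symm⟩
      have := hk k
      rwa [← hk', inv_inv] at this
    have hcx : c * x * c⁻¹ ∈ D0 S R v := by
      rw [hiff, show n * (c * x * c⁻¹) * n⁻¹ = y * (n * (y⁻¹ * x * y) * n⁻¹) * y⁻¹ by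
        rw [hc]; group]
      exact h.d0_invariant hu huM hyu ((hiff _).1 (hyx x hx))
    have hin : x⁻¹ * (c * x * c⁻¹) ∈ (S : Subgroup G) := by
      have h1 : x⁻¹ * c * x ∈ (S : Subgroup G) := by
        have := (mem_normalizer_iff.1 (inv_mem (h.rle hx.1)) c).1 hcS
        rwa [inv_inv] at this
      have := mul_mem h1 (inv_mem hcS)
      simpa [mul_assoc] using this
    have hone : x⁻¹ * (c * x * c⁻¹) = 1 := by
      by_contra hne
      have := h.odd_of_d0 hv hvM (mul_mem (inv_mem hx) hcx)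
      rw [h.toSE.involution hin hne] at this
      exact absurd this (by decide)
    exact mul_inv_eq_iff_eq_mul.1 (inv_mul_eq_one.1 hone).symm
  exact ⟨n, h.fix n hn hcomm, hiff⟩

include h in
/-- Inside `C(y)` an involution of `N(S)` is `t`. -/
theorem eq_t {v : G} (hv : orderOf v = 2) (hvy : Commute y v) (hvM : v ∈ M) : v = t := by
  have hvS : v ∈ (S : Subgroup G) :=
    mem_sylow_of_sq hvM (by rw [sq]; exact mul_self_one hv)
  exact (h.fix v hvS hvy).resolve_left fun e => by rw [e, orderOf_one] at hv; omega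

include h in
/-- If `y` fixes a second coset then `q = 3`, and some complement of `S` is abelian and
invariant under `y`. -/
theorem of_fixed {g : G} (hg : g ∉ M) (hgy : g⁻¹ * y * g ∈ M) :
    q = 3 ∧ ∃ u, orderOf u = 2 ∧ u ∉ M ∧ u * y * u⁻¹ ∈ M := by
  classical
  haveI := Fact.mk h.edge.prime
  obtain ⟨u, hu, hgu, huM, -⟩ :=
    h.toSE.exists_in_coset (fun u hu huM => h.invSet_le hu huM) hg
  have huu := mul_self_one hu
  have hui := involution_inv hu
  have hyu : u * y * u⁻¹ ∈ M := by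
    have e : u * y * u⁻¹ = (g⁻¹ * u)⁻¹ * (g⁻¹ * y * g) * (g⁻¹ * u) := by
      calc u * y * u⁻¹ = u⁻¹ * y * u := by rw [hui]
        _ = _ := by group
    rw [e]; exact mul_mem (mul_mem (inv_mem hgu) hgy) hgu
  have hy2 : orderOf (u * y * u⁻¹) = q := (conj_order u y).trans h.yord
  have hm3 := h.toSE.three_le_mm
  have hyR : ∀ x ∈ D0 S R u, y⁻¹ * x * y ∈ D0 S R u := by
    intro x hx
    have hM' : y⁻¹ * x * y ∈ M := mul_mem (mul_mem (inv_mem h.ymem) (h.rle hx.1)) h.ymem
    refine mem_d0.2 ⟨(h.rmem _ hM' ?_).2 ?_, ?_⟩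
    · rw [conj_order']; exact h.odd_of_d0 hu huM hx
    · rw [conj_order']; exact (h.rmem x (h.rle hx.1) (h.odd_of_d0 hu huM hx)).1 hx.1
    · rw [show u * (y⁻¹ * x * y) * u⁻¹ = (u * y * u⁻¹)⁻¹ * (u * x * u⁻¹) * (u * y * u⁻¹) by group]
      exact mul_mem (mul_mem (inv_mem hyu) (mem_d0.1 hx).2) hyu
  -- `w` measures the difference of `y` and its image
  set w := y⁻¹ * (u * y * u⁻¹) with hw
  have hwM : w ∈ M := mul_mem (inv_mem h.ymem) hyu
  have hwu : u * w * u ∈ M := by
    have e : u * w * u = (u * y * u⁻¹)⁻¹ * y := by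
      calc u * w * u = u * y⁻¹ * u * y * (u⁻¹ * u) := by rw [hw]; group
        _ = u * y⁻¹ * u⁻¹ * y := by rw [inv_mul_cancel, mul_one, hui]
        _ = _ := by group
    rw [e]; exact mul_mem (inv_mem hyu) h.ymem
  have hwodd := h.toSE.odd_of_mem hu huM hwM hwu
  have hwc : ∀ x ∈ D0 S R u, Commute w x := by
    intro x hx
    have h1 : y * x * y⁻¹ ∈ D0 S R u := h.d0_invariant hu huM hyu hx
    have h2 := h.d0_inv hu huM h1
    have h3 : (u * y * u⁻¹) * x * (u * y * u⁻¹)⁻¹ = y * x * y⁻¹ := by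
      have hx' : x = u * x⁻¹ * u := by rw [h.d0_inv hu huM (inv_mem hx), inv_inv]
      calc (u * y * u⁻¹) * x * (u * y * u⁻¹)⁻¹
          = (u * y * u⁻¹) * (u * x⁻¹ * u) * (u * y * u⁻¹)⁻¹ := by rw [← hx']
        _ = u * y * x⁻¹ * (u * u) * y⁻¹ * u⁻¹ := by group
        _ = u * (y * x * y⁻¹)⁻¹ * u := by rw [huu, mul_one, hui]; group
        _ = y * x * y⁻¹ := by rw [h.d0_inv hu huM (inv_mem h1), inv_inv]
    refine mul_inv_eq_iff_eq_mul.1 ?_
    calc w * x * w⁻¹ = y⁻¹ * ((u * y * u⁻¹) * x * (u * y * u⁻¹)⁻¹) * y := by rw [hw]; group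
      _ = x := by rw [h3]; group
  have hwR : w ∈ D0 S R u := by
    refine mem_d0.2 ⟨(h.rmem w hwM hwodd).2 fun hd => ?_, by rwa [hui]⟩
    have hwo : orderOf w = q := by
      rcases h.edge.q_order w hd with h1 | h1
      · exact h1
      · exfalso; rw [h1] at hwodd; exact Nat.not_even_iff_odd.2 hwodd (even_two_mul q)
    obtain ⟨x, hx, hx1⟩ := h.d0_exists_ne hu huM
    exact hx1 (h.d0_eq_one hu huM hx (Or.inr hwo) (hwc x hx))
  -- an involution of the coset commuting with `y`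
  let F : D0 S R u → D0 S R u := fun f => ⟨(y⁻¹ * f * y) * (f : G)⁻¹,
    mul_mem (hyR _ f.2) (inv_mem f.2)⟩
  have hF : Function.Injective F := by
    rintro ⟨a, ha⟩ ⟨b, hb⟩ e
    have e' : (y⁻¹ * a * y) * a⁻¹ = (y⁻¹ * b * y) * b⁻¹ := congrArg Subtype.val e
    have hc : Commute y (b⁻¹ * a) := by
      have e2 : a * y * a⁻¹ = b * y * b⁻¹ := by
        calc a * y * a⁻¹ = y * (y⁻¹ * a * y * a⁻¹) := by group
          _ = y * (y⁻¹ * b * y * b⁻¹) := by rw [e']
          _ = _ := by group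
      show y * (b⁻¹ * a) = b⁻¹ * a * y
      calc y * (b⁻¹ * a) = b⁻¹ * (b * y * b⁻¹) * a := by group
        _ = b⁻¹ * (a * y * a⁻¹) * a := by rw [e2]
        _ = _ := by group
    exact Subtype.ext (inv_mul_eq_one.1
      (h.d0_eq_one hu huM (mul_mem (inv_mem hb) ha) (Or.inr h.yord) hc)).symm
  obtain ⟨⟨f, hf⟩, hfw⟩ := (Finite.injective_iff_surjective.1 hF) ⟨w, hwR⟩
  have hfw' : y⁻¹ * f * y * f⁻¹ = w := congrArg Subtype.val hfw
  set u' := u * f with hu'
  have hu'M : u' ∉ M := fun hh => huM (by simpa [hu'] using mul_mem hh (inv_mem (h.rle hf.1)))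
  have hu'2 : orderOf u' = 2 := by
    refine orderOf_two ?_ fun e => hu'M (e ▸ one_mem _)
    calc u' ^ 2 = (u * f * u) * f := by rw [hu', sq]; group
      _ = 1 := by rw [h.d0_inv hu huM hf, inv_mul_cancel]
  have hu'y : Commute y u' := by
    have h1 : u * f * y * f⁻¹ * u⁻¹ = y := by
      calc u * f * y * f⁻¹ * u⁻¹ = u * y * (y⁻¹ * f * y * f⁻¹) * u⁻¹ := by group
        _ = u * y * w * u⁻¹ := by rw [hfw']
        _ = (u * u) * y * (u⁻¹ * u⁻¹) := by rw [hw]; group
        _ = y := by rw [hui, huu, one_mul, mul_one]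
    show y * u' = u' * y
    calc y * u' = (u * f * y * f⁻¹ * u⁻¹) * u' := by rw [h1]
      _ = u' * y := by rw [hu']; group
  refine ⟨?_, u, hu, huM, hyu⟩
  -- count the involutions of `C(y)`
  have htt : t * t = 1 := by rw [← sq]; exact h.edge.two_group_sq S.2 t h.tS
  set x := t * u' with hx
  have hxy : Commute y x := h.yt.mul_right hu'y
  have htx : t * x * t = x⁻¹ := by
    rw [hx, mul_inv_rev, involution_inv hu'2, involution_inv (h.toSE.involution h.tS h.t1),
      ← mul_assoc, htt, one_mul]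
  have hx2q : x ^ (2 * q) = 1 := h.edge.commute_q h.yord hxy
  have hxq : x ^ q = 1 := by
    by_contra hne
    have ho : orderOf (x ^ q) = 2 :=
      orderOf_two (by rw [← pow_mul, mul_comm]; exact hx2q) hne
    have hct : Commute t (x ^ q) := by
      show t * x ^ q = x ^ q * t
      have e : t * x ^ q * t = x ^ q := by
        have e1 : t * x ^ q * t⁻¹ = (x⁻¹) ^ q := by
          rw [← conj_pow, involution_inv (h.toSE.involution h.tS h.t1), htx]
        rw [involution_inv (h.toSE.involution h.tS h.t1), inv_pow, involution_inv ho] at e1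
        exact e1
      calc t * x ^ q = t * x ^ q * (t * t) := by rw [htt, mul_one]
        _ = (t * x ^ q * t) * t := by group
        _ = x ^ q * t := by rw [e]
    have hxt : x ^ q = t := h.eq_t ho (hxy.pow_right q)
      (h.cent t h.tS h.t1 (mem_centralizer_singleton_iff.2 hct.eq.symm))
    have hcx : Commute t x := hxt ▸ (Commute.refl x).pow_left q
    have hcu : Commute t u' := by
      have := (Commute.refl t).mul_right hcx
      rwa [hx, ← mul_assoc, htt, one_mul] at this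
    exact hu'M (h.cent t h.tS h.t1 (mem_centralizer_singleton_iff.2 hcu.eq.symm))
  have hx1 : x ≠ 1 := fun e => hu'M (by
    have : u' = t := by
      calc u' = t * t * u' := by rw [htt, one_mul]
        _ = t := by rw [mul_assoc, ← hx, e, mul_one]
    rw [this]; exact Subgroup.le_normalizer h.tS)
  have hxo : orderOf x = q := orderOf_eq_prime hxq hx1
  -- the involutions `t * x ^ i`
  let Inv := {v : G // orderOf v = 2 ∧ Commute y v}
  have hinvol : ∀ i : ℕ, orderOf (t * x ^ i) = 2 := by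
    intro i
    have hsq : (t * x ^ i) ^ 2 = 1 := by
      have e : t * x ^ i * t⁻¹ = (x⁻¹) ^ i := by
        rw [← conj_pow, involution_inv (h.toSE.involution h.tS h.t1), htx]
      rw [involution_inv (h.toSE.involution h.tS h.t1)] at e
      rw [sq, ← mul_assoc, e, inv_pow, inv_mul_cancel]
    refine orderOf_two hsq fun e => ?_
    have h1 : t = (x ^ i)⁻¹ := eq_inv_of_mul_eq_one_left e
    have h2 : orderOf t ∣ q := by
      rw [h1, orderOf_inv, ← hxo]; exact orderOf_pow_dvd i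
    rw [h.toSE.involution h.tS h.t1] at h2
    exact h.edge.ne_two ((Nat.prime_dvd_prime_iff_eq Nat.prime_two h.edge.prime).1 h2).symm
  have hcard1 : q ≤ Nat.card Inv := by
    rw [← Nat.card_fin q]
    refine Nat.card_le_card_of_injective
      (fun i : Fin q => (⟨t * x ^ (i : ℕ), hinvol i, h.yt.mul_right (hxy.pow_right _)⟩ : Inv)) ?_
    intro i j e
    have e' : t * x ^ (i : ℕ) = t * x ^ (j : ℕ) := congrArg Subtype.val e
    exact Fin.ext (pow_injOn_Iio_orderOf (by rw [Set.mem_Iio, hxo]; exact i.2)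
      (by rw [Set.mem_Iio, hxo]; exact j.2) (mul_left_cancel e'))
  have hcard2 : Nat.card Inv ≤ 3 := by
    have hbound : ∀ v : Inv, v.1 ≠ t → v.1 ∉ M := fun v hv hM =>
      hv (h.eq_t v.2.1 v.2.2 hM)
    have hyv : ∀ v : Inv, v.1 * y * v.1⁻¹ ∈ M := fun v => by
      rw [← v.2.2.eq, mul_inv_cancel_right]; exact h.ymem
    have hyu' : u' * y * u'⁻¹ ∈ M := by rw [← hu'y.eq, mul_inv_cancel_right]; exact h.ymem
    let Φ : Inv → Option Bool := fun v =>
      if v.1 = t then none else some (decide (D0 S R v.1 = D0 S R u'))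
    have hΦ : Function.Injective Φ := by
      intro a b e
      simp only [Φ] at e
      by_cases ha : a.1 = t <;> by_cases hb : b.1 = t
      · exact Subtype.ext (ha.trans hb.symm)
      · simp [ha, hb] at e
      · simp [ha, hb] at e
      simp only [ha, hb, if_false, Option.some.injEq, decide_eq_decide] at e
      have haM := hbound a ha
      have hbM := hbound b hb
      obtain ⟨n, hn, hna⟩ := h.d0_conj hu'2 hu'M hyu' a.2.1 haM (hyv a)
      obtain ⟨n', hn', hnb⟩ := h.d0_conj hu'2 hu'M hyu' b.2.1 hbM (hyv b)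
      have heq : D0 S R a.1 = D0 S R b.1 := by
        by_cases hD : D0 S R a.1 = D0 S R u'
        · rw [hD, e.1 hD]
        have hnt : ∀ {k : G} {v : Inv}, (k = 1 ∨ k = t) → D0 S R v.1 ≠ D0 S R u' →
            (∀ z, z ∈ D0 S R v.1 ↔ k * z * k⁻¹ ∈ D0 S R u') → k = t := by
          intro k v hk hne hiff
          refine hk.resolve_left fun e1 => hne (SetLike.ext fun z => ?_)
          rw [hiff, e1]; simp
        ext z
        rw [hna, hnb, hnt hn hD hna, hnt hn' (fun hb' => hD (e.2 hb')) hnb]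
      -- `a` and `b` act alike on the complement
      refine Subtype.ext ?_
      by_contra hne
      set z := a.1 * b.1 with hz
      have hz1 : z ≠ 1 := fun e1 => hne (by
        rw [eq_inv_of_mul_eq_one_left e1, involution_inv b.2.1])
      obtain ⟨r, hr, hr1⟩ := h.d0_exists_ne b.2.1 hbM
      have hzr : Commute z r := by
        refine mul_inv_eq_iff_eq_mul.1 ?_
        calc z * r * z⁻¹ = a.1 * (b.1 * r * b.1⁻¹) * a.1⁻¹ := by rw [hz]; group
          _ = a.1 * r⁻¹ * a.1 := by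
            rw [involution_inv b.2.1, h.d0_inv b.2.1 hbM hr, involution_inv a.2.1]
          _ = r := by rw [h.d0_inv a.2.1 haM (inv_mem (heq ▸ hr)), inv_inv]
      have hz2q : z ^ (2 * q) = 1 := h.edge.commute_q h.yord (a.2.2.mul_right b.2.2)
      by_cases hzq : z ^ q = 1
      · exact hr1 (h.d0_eq_one b.2.1 hbM hr (Or.inr (orderOf_eq_prime hzq hz1)) hzr)
      · exact hr1 (h.d0_eq_one b.2.1 hbM hr
          (Or.inl (orderOf_two (by rw [← pow_mul, mul_comm]; exact hz2q) hzq)) (hzr.pow_left q))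
    refine (Nat.card_le_card_of_injective Φ hΦ).trans ?_
    rw [Finite.card_option, Nat.card_eq_fintype_card, Fintype.card_bool]
  have := h.edge.three_le
  omega

end NR

end Cfsg.Agent.Three68
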