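import Cfsg.Agent.Three68.StrongEmb
import Cfsg.Agent.InvChar68.CharTools
import Cfsg.Agent.CharDeep.TIFrob.Setup
import Cfsg.Agent.S0170

/-!
# The exceptional characters exclude the Frobenius normalizer
-/

set_option autoImplicit false
set_option linter.style.haveILetI false
set_option linter.unusedSectionVars false

namespace Cfsg.Agent.Three68

open Subgroup Cfsg.Agent.CharCore Cfsg.Agent.CharClifford Cfsg.Agent.CharClifford.FrobTI
open scoped ComplexConjugate

universe u

variable {G : Type u} [Group G] [Finite G] {q : ℕ} {S : Sylow 2 G}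

local notation "M" => normalizer ((S : Subgroup G) : Set G)

local notation "K" => centralizer ((S : Subgroup G) : Set G)

/-- The hypotheses extracted from the regular case. -/
structure FrobData (G : Type u) [Group G] (q : ℕ) (S : Sylow 2 G) : Prop extends SE G q S where
  exists_odd : ∃ w ∈ centralizer ((S : Subgroup G) : Set G), w ≠ 1 ∧ Odd (orderOf w)
  cc : ∀ f ∈ centralizer ((S : Subgroup G) : Set G), f ≠ 1 →
    centralizer ({f} : Set G) ≤ centralizer ((S : Subgroup G) : Set G)
  ti : ∀ g, ∀ f ∈ centralizer ((S : Subgroup G) : Set G), f ≠ 1 →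
    g * f * g⁻¹ ∈ centralizer ((S : Subgroup G) : Set G) →
    g ∈ normalizer ((S : Subgroup G) : Set G)
  index_eq : ((centralizer ((S : Subgroup G) : Set G)).subgroupOf
    (normalizer ((S : Subgroup G) : Set G))).index = SE.mm S
  big : Nat.card (centralizer ((S : Subgroup G) : Set G)) + 1 ≤
    (normalizer ((S : Subgroup G) : Set G)).index

namespace FrobData

variable (h : FrobData G q S)

include h in
theorem conj_mem {g x : G} (hg : g ∈ M) (hx : x ∈ K) : g * x * g⁻¹ ∈ K := by
  refine mem_centralizer_iff.2 fun s hs => ?_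
  have hs' : g⁻¹ * s * g ∈ (S : Subgroup G) := by
    have := (mem_normalizer_iff.1 (inv_mem hg) s).1 hs
    rwa [inv_inv] at this
  have hc := mem_centralizer_iff.1 hx _ hs'
  calc s * (g * x * g⁻¹) = g * (g⁻¹ * s * g * x) * g⁻¹ := by group
    _ = g * (x * (g⁻¹ * s * g)) * g⁻¹ := by rw [hc]
    _ = _ := by group

include h in
theorem sylow_le : (S : Subgroup G) ≤ K := fun _ hs => mem_centralizer_iff.2 fun _ hr =>
  (h.edge.sylow_comm hr hs).eq

include h in
theorem normalizer_eq : normalizer ((K : Subgroup G) : Set G) = M := by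
  obtain ⟨t, ht, ht1⟩ := h.toSE.exists_ne_one
  refine le_antisymm (fun g hg => h.ti g t (h.sylow_le ht) ht1 ?_) fun g hg => ?_
  · exact (mem_normalizer_iff.1 hg t).1 (h.sylow_le ht)
  · refine mem_normalizer_iff.2 fun x => ⟨h.conj_mem hg, fun hx => ?_⟩
    have := h.conj_mem (inv_mem hg) hx
    simpa [mul_assoc] using this

include h in
theorem centralizer_eq {t : G} (ht : t ∈ (S : Subgroup G)) (ht1 : t ≠ 1) :
    centralizer ({t} : Set G) = K :=
  le_antisymm (h.cc t (h.sylow_le ht) ht1) fun _ hx =>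
    mem_centralizer_singleton_iff.2 (mem_centralizer_iff.1 hx t ht).symm

include h in
theorem pow_two_q {f : G} (hf : f ∈ K) : (f ^ q) ^ 2 = 1 := by
  obtain ⟨t, ht, ht1⟩ := h.toSE.exists_ne_one
  rw [← pow_mul, mul_comm]
  exact h.edge.commute_involution (h.toSE.involution ht ht1) (mem_centralizer_iff.1 hf t ht)

include h in
theorem pow_mem_sylow {f : G} (hf : f ∈ K) : f ^ q ∈ (S : Subgroup G) :=
  mem_sylow_of_sq (h.toSE.centralizer_sylow_le (pow_mem hf q)) (h.pow_two_q hf)

include h in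
theorem pow_q_mul {a b : G} (ha : a ∈ K) (hb : b ∈ K) : (a * b) ^ q = a ^ q * b ^ q := by
  classical
  obtain ⟨j, hj⟩ := h.edge.odd
  -- the parts of odd order
  have hdec : ∀ {f : G}, f ∈ K → f = f ^ q * f ^ (q + 1) ∧ (f ^ (q + 1)) ^ q = 1 := by
    intro f hf
    constructor
    · rw [← pow_add, show q + (q + 1) = 1 + q * 2 by omega, pow_add, pow_one, pow_mul,
        h.pow_two_q hf, mul_one]
    · rw [← pow_mul, show (q + 1) * q = q * 2 * (j + 1) by rw [hj]; ring, pow_mul, pow_mul,
        h.pow_two_q hf, one_pow]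
  obtain ⟨t, ht, ht1⟩ := h.toSE.exists_ne_one
  haveI : Group.IsSolvable K :=
    h.edge.solvable_of_pow _ fun x hx =>
      h.edge.commute_involution (h.toSE.involution ht ht1) (mem_centralizer_iff.1 hx t ht)
  have hcore : ∀ {f : G}, f ∈ K → f ^ q = 1 → f ∈ core K := by
    intro f hf hfq
    refine h.edge.le_core S h.sylow_le (zpowers_le.2 hf)
      (by rw [Nat.card_zpowers]; exact h.edge.odd.of_dvd_nat (orderOf_dvd_iff_pow_eq_one.2 hfq)) ?_
      (mem_zpowers f)
    intro s hs
    refine Coprime.le_normalizer_of_conj_mem (A := (S : Subgroup G)) ?_ hs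
    intro a ha b hb
    obtain ⟨i, rfl⟩ := mem_zpowers_iff.1 hb
    rw [((show Commute a f from mem_centralizer_iff.1 hf a ha).zpow_right i).eq, mul_inv_cancel_right]
    exact zpow_mem (mem_zpowers f) i
  obtain ⟨da, hda⟩ := hdec ha
  obtain ⟨db, hdb⟩ := hdec hb
  set s := a ^ q
  set s' := b ^ q
  set w := a ^ (q + 1)
  set w' := b ^ (q + 1)
  have hsS : s ∈ (S : Subgroup G) := h.pow_mem_sylow ha
  have hs'S : s' ∈ (S : Subgroup G) := h.pow_mem_sylow hb
  have hwK : w ∈ K := pow_mem ha _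
  have hw'K : w' ∈ K := pow_mem hb _
  have hab : a * b = (s * s') * (w * w') := by
    rw [da, db, mul_assoc s s' _, ← mul_assoc s' w w']
    rw [show s' * w = w * s' from mem_centralizer_iff.1 hwK s' hs'S]
    group
  have hss : s * s' ∈ (S : Subgroup G) := mul_mem hsS hs'S
  have hc : Commute (s * s') (w * w') := mem_centralizer_iff.1 (mul_mem hwK hw'K) _ hss
  have hww : (w * w') ^ q = 1 := by
    have ho := orderOf_odd_of_mem (core_odd K) (mul_mem (hcore hwK hda) (hcore hw'K hdb))
    exact h.edge.odd_commute (h.toSE.involution ht ht1)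
      (mem_centralizer_iff.1 (mul_mem hwK hw'K) t ht) ho
  rw [hab, hc.mul_pow, hww, mul_one, hj, pow_succ, pow_mul, h.edge.two_group_sq S.2 _ hss, one_pow,
    one_mul]

include h in
theorem pow_q_succ_mul {a b : G} (ha : a ∈ K) (hb : b ∈ K) :
    (a * b) ^ (q + 1) = a ^ (q + 1) * b ^ (q + 1) := by
  rw [pow_succ, h.pow_q_mul ha hb, pow_succ, pow_succ]
  calc a ^ q * b ^ q * (a * b) = a ^ q * (b ^ q * a) * b := by group
    _ = a ^ q * (a * b ^ q) * b := by rw [mem_centralizer_iff.1 ha _ (h.pow_mem_sylow hb)]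
    _ = _ := by group

/-- The projection onto `S`. -/
def proj : (centralizer ((S : Subgroup G) : Set G) : Subgroup G) →* (S : Subgroup G) where
  toFun f := ⟨(f : G) ^ q, h.pow_mem_sylow f.2⟩
  map_one' := Subtype.ext (one_pow q)
  map_mul' a b := Subtype.ext (h.pow_q_mul a.2 b.2)

/-- The projection onto the part of odd order. -/
def proj' : (centralizer ((S : Subgroup G) : Set G) : Subgroup G) →*
    (centralizer ((S : Subgroup G) : Set G) : Subgroup G) where
  toFun f := f ^ (q + 1)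
  map_one' := one_pow _
  map_mul' a b := Subtype.ext (by simpa using h.pow_q_succ_mul a.2 b.2)

include h in
theorem card_pairs {t g : G} (ht : t ∈ (S : Subgroup G)) (ht1 : t ≠ 1) (hg : g ∈ K) (hg1 : g ≠ 1)
    [Decidable (g ∈ (S : Subgroup G))] :
    Nat.card {p : G × G // IsConj t p.1 ∧ IsConj t p.2 ∧ p.1 * p.2 = g} =
      if g ∈ (S : Subgroup G) then SE.mm S - 1 else 0 := by
  have ht2 := h.toSE.involution ht ht1
  have hinv : ∀ x : G, IsConj t x ↔ orderOf x = 2 := fun x => ⟨fun e => by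
    obtain ⟨c, rfl⟩ := isConj_iff.1 e
    rw [← MulAut.conj_apply, MulEquiv.orderOf_eq, ht2], fun e => h.conj t x ht2 e⟩
  have key : ∀ p : G × G, IsConj t p.1 → IsConj t p.2 → p.1 * p.2 = g →
      p.1 ∈ (S : Subgroup G) ∧ p.2 ∈ (S : Subgroup G) := by
    intro p h1 h2 h3
    rw [hinv] at h1 h2
    have e1 : p.1 * g * p.1⁻¹ = g⁻¹ := by
      rw [← h3, mul_inv_rev, involution_inv h1, involution_inv h2]
      rw [← mul_assoc, mul_self_one h1, one_mul]
    have hu : p.1 ∈ M := h.ti _ g hg hg1 (e1 ▸ inv_mem hg)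
    have hv : p.2 ∈ M := by
      have : p.2 = p.1⁻¹ * g := by rw [← h3, inv_mul_cancel_left]
      rw [this]; exact mul_mem (inv_mem hu) (h.toSE.centralizer_sylow_le hg)
    exact ⟨mem_sylow_of_sq hu (orderOf_dvd_iff_pow_eq_one.1 h1.dvd),
      mem_sylow_of_sq hv (orderOf_dvd_iff_pow_eq_one.1 h2.dvd)⟩
  by_cases hgS : g ∈ (S : Subgroup G)
  swap
  · rw [if_neg hgS]
    haveI : IsEmpty {p : G × G // IsConj t p.1 ∧ IsConj t p.2 ∧ p.1 * p.2 = g} :=
      ⟨fun p => hgS (p.2.2.2 ▸ mul_mem (key _ p.2.1 p.2.2.1 p.2.2.2).1 (key _ p.2.1 p.2.2.1 p.2.2.2).2)⟩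
    exact Nat.card_of_isEmpty
  rw [if_pos hgS]
  classical
  let X := {s : G // s ∈ (S : Subgroup G) ∧ s ≠ 1}
  haveI := Fintype.ofFinite X
  have hgg : g * g = 1 := by rw [← sq]; exact h.edge.two_group_sq S.2 g hgS
  let e : {p : G × G // IsConj t p.1 ∧ IsConj t p.2 ∧ p.1 * p.2 = g} ≃
      {x : X // x ≠ ⟨g, hgS, hg1⟩} :=
    { toFun := fun p => ⟨⟨p.1.1, (key _ p.2.1 p.2.2.1 p.2.2.2).1, fun e => by
          have := (hinv _).1 p.2.1
          rw [e, orderOf_one] at this; omega⟩, fun e => by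
          have e' : p.1.1 = g := congrArg Subtype.val e
          have h2 : p.1.2 = 1 := mul_left_cancel (a := p.1.1) (by rw [p.2.2.2, mul_one, e'])
          have := (hinv _).1 p.2.2.1
          rw [h2, orderOf_one] at this; omega⟩
      invFun := fun x => ⟨(x.1.1, x.1.1 * g), (hinv _).2 (h.toSE.involution x.1.2.1 x.1.2.2),
        (hinv _).2 (h.toSE.involution (mul_mem x.1.2.1 hgS) fun e => x.2 (Subtype.ext (by
          show x.1.1 = g
          rw [eq_inv_of_mul_eq_one_left e, inv_eq_of_mul_eq_one_right hgg]))), by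
          show x.1.1 * (x.1.1 * g) = g
          rw [← mul_assoc, show x.1.1 * x.1.1 = 1 by rw [← sq]; exact h.edge.two_group_sq S.2 _ x.1.2.1,
            one_mul]⟩
      left_inv := fun p => Subtype.ext (Prod.ext rfl (by
        show p.1.1 * g = p.1.2
        refine (congrArg (p.1.1 * ·) p.2.2.2).symm.trans ?_
        show p.1.1 * (p.1.1 * p.1.2) = p.1.2
        rw [← mul_assoc, mul_self_one ((hinv _).1 p.2.1), one_mul]))
      right_inv := fun x => rfl }
  rw [Nat.card_congr e, Nat.card_eq_fintype_card, Fintype.card_subtype_compl,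
    Fintype.card_subtype_eq, SE.mm, Nat.card_eq_fintype_card]

include h in
theorem false_of : False := by
  classical
  haveI : Fact (Nat.Prime 2) := ⟨Nat.prime_two⟩
  haveI := Fintype.ofFinite G
  obtain ⟨t, ht, ht1⟩ := h.toSE.exists_ne_one
  have ht2 := h.toSE.involution ht ht1
  set m := SE.mm S with hm
  have hm3 : 3 ≤ m := h.toSE.three_le_mm
  have hmS : m + 1 = Nat.card (S : Subgroup G) := h.toSE.mm_succ
  set N := normalizer ((K : Subgroup G) : Set G) with hN
  have hNM : N = M := h.normalizer_eq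
  haveI := Fintype.ofFinite N
  haveI hHn : ((K).subgroupOf N).Normal := normal_in_normalizer
  set H := (K).subgroupOf N with hH
  haveI := Fintype.ofFinite H
  have hidx : H.index = m := by
    rw [hH, hm, ← h.index_eq]
    show relIndex K N = relIndex K M
    rw [hNM]
  have hTI : ∀ g : G, g ∉ N → ∀ k ∈ K, g * k * g⁻¹ ∈ K → k = 1 := by
    intro g hg k hk hgk
    by_contra hk1
    exact hg (hNM ▸ h.ti g k hk hk1 hgk)
  have hlt : K < N := by
    refine lt_of_le_of_ne Subgroup.le_normalizer fun e => ?_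
    have : H.index = 1 := Subgroup.index_eq_one.2 (subgroupOf_eq_top.2 e.ge)
    omega
  have hker := CharDeep.TIFrob.kernelish K h.cc
  have hCT : centralizer ({t} : Set G) = K := h.centralizer_eq ht ht1
  have hKN : K ≤ N := Subgroup.le_normalizer
  -- the linear characters of `K`
  let eH : H ≃* (K : Subgroup G) := subgroupOfEquivOfLe hKN
  let T : Finset (↥N → ℂ) := (Finset.univ.filter fun θ : Cfsg.IrrCharacter H =>
      (θ : H → ℂ) 1 = 1 ∧ (θ : H → ℂ) ≠ 1).image
    fun θ : Cfsg.IrrCharacter H => Cfsg.indFun H (θ : H → ℂ)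
  have hTmem : ∀ ζ ∈ T, ζ ∈ inducedSet H ∧ ∃ θ : Cfsg.IrrCharacter H,
      (θ : H → ℂ) 1 = 1 ∧ (θ : H → ℂ) ≠ 1 ∧ Cfsg.indFun H (θ : H → ℂ) = ζ := by
    intro ζ hζ
    obtain ⟨θ, hθ, rfl⟩ := Finset.mem_image.1 hζ
    obtain ⟨-, h1, h2⟩ := Finset.mem_filter.1 hθ
    exact ⟨(mem_inducedSet H).2 ⟨θ, h2, rfl⟩, θ, h1, h2, rfl⟩
  -- counting them
  haveI : Finite (↥H →* ℂˣ) := Finite.of_equiv _ (linearEquivHom (G := ↥H)).symm
  have hrep : ∀ g : ↥N, ∀ f : ↥H, g * f * g⁻¹ ∈ H := fun g f => hHn.conj_mem _ f.2 g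
  have hΛ : (m + 1) * (m + 1) ≤ Nat.card (↥H →* ℂˣ) := by
    -- characters of `S`
    haveI : IsMulCommutative (S : Subgroup G) :=
      ⟨⟨fun a b => Subtype.ext (h.edge.sylow_comm a.2 b.2).eq⟩⟩
    letI : CommGroup (S : Subgroup G) := { (inferInstance : Group (S : Subgroup G)) with
      mul_comm := fun a b => Subtype.ext (h.edge.sylow_comm a.2 b.2).eq }
    haveI : NeZero ((Monoid.exponent (S : Subgroup G) : ℕ) : ℂ) :=
      ⟨by exact_mod_cast Monoid.exponent_ne_zero_of_finite⟩
    have hA : Nat.card ((S : Subgroup G) →* ℂˣ) = m + 1 := by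
      rw [CommGroup.card_monoidHom_of_hasEnoughRootsOfUnity (S : Subgroup G) ℂ, hmS]
    -- characters trivial on `S`
    let B := {β : (↥H →* ℂˣ) // ∀ x : H, ((x : ↥N) : G) ∈ (S : Subgroup G) → β x = 1}
    let P := (h.proj').range
    obtain ⟨w, hwK, hw1, hwodd⟩ := h.exists_odd
    have hwq : w ^ q = 1 := h.edge.odd_commute ht2 (mem_centralizer_iff.1 hwK t ht) hwodd
    have hP : IsPGroup q P := by
      rintro ⟨x, y, rfl⟩
      refine ⟨1, Subtype.ext (Subtype.ext ?_)⟩
      obtain ⟨j, hj⟩ := h.edge.odd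
      show (((y : G) ^ (q + 1)) ^ q ^ 1) = 1
      rw [pow_one, ← pow_mul, show (q + 1) * q = q * 2 * (j + 1) by rw [hj]; ring, pow_mul, pow_mul,
        h.pow_two_q y.2, one_pow]
    haveI := Fact.mk h.edge.prime
    have hwP : h.proj' ⟨w, hwK⟩ = ⟨w, hwK⟩ := Subtype.ext (by
      show w ^ (q + 1) = w
      rw [pow_succ, hwq, one_mul])
    haveI : Nontrivial P := ⟨⟨⟨⟨w, hwK⟩, ⟨w, hwK⟩, hwP⟩, 1, fun e =>
      hw1 (congrArg (fun z : P => ((z : (K : Subgroup G)) : G)) e)⟩⟩
    haveI : Group.IsNilpotent P := hP.isNilpotent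
    have hcomm : commutator P ≠ ⊤ := fun e => by
      have := Group.IsSolvable.commutator_lt_top_of_nontrivial P
      rw [e] at this
      exact lt_irrefl _ this
    obtain ⟨x₀, hx₀⟩ : ∃ x : P, x ∉ commutator P := by
      by_contra hcon
      push Not at hcon
      exact hcomm (eq_top_iff.2 fun x _ => hcon x)
    haveI : NeZero ((Monoid.exponent (Abelianization P) : ℕ) : ℂ) := by
      haveI : Finite (Abelianization P) :=
        Finite.of_surjective _ (QuotientGroup.mk_surjective (s := commutator P))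
      exact ⟨by exact_mod_cast Monoid.exponent_ne_zero_of_finite⟩
    obtain ⟨χ, hχ⟩ := CommGroup.exists_apply_ne_one_of_hasEnoughRootsOfUnity (Abelianization P) ℂ
      (a := Abelianization.of x₀) (fun e => hx₀ (by rwa [← MonoidHom.mem_ker, Abelianization.ker_of] at e))
    let β : (↥H →* ℂˣ) := (χ.comp Abelianization.of).comp (h.proj'.rangeRestrict.comp eH.toMonoidHom)
    have hβS : ∀ x : H, ((x : ↥N) : G) ∈ (S : Subgroup G) → β x = 1 := by
      intro x hx
      have : h.proj'.rangeRestrict (eH x) = 1 := Subtype.ext (Subtype.ext (by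
        show ((x : ↥N) : G) ^ (q + 1) = 1
        obtain ⟨j, hj⟩ := h.edge.odd
        rw [show q + 1 = 2 * (j + 1) by omega, pow_mul, h.edge.two_group_sq S.2 _ hx, one_pow]))
      show χ (Abelianization.of (h.proj'.rangeRestrict (eH x))) = 1
      rw [this, map_one, map_one]
    have hβ1 : β ≠ 1 := by
      obtain ⟨z, hz⟩ := h.proj'.rangeRestrict_surjective x₀
      intro e
      apply hχ
      have := DFunLike.congr_fun e (eH.symm z)
      simp only [β, MonoidHom.comp_apply, MulEquiv.coe_toMonoidHom, MulEquiv.apply_symm_apply,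
        hz, MonoidHom.one_apply] at this
      exact this
    -- its conjugates
    let cj : ↥N → (↥H →* ℂˣ) := fun g =>
      { toFun := fun f => β ⟨g * f * g⁻¹, hrep g f⟩
        map_one' := by
          convert map_one β
          exact Subtype.ext (by simp)
        map_mul' := fun a b => by
          rw [← map_mul]; congr 1
          exact Subtype.ext (by simp [mul_assoc]) }
    have hcjB : ∀ g : ↥N, ∀ x : H, ((x : ↥N) : G) ∈ (S : Subgroup G) → cj g x = 1 := by
      intro g x hx
      refine hβS _ ?_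
      exact (mem_normalizer_iff.1 (hNM ▸ g.2 : (g : G) ∈ M) _).1 hx
    let Fm : Option (↥N ⧸ H) → B := fun o => o.elim ⟨1, fun _ _ => rfl⟩
      fun c => ⟨cj c.out, hcjB _⟩
    have hFm : Function.Injective Fm := by
      have hne : ∀ g, cj g ≠ 1 := fun g e => hβ1 (MonoidHom.ext fun f => by
        have := DFunLike.congr_fun e ⟨g⁻¹ * f * g⁻¹⁻¹, hrep g⁻¹ f⟩
        simp only [MonoidHom.one_apply] at this
        rw [MonoidHom.one_apply, ← this]
        show β f = β _
        congr 1
        exact Subtype.ext (by simp [mul_assoc]))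
      rintro (_ | c) (_ | d) e
      · rfl
      · exact absurd (congrArg Subtype.val e).symm (hne _)
      · exact absurd (congrArg Subtype.val e) (hne _)
      · have e' : cj c.out = cj d.out := congrArg Subtype.val e
        refine congrArg some ?_
        rw [← QuotientGroup.out_eq' c, ← QuotientGroup.out_eq' d]
        have hirr : Cfsg.IsIrrCharacter H (fun f => (β f : ℂ)) := isIrrCharacter_hom β
        have hne1 : (fun f : H => (β f : ℂ)) ≠ 1 := fun e1 => hβ1 (MonoidHom.ext fun f =>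
          Units.ext (congrFun e1 f))
        have hmem : d.out * c.out⁻¹ ∈ H := by
          refine mem_of_conjFun_eq H hker hirr hne1 (funext fun f => ?_)
          rw [conjFun_apply]
          have := DFunLike.congr_fun e' ⟨c.out⁻¹ * f * c.out⁻¹⁻¹, hrep _ f⟩
          have h1 : β f = β ⟨d.out * c.out⁻¹ * f * (d.out * c.out⁻¹)⁻¹, hrep _ f⟩ := by
            refine Eq.trans ?_ (this.trans ?_)
            · show β f = β _
              congr 1; exact Subtype.ext (by simp [mul_assoc])
            · show β _ = β _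
              congr 1; exact Subtype.ext (by simp [mul_assoc])
          exact (congrArg Units.val h1).symm
        rw [QuotientGroup.eq]
        have := hHn.conj_mem _ hmem c.out⁻¹
        simpa [mul_assoc] using this
    have hB : m + 1 ≤ Nat.card B := by
      have hle := Nat.card_le_card_of_injective Fm hFm
      haveI := Fintype.ofFinite (↥N ⧸ H)
      rwa [Nat.card_eq_fintype_card (α := Option _), Fintype.card_option, ← Nat.card_eq_fintype_card,
        ← Subgroup.index_eq_card, hidx] at hle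
    -- products
    let Φ : ((S : Subgroup G) →* ℂˣ) × B → (↥H →* ℂˣ) := fun p => (p.1.comp (h.proj.comp eH.toMonoidHom)) * p.2.1
    have hΦ : Function.Injective Φ := by
      rintro ⟨a, b⟩ ⟨a', b'⟩ e
      have ha : a = a' := MonoidHom.ext fun s => by
        let x : H := eH.symm ⟨s, h.sylow_le s.2⟩
        have hx : ((x : ↥N) : G) = s := rfl
        have e1 := DFunLike.congr_fun e x
        simp only [Φ, MonoidHom.mul_apply, MonoidHom.comp_apply] at e1
        rw [b.2 x (hx ▸ s.2), b'.2 x (hx ▸ s.2), mul_one, mul_one] at e1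
        have hp : h.proj (eH x) = s := Subtype.ext (by
          show ((x : ↥N) : G) ^ q = s
          obtain ⟨j, hj⟩ := h.edge.odd
          rw [hx, hj, pow_succ, pow_mul, h.edge.two_group_sq S.2 _ s.2, one_pow, one_mul])
        rwa [MulEquiv.coe_toMonoidHom, hp] at e1
      subst ha
      exact Prod.ext rfl (Subtype.ext (mul_left_cancel e))
    have := Nat.card_le_card_of_injective Φ hΦ
    rw [Nat.card_prod, hA] at this
    exact le_trans (Nat.mul_le_mul_left _ hB) this
  have hTcard : Nat.card (↥H →* ℂˣ) ≤ T.card * m + 1 := by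
    let L1 := Finset.univ.filter fun θ : Cfsg.IrrCharacter H => (θ : H → ℂ) 1 = 1
    let F1 := L1.filter fun θ : Cfsg.IrrCharacter H => (θ : H → ℂ) ≠ 1
    have h1 : Nat.card (↥H →* ℂˣ) = L1.card := by
      rw [Nat.card_congr (linearEquivHom (G := ↥H)), Nat.card_eq_fintype_card, Fintype.card_subtype]
    have h2 : L1.card ≤ F1.card + 1 := by
      have := Finset.card_filter_add_card_filter_not (s := L1) (fun θ : Cfsg.IrrCharacter H => (θ : H → ℂ) ≠ 1)
      have h3 : (L1.filter fun θ : Cfsg.IrrCharacter H => ¬ (θ : H → ℂ) ≠ 1).card ≤ 1 := by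
        rw [Finset.card_le_one]
        intro a ha b hb
        simp only [Finset.mem_filter, ne_eq, not_not] at ha hb
        exact Subtype.ext (ha.2.trans hb.2.symm)
      simp only [F1]; omega
    have h3 : F1.card ≤ T.card * m := by
      have hF : F1 = Finset.univ.filter fun θ : Cfsg.IrrCharacter H =>
          (θ : H → ℂ) 1 = 1 ∧ (θ : H → ℂ) ≠ 1 := by
        simp only [F1, L1, Finset.filter_filter]
      have hle := Finset.card_le_mul_card_image F1 (f := fun θ : Cfsg.IrrCharacter H => Cfsg.indFun H (θ : H → ℂ)) m ?_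
      · rwa [mul_comm, show F1.image (fun θ : Cfsg.IrrCharacter H => Cfsg.indFun H (θ : H → ℂ)) = T by rw [hF]] at hle
      · intro ζ hζ
        obtain ⟨θ, hθ, rfl⟩ := Finset.mem_image.1 hζ
        obtain ⟨-, hθ'⟩ := Finset.mem_filter.1 hθ
        refine le_trans (Finset.card_le_card ?_) ((indFun_apply_eq_sum_fibre H hker
          ((mem_fibre H).2 ⟨hθ', rfl⟩)).2.le.trans hidx.le)
        intro φ hφ
        obtain ⟨hφ1, hφ2⟩ := Finset.mem_filter.1 hφ
        exact (mem_fibre H).2 ⟨(Finset.mem_filter.1 hφ1).2, hφ2⟩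
    omega
  set n := T.card with hn
  have hnm : m * m + 2 * m ≤ n * m := by
    have := hΛ.trans hTcard
    rw [show (m + 1) * (m + 1) = m * m + 2 * m + 1 by ring] at this
    omega
  have hn2 : 2 ≤ n := by
    by_contra hlt2
    have h1 : n * m ≤ 1 * m := Nat.mul_le_mul_right m (by omega)
    omega
  let eT : Fin n ≃ T := T.equivFin.symm
  let χs : Fin n → (↥N → ℂ) := fun i => (eT i : ↥N → ℂ)
  have hχmem : ∀ i, χs i ∈ inducedSet H := fun i => (hTmem _ (eT i).2).1
  have hdeg : ∀ i, χs i 1 = (m : ℂ) := by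
    intro i
    obtain ⟨θ, hθ1, hθne, hθ⟩ := (hTmem _ (eT i).2).2
    rw [show χs i = Cfsg.indFun H (θ : H → ℂ) from hθ.symm, CharInd.indFun_apply_one, hθ1, mul_one, hidx]
  obtain ⟨ε, hε, θs, hθirr, hθinj, hind⟩ := Cfsg.Agent.S0170.result (K : Set G)
    (fun x hx => Subgroup.le_normalizer hx) hTI n hn2 χs
    (fun i => inducedSet_isIrr H hker (hχmem i))
    (fun i j hij => eT.injective (Subtype.ext hij))
    (fun i x hx => CharDeep.TIFrob.apply_eq_zero H (hχmem i) fun hx' => hx (Subgroup.mem_subgroupOf.1 hx'))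
    (fun i j => (hdeg i).trans (hdeg j).symm)
  have hεε : ε * ε = 1 := by rcases hε with rfl | rfl <;> norm_num
  have hεne : ε ≠ 0 := fun e => by rw [e, mul_zero] at hεε; exact zero_ne_one hεε
  -- common degree
  have hXall : ∀ i j, θs i 1 = θs j 1 := by
    intro i j
    have h1 := congrFun (hind i j) 1
    simp only [Pi.sub_apply, Pi.smul_apply, smul_eq_mul, CharInd.indFun_apply_one, hdeg, sub_self] at h1
    rcases mul_eq_zero.1 h1.symm with e | e
    · exact absurd e hεne
    · exact sub_eq_zero.1 e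
  -- values on the involutions
  have hcard : Nat.card H = Nat.card K := Nat.card_congr eH.toEquiv
  have htN : t ∈ N := hKN (h.sylow_le ht)
  have htH : (⟨t, htN⟩ : ↥N) ∈ H := h.sylow_le ht
  have hval : ∀ θ : Cfsg.IrrCharacter H, (θ : H → ℂ) 1 = 1 → ∀ s (hs : s ∈ (S : Subgroup G)),
      s ≠ 1 → Cfsg.indFun H (θ : H → ℂ) ⟨s, hKN (h.sylow_le hs)⟩ =
        ∑ r ∈ (Finset.univ.filter fun r : H => ((r : ↥N) : G) ∈ (S : Subgroup G) ∧ r ≠ 1),
          (θ : H → ℂ) r := by
    intro θ hθ1 s hs hs1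
    set sH : H := ⟨⟨s, hKN (h.sylow_le hs)⟩, h.sylow_le hs⟩ with hsH
    set R := Finset.univ.filter fun r : H => ((r : ↥N) : G) ∈ (S : Subgroup G) ∧ r ≠ 1
    let cjs : ↥N → H := fun x => ⟨x * sH * x⁻¹, hHn.conj_mem _ sH.2 x⟩
    have hmap : ∀ x ∈ (Finset.univ : Finset ↥N), cjs x ∈ R := by
      intro x _
      refine Finset.mem_filter.2 ⟨Finset.mem_univ _, ?_, ?_⟩
      · exact (mem_normalizer_iff.1 (hNM ▸ x.2 : (x : G) ∈ M) s).1 hs
      · intro e
        exact hs1 (conj_eq_one_iff.1 (congrArg (fun r : H => ((r : ↥N) : G)) e))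
    rw [show (⟨s, hKN (h.sylow_le hs)⟩ : ↥N) = (sH : ↥N) from rfl, indFun_apply_normal,
      ← Finset.sum_fiberwise_of_maps_to hmap]
    simp only [conjFun_apply]
    have hfib : ∀ r ∈ R, (Finset.univ.filter fun x => cjs x = r).card = Nat.card H := by
      intro r hr
      obtain ⟨-, hrS, hr1⟩ := Finset.mem_filter.1 hr
      obtain ⟨g, hg, hge⟩ := h.toSE.transitive hs hs1 hrS fun e =>
        hr1 (Subtype.ext (Subtype.ext e))
      set gN : ↥N := ⟨g, hNM.symm ▸ hg⟩
      rw [Nat.card_eq_fintype_card, ← Finset.card_univ]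
      symm
      refine Finset.card_bij (fun f _ => gN * (f : ↥N)) ?_ ?_ ?_
      · intro f _
        refine Finset.mem_filter.2 ⟨Finset.mem_univ _, Subtype.ext (Subtype.ext ?_)⟩
        show g * ((f : ↥N) : G) * s * (g * ((f : ↥N) : G))⁻¹ = _
        have hfs : ((f : ↥N) : G) * s = s * ((f : ↥N) : G) :=
          (mem_centralizer_iff.1 f.2 s hs).symm
        rw [mul_assoc g, hfs, ← hge]; group
      · intro a _ b _ e
        exact Subtype.ext (mul_left_cancel e)
      · intro x hx
        have e := congrArg (fun r : H => ((r : ↥N) : G)) (Finset.mem_filter.1 hx).2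
        refine ⟨⟨gN⁻¹ * x, ?_⟩, Finset.mem_univ _, mul_inv_cancel_left _ _⟩
        show g⁻¹ * (x : G) ∈ K
        refine (h.centralizer_eq hs hs1).le (mem_centralizer_singleton_iff.2 ?_)
        have e' : (x : G) * s * (x : G)⁻¹ = g * s * g⁻¹ := e.trans hge.symm
        calc g⁻¹ * (x : G) * s = g⁻¹ * ((x : G) * s * (x : G)⁻¹) * x := by group
          _ = g⁻¹ * (g * s * g⁻¹) * x := by rw [e']
          _ = _ := by group
    have hH0 : (Nat.card H : ℂ) ≠ 0 := CharInd.natCard_subgroup_ne_zero H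
    rw [Finset.mul_sum]
    refine Finset.sum_congr rfl fun r hr => ?_
    rw [Finset.sum_congr rfl (g := fun _ => (θ : H → ℂ) r) fun x hx => ?_, Finset.sum_const,
      hfib r hr, nsmul_eq_mul, ← mul_assoc, inv_mul_cancel₀ hH0, one_mul]
    exact congrArg (θ : H → ℂ) (Finset.mem_filter.1 hx).2
  -- two test characters
  obtain ⟨i₀, j₀, hij⟩ : ∃ i j, ∀ s (hs : s ∈ (S : Subgroup G)), s ≠ 1 →
      χs i ⟨s, hKN (h.sylow_le hs)⟩ - χs j ⟨s, hKN (h.sylow_le hs)⟩ = -((m : ℂ) + 1) := by
    set R := Finset.univ.filter fun r : H => ((r : ↥N) : G) ∈ (S : Subgroup G) ∧ r ≠ 1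
    have hRcard : R.card = m := by
      rw [hm, SE.mm, ← Nat.card_eq_finsetCard]
      exact Nat.card_congr
        { toFun := fun r => ⟨((r.1 : ↥N) : G), (Finset.mem_filter.1 r.2).2.1, fun e =>
            (Finset.mem_filter.1 r.2).2.2 (Subtype.ext (Subtype.ext e))⟩
          invFun := fun s => ⟨⟨⟨s.1, hKN (h.sylow_le s.2.1)⟩, h.sylow_le s.2.1⟩,
            Finset.mem_filter.2 ⟨Finset.mem_univ _, s.2.1, fun e =>
              s.2.2 (congrArg (fun r : H => ((r : ↥N) : G)) e)⟩⟩
          left_inv := fun _ => rfl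
          right_inv := fun _ => rfl }
    have mk : ∀ f : ↥H →* ℂˣ, f ≠ 1 → ∃ i, ∀ s (hs : s ∈ (S : Subgroup G)), s ≠ 1 →
        χs i ⟨s, hKN (h.sylow_le hs)⟩ = ∑ r ∈ R, (f r : ℂ) := by
      intro f hf
      let θ : Cfsg.IrrCharacter H := ⟨_, isIrrCharacter_hom f⟩
      have h1 : (θ : H → ℂ) 1 = 1 := by simp [θ]
      have h2 : (θ : H → ℂ) ≠ 1 := fun e => hf (MonoidHom.ext fun x => Units.ext (congrFun e x))
      refine ⟨eT.symm ⟨_, Finset.mem_image.2 ⟨θ, Finset.mem_filter.2 ⟨Finset.mem_univ _, h1, h2⟩, rfl⟩⟩,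
        fun s hs hs1 => ?_⟩
      simp only [χs, Equiv.apply_symm_apply]
      exact hval θ h1 s hs hs1
    -- a character nontrivial on `S`
    letI : CommGroup (S : Subgroup G) := { (inferInstance : Group (S : Subgroup G)) with
      mul_comm := fun a b => Subtype.ext (h.edge.sylow_comm a.2 b.2).eq }
    haveI : NeZero ((Monoid.exponent (S : Subgroup G) : ℕ) : ℂ) :=
      ⟨by exact_mod_cast Monoid.exponent_ne_zero_of_finite⟩
    obtain ⟨a, ha⟩ := CommGroup.exists_apply_ne_one_of_hasEnoughRootsOfUnity (S : Subgroup G) ℂ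
      (a := ⟨t, ht⟩) fun e => ht1 (congrArg Subtype.val e)
    let f1 : (↥H →* ℂˣ) := a.comp (h.proj.comp eH.toMonoidHom)
    have hf1 : ∀ r : H, ∀ hr : ((r : ↥N) : G) ∈ (S : Subgroup G), f1 r = a ⟨_, hr⟩ := by
      intro r hr
      refine congrArg a (Subtype.ext ?_)
      show ((r : ↥N) : G) ^ q = _
      obtain ⟨j, hj⟩ := h.edge.odd
      rw [hj, pow_succ, pow_mul, h.edge.two_group_sq S.2 _ hr, one_pow, one_mul]
    have hf1ne : f1 ≠ 1 := fun e => ha (by
      rw [← hf1 ⟨⟨t, htN⟩, htH⟩ ht, e]; rfl)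
    -- and one trivial on it
    obtain ⟨f2, hf2ne, hf2⟩ : ∃ f2 : (↥H →* ℂˣ), f2 ≠ 1 ∧ ∀ r ∈ R, f2 r = 1 := by
      by_contra hcon
      push Not at hcon
      obtain ⟨w, hwK, hw1, hwodd⟩ := h.exists_odd
      have hwq : w ^ q = 1 := h.edge.odd_commute ht2 (mem_centralizer_iff.1 hwK t ht) hwodd
      -- then restriction to `S` is injective on `(↥H →* ℂˣ)`
      have hinj : Function.Injective (fun f : (↥H →* ℂˣ) => (fun r : R => f r.1)) := by
        intro f g e
        have : f * g⁻¹ = 1 := by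
          by_contra hne
          obtain ⟨r, hr, hr'⟩ := hcon _ hne
          apply hr'
          have := congrFun e ⟨r, hr⟩
          simp only [MonoidHom.mul_apply, MonoidHom.inv_apply]
          rw [show f r = g r from this, mul_inv_cancel]
        refine MonoidHom.ext fun x => ?_
        have hx := DFunLike.congr_fun this x
        simpa [mul_inv_eq_one] using hx
      -- but there are too many characters
      have h1 : ∀ f : (↥H →* ℂˣ), ∀ r : R, f r.1 = 1 ∨ f r.1 = -1 := fun f r => by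
        have hr2 : r.1 ^ 2 = 1 := Subtype.ext (Subtype.ext (by
          show ((r.1 : ↥N) : G) ^ 2 = 1
          exact h.edge.two_group_sq S.2 _ (Finset.mem_filter.1 r.2).2.1))
        have : (f r.1 : ℂ) ^ 2 = 1 := by
          rw [← Units.val_pow_eq_pow_val, ← map_pow, hr2, map_one, Units.val_one]
        rcases sq_eq_one_iff.1 this with e | e
        · exact Or.inl (Units.ext e)
        · exact Or.inr (Units.ext (by rw [e, Units.val_neg, Units.val_one]))
      have hbound : Nat.card (↥H →* ℂˣ) ≤ m + 1 := by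
        -- restriction to `S` is a character of `S`
        let res : (↥H →* ℂˣ) → ((S : Subgroup G) →* ℂˣ) := fun f => f.comp
          { toFun := fun s => ⟨⟨s.1, hKN (h.sylow_le s.2)⟩, h.sylow_le s.2⟩
            map_one' := rfl
            map_mul' := fun _ _ => rfl }
        have hres : Function.Injective res := fun f g e => hinj (funext fun r =>
          DFunLike.congr_fun e ⟨((r.1 : ↥N) : G), (Finset.mem_filter.1 r.2).2.1⟩)
        refine (Nat.card_le_card_of_injective res hres).trans ?_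
        rw [CommGroup.card_monoidHom_of_hasEnoughRootsOfUnity (S : Subgroup G) ℂ, hmS]
      have : (m + 1) * 2 ≤ (m + 1) * (m + 1) := Nat.mul_le_mul_left _ (by omega)
      omega
    obtain ⟨i, hi⟩ := mk f1 hf1ne
    obtain ⟨j, hj⟩ := mk f2 hf2ne
    refine ⟨i, j, fun s hs hs1 => ?_⟩
    rw [hi s hs hs1, hj s hs hs1, Finset.sum_congr rfl fun r hr => show (f2 r : ℂ) = 1 by rw [hf2 r hr]; rfl,
      Finset.sum_const, hRcard, nsmul_eq_mul, mul_one]
    have hsum : (∑ r ∈ R, (f1 r : ℂ)) = -1 := by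
      have h0 : ∑ v : (S : Subgroup G), (a v : ℂ) = 0 := by
        have e1 : (a ⟨t, ht⟩ : ℂ) * ∑ v : (S : Subgroup G), (a v : ℂ) =
            ∑ v : (S : Subgroup G), (a v : ℂ) := by
          rw [Finset.mul_sum]
          exact Fintype.sum_equiv (Equiv.mulLeft ⟨t, ht⟩) _ _ fun v => by simp
        by_contra hne
        exact ha (Units.ext (mul_eq_right₀ hne |>.1 e1))
      rw [← Finset.add_sum_erase _ _ (Finset.mem_univ (1 : (S : Subgroup G))), map_one,
        Units.val_one] at h0
      have hbij : ∑ r ∈ R, (f1 r : ℂ) = ∑ v ∈ (Finset.univ : Finset (S : Subgroup G)).erase 1, (a v : ℂ) := by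
        refine Finset.sum_bij' (fun r hr => ⟨((r : ↥N) : G), (Finset.mem_filter.1 hr).2.1⟩)
          (fun v _ => ⟨⟨v.1, hKN (h.sylow_le v.2)⟩, h.sylow_le v.2⟩) ?_ ?_ ?_ ?_ ?_
        · intro r hr
          refine Finset.mem_erase.2 ⟨fun e => (Finset.mem_filter.1 hr).2.2 ?_, Finset.mem_univ _⟩
          exact Subtype.ext (Subtype.ext (congrArg (fun z : (S : Subgroup G) => (z : G)) e))
        · intro v hv
          exact Finset.mem_filter.2 ⟨Finset.mem_univ _, v.2, fun e =>
            (Finset.mem_erase.1 hv).1 (Subtype.ext (congrArg (fun r : H => ((r : ↥N) : G)) e))⟩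
        · intro r _; rfl
        · intro v _; rfl
        · intro r hr; rw [hf1 r (Finset.mem_filter.1 hr).2.1]
      rw [hbij]
      linear_combination h0
    rw [hsum]; ring
  -- the class function counting pairs of involutions
  let d : Cfsg.IrrCharacter G → ℂ := fun χ => (χ : G → ℂ) 1
  let c : Cfsg.IrrCharacter G → ℂ := fun χ => (χ : G → ℂ) t ^ 2 / d χ
  let P : G → ℂ := fun g =>
    (Nat.card {p : G × G // IsConj t p.1 ∧ IsConj t p.2 ∧ p.1 * p.2 = g} : ℂ)
  set cl : ℂ := (Nat.card {y : G // IsConj t y} : ℂ) with hcl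
  have hG0 : (Nat.card G : ℂ) ≠ 0 := Nat.cast_ne_zero.2 Nat.card_pos.ne'
  have hint : ∀ χ : Cfsg.IrrCharacter G, ∃ a : ℤ, ∃ d : ℕ, 0 < d ∧
      (χ : G → ℂ) t = a ∧ (χ : G → ℂ) 1 = d ∧ 2 ∣ a + d := by
    intro χ
    obtain ⟨n, hn, hd⟩ := IsIrrCharacter.exists_degree χ.2
    obtain ⟨a, ha, hpar⟩ := InvChar68.exists_int_value_involution ht2 χ hd
    exact ⟨a, n, hn, ha, hd, hpar⟩
  have hP : P = (cl ^ 2 / Nat.card G) • ∑ χ : Cfsg.IrrCharacter G, c χ • (χ : G → ℂ) := by
    funext g
    have h1 := congrArg conj (InvChar68.card_pairs_mul_card t g)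
    simp only [map_mul, map_natCast, map_pow, map_sum, map_div₀, Complex.conj_conj] at h1
    simp only [Pi.smul_apply, Finset.sum_apply, smul_eq_mul]
    rw [div_mul_eq_mul_div, eq_div_iff hG0, hcl, h1]
    congr 1
    refine Finset.sum_congr rfl fun χ _ => ?_
    obtain ⟨a, k, -, ha, hk, -⟩ := hint χ
    simp only [c, d, ha, hk, map_intCast, map_natCast]
    ring
  have hPc : Cfsg.IsClassFunction G P := by
    rw [hP]
    intro g y
    simp only [Pi.smul_apply, Finset.sum_apply, smul_eq_mul]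
    congr 1
    refine Finset.sum_congr rfl fun χ _ => ?_
    rw [(IsCharacter.isClassFunction (IsIrrCharacter.isCharacter χ.2)) g y]
  have hPθ : ∀ i, Cfsg.classInner P (θs i) = cl ^ 2 / Nat.card G * c ⟨_, hθirr i⟩ := by
    intro i
    rw [hP, classInner_smul_left, classInner_sum_left,
      Finset.sum_eq_single (⟨θs i, hθirr i⟩ : Cfsg.IrrCharacter G)]
    · rw [classInner_smul_left]
      have := classInner_irr_self (⟨θs i, hθirr i⟩ : Cfsg.IrrCharacter G)
      rw [this, mul_one]
    · intro χ _ hne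
      rw [classInner_smul_left]
      have := classInner_irr_of_ne (χ := χ) (ψ := ⟨θs i, hθirr i⟩) hne
      rw [this, mul_zero]
    · exact fun hh => absurd (Finset.mem_univ _) hh
  set ψ : ↥N → ℂ := χs i₀ - χs j₀ with hψdef
  have hψ1 : ψ 1 = 0 := by simp [hψdef, hdeg]
  have hψcf : Cfsg.IsClassFunction ↥N ψ := by
    intro g y
    simp only [hψdef, Pi.sub_apply]
    rw [(IsCharacter.isClassFunction (IsIrrCharacter.isCharacter (inducedSet_isIrr H hker (hχmem i₀)))) g y,
      (IsCharacter.isClassFunction (IsIrrCharacter.isCharacter (inducedSet_isIrr H hker (hχmem j₀)))) g y]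
  have hψoff : ∀ x : ↥N, (x : G) ∉ K → ψ x = 0 := by
    intro x hx
    have hx' : x ∉ H := fun e => hx e
    simp [hψdef, CharDeep.TIFrob.apply_eq_zero H (hχmem i₀) hx',
      CharDeep.TIFrob.apply_eq_zero H (hχmem j₀) hx']
  have hψind : Cfsg.indFun N ψ = ε • (θs i₀ - θs j₀) := by
    rw [hψdef, CharInd.indFun_sub]; exact hind i₀ j₀
  obtain ⟨a, X, hX0, ha, hX, hapar⟩ := hint ⟨_, hθirr i₀⟩
  obtain ⟨b, X', hX'0, hb, hX', hbpar⟩ := hint ⟨_, hθirr j₀⟩
  have hXX : X' = X := by
    have := hXall i₀ j₀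
    rw [show θs i₀ 1 = (X : ℂ) from hX, show θs j₀ 1 = (X' : ℂ) from hX'] at this
    exact_mod_cast this.symm
  subst hXX
  have hab : (a : ℂ) - b = -ε * ((m : ℂ) + 1) := by
    have e1 := (Cfsg.Agent.S0850.result K hTI hlt h.cc).2 ψ hψcf hψoff hψ1 ⟨t, htN⟩
    rw [hψind] at e1
    simp only [Pi.smul_apply, Pi.sub_apply, smul_eq_mul] at e1
    rw [show θs i₀ t = (a : ℂ) from ha, show θs j₀ t = (b : ℂ) from hb] at e1
    have e2 : ψ ⟨t, htN⟩ = -((m : ℂ) + 1) := hij t ht ht1
    rw [e2] at e1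
    linear_combination ε * e1 + (-((a : ℂ) - b)) * hεε
  -- both sides of reciprocity
  have hrec := CharInd.classInner_indFun_right N ψ hPc
  rw [hψind, classInner_smul_right, classInner_sub_right, hPθ, hPθ] at hrec
  have hεc : conj ε = ε := by rcases hε with rfl | rfl <;> simp
  have hRHS : Cfsg.classInner (fun x : ↥N => P x) ψ =
      -((m : ℂ) - 1) * ((m : ℂ) + 1) / Nat.card K := by
    have hsum : ∑ x : ↥N, P x * conj (ψ x) = (m : ℂ) * (((m : ℂ) - 1) * -((m : ℂ) + 1)) := by
      let R := Finset.univ.filter fun x : ↥N => (x : G) ∈ (S : Subgroup G) ∧ x ≠ 1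
      rw [← Finset.sum_subset (Finset.subset_univ R)]
      · rw [Finset.sum_congr rfl (g := fun _ => ((m : ℂ) - 1) * -((m : ℂ) + 1)) fun x hx => ?_,
          Finset.sum_const, nsmul_eq_mul]
        · congr 2
          rw [hm, SE.mm, ← Nat.card_eq_finsetCard]
          exact Nat.card_congr
            { toFun := fun r => ⟨(r.1 : G), (Finset.mem_filter.1 r.2).2.1, fun e =>
                (Finset.mem_filter.1 r.2).2.2 (Subtype.ext e)⟩
              invFun := fun s => ⟨⟨s.1, hKN (h.sylow_le s.2.1)⟩,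
                Finset.mem_filter.2 ⟨Finset.mem_univ _, s.2.1, fun e =>
                  s.2.2 (congrArg (fun r : ↥N => (r : G)) e)⟩⟩
              left_inv := fun _ => rfl
              right_inv := fun _ => rfl }
        · obtain ⟨-, hxS, hx1⟩ := Finset.mem_filter.1 hx
          have hx1' : (x : G) ≠ 1 := fun e => hx1 (Subtype.ext e)
          have e1 : ψ x = -((m : ℂ) + 1) := hij _ hxS hx1'
          have e2 : P x = (m : ℂ) - 1 := by
            simp only [P, h.card_pairs ht ht1 (h.sylow_le hxS) hx1', if_pos hxS]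
            rw [← hm, Nat.cast_sub (by omega), Nat.cast_one]
          rw [e1, e2]; simp
      · intro x _ hx
        by_cases hxK : (x : G) ∈ K
        · by_cases hx1 : x = 1
          · rw [hx1, hψ1, map_zero, mul_zero]
          · have hxS : (x : G) ∉ (S : Subgroup G) := fun e =>
              hx (Finset.mem_filter.2 ⟨Finset.mem_univ _, e, hx1⟩)
            have hz : P x = 0 := by
              show ((Nat.card _ : ℕ) : ℂ) = 0
              rw [h.card_pairs ht ht1 hxK (fun e => hx1 (Subtype.ext e)), if_neg hxS, Nat.cast_zero]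
            rw [hz, zero_mul]
        · rw [hψoff x hxK, map_zero, mul_zero]
    rw [Cfsg.classInner, hsum]
    have hcN : (Nat.card ↥N : ℂ) = (m : ℂ) * Nat.card K := by
      rw [← hidx, ← hcard, ← Nat.cast_mul, Subgroup.index_mul_card]
    have hK0 : (Nat.card K : ℂ) ≠ 0 := Nat.cast_ne_zero.2 Nat.card_pos.ne'
    have hm0 : (m : ℂ) ≠ 0 := Nat.cast_ne_zero.2 (by omega)
    rw [hcN]; field_simp
  rw [hRHS, hεc] at hrec
  have hclK : (Nat.card {y : G // IsConj t y} : ℂ) * Nat.card K = Nat.card G := by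
    rw [← Nat.cast_mul, ← hCT, InvChar68.card_isConj_mul_card_centralizer]
  rw [← hcl] at hclK
  simp only [c, d] at hrec
  rw [show θs i₀ t = (a : ℂ) from ha, show θs j₀ t = (b : ℂ) from hb,
    show θs i₀ 1 = (X' : ℂ) from hX, show θs j₀ 1 = (X' : ℂ) from hX'] at hrec
  have hXne : (X' : ℂ) ≠ 0 := Nat.cast_ne_zero.2 hX0.ne'
  have hKne : (Nat.card K : ℂ) ≠ 0 := Nat.cast_ne_zero.2 Nat.card_pos.ne'
  have hm1 : (m : ℂ) + 1 ≠ 0 := by exact_mod_cast Nat.succ_ne_zero m
  have key : (Nat.card G : ℂ) * (a + b) = X' * ((m : ℂ) - 1) * Nat.card K := by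
    have h' : ε * cl ^ 2 * ((a : ℂ) ^ 2 - (b : ℂ) ^ 2) * Nat.card K =
        -((m : ℂ) - 1) * ((m : ℂ) + 1) * Nat.card G * X' := by
      field_simp at hrec
      linear_combination hrec
    apply mul_left_cancel₀ (mul_ne_zero hm1 hG0)
    have hsq : ((a : ℂ) ^ 2 - (b : ℂ) ^ 2) = -ε * ((m : ℂ) + 1) * (a + b) := by
      linear_combination (a + b : ℂ) * hab
    linear_combination (-(Nat.card K : ℂ)) * h' + (ε * cl ^ 2 * (Nat.card K : ℂ) ^ 2) * hsq +
      (((m : ℂ) + 1) * (a + b) * -(cl * Nat.card K + Nat.card G)) * hclK +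
      (-(((m : ℂ) + 1) * (a + b)) * cl ^ 2 * (Nat.card K : ℂ) ^ 2) * hεε
  -- parity and the size of `X`
  have hkeyZ : (Nat.card G : ℤ) * (a + b) = (X' : ℤ) * ((m : ℤ) - 1) * Nat.card K := by
    exact_mod_cast key
  have habpos : 2 ≤ a + b := by
    have h1 : 0 < (X' : ℤ) * ((m : ℤ) - 1) * Nat.card K := by
      refine mul_pos (mul_pos (by exact_mod_cast hX0) (by omega)) ?_
      exact_mod_cast Nat.card_pos
    have h2 : (0 : ℤ) < Nat.card G := by exact_mod_cast Nat.card_pos
    have h3 : 0 < a + b := by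
      rw [← hkeyZ] at h1
      exact pos_of_mul_pos_right h1 h2.le
    have h4 : (2 : ℤ) ∣ a + b := by omega
    omega
  have hGle : 2 * Nat.card G ≤ X' * (m - 1) * Nat.card K := by
    have h2 : (0 : ℤ) ≤ Nat.card G := by positivity
    have := mul_le_mul_of_nonneg_left habpos h2
    zify [show 1 ≤ m by omega]
    rw [← hkeyZ]; linarith
  -- sum of squares
  have hsq : n * (X' * X') ≤ Nat.card G := by
    choose av dv hdv hav hdv' hparv using hint
    have e1 := InvChar68.sum_mul_conj_self (G := G) 1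
    simp only [hdv', map_natCast, ← Nat.cast_mul] at e1
    rw [← Nat.cast_sum] at e1
    have e2 : (∑ χ, dv χ * dv χ) = Nat.card G := by
      have : centralizer ({1} : Set G) = ⊤ := eq_top_iff.2 fun x _ =>
        mem_centralizer_singleton_iff.2 (by simp)
      rw [this, Subgroup.card_top] at e1
      exact_mod_cast e1
    let f : Fin n → Cfsg.IrrCharacter G := fun i => ⟨θs i, hθirr i⟩
    have hf : Function.Injective f := fun i j e => hθinj (congrArg Subtype.val e)
    calc n * (X' * X') = ∑ i : Fin n, dv (f i) * dv (f i) := by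
          rw [Finset.sum_congr rfl (g := fun _ => X' * X') fun i _ => ?_, Finset.sum_const,
            Finset.card_univ, Fintype.card_fin, smul_eq_mul]
          have : (dv (f i) : ℂ) = X' := by
            rw [← hdv' (f i)]
            exact (hXall i i₀).trans hX
          rw [Nat.cast_inj.1 this]
      _ = ∑ χ ∈ Finset.univ.map ⟨f, hf⟩, dv χ * dv χ := by rw [Finset.sum_map]; rfl
      _ ≤ ∑ χ, dv χ * dv χ := Finset.sum_le_sum_of_subset (Finset.subset_univ _)
      _ = Nat.card G := e2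
  -- the final inequality
  set k := Nat.card K
  set g := Nat.card G
  have hg0 : 0 < g := Nat.card_pos
  have hgbig : (k + 1) * (k * m) ≤ g := by
    rw [show g = (normalizer ((S : Subgroup G) : Set G)).index * Nat.card M from
      (Subgroup.index_mul_card _).symm, ← hNM]
    refine Nat.mul_le_mul (hNM ▸ h.big) ?_
    rw [← Subgroup.index_mul_card H, hidx, hcard, mul_comm]
  obtain ⟨m', hm'⟩ : ∃ m', m = m' + 1 := ⟨m - 1, by omega⟩
  have e1 : (2 * g) * (2 * g) ≤ (X' * (m - 1) * k) * (X' * (m - 1) * k) := Nat.mul_le_mul hGle hGle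
  have e2 : n * ((2 * g) * (2 * g)) ≤ g * ((m - 1) * k * ((m - 1) * k)) :=
    calc n * ((2 * g) * (2 * g)) ≤ n * ((X' * (m - 1) * k) * (X' * (m - 1) * k)) := Nat.mul_le_mul_left _ e1
      _ = n * (X' * X') * ((m - 1) * k * ((m - 1) * k)) := by ring
      _ ≤ g * ((m - 1) * k * ((m - 1) * k)) := Nat.mul_le_mul_right _ hsq
  have e3 : n * 4 * g ≤ (m - 1) * k * ((m - 1) * k) := by
    refine Nat.le_of_mul_le_mul_left ?_ hg0
    calc g * (n * 4 * g) = n * ((2 * g) * (2 * g)) := by ring
      _ ≤ _ := e2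
  have e4 : n * 4 * ((k + 1) * (k * m)) ≤ (m - 1) * k * ((m - 1) * k) :=
    (Nat.mul_le_mul_left _ hgbig).trans e3
  have hk0 : 0 < k := Nat.card_pos
  have e5 : 4 * (k * k) * (m * m + 2 * m) ≤ m * m * (k * k) :=
    calc 4 * (k * k) * (m * m + 2 * m) ≤ 4 * (k * k) * (n * m) := Nat.mul_le_mul_left _ hnm
      _ = n * 4 * (k * (k * m)) := by ring
      _ ≤ n * 4 * ((k + 1) * (k * m)) := by gcongr; omega
      _ ≤ (m - 1) * k * ((m - 1) * k) := e4
      _ ≤ m * k * (m * k) := by gcongr <;> omega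
      _ = m * m * (k * k) := by ring
  nlinarith [Nat.mul_pos hk0 hk0, Nat.mul_pos (show 0 < m by omega) (show 0 < m by omega)]

end FrobData

theorem SE.not_reg (h : SE G q S) (hedge : ∃ x : G, orderOf x = 2 * q) : ¬ Reg S := fun hreg => by
  obtain ⟨h1, h2, h3, h4, h5⟩ := h.frobenius hreg hedge
  exact FrobData.false_of ⟨h, h1, h2, h3, h4, h5⟩

end Cfsg.Agent.Three68
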