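import Cfsg.Agent.Three68.Simple
import Cfsg.Agent.RecogB.Socle
import Cfsg.Agent.Lib.Fitting.Minimal
import Cfsg.Agent.Lib.Solvable.Basic
import Cfsg.Agent.S0215

/-!
# The radical and the socle
-/

set_option autoImplicit false
set_option linter.style.haveILetI false

namespace Cfsg.Agent.Three68

open Subgroup

universe u

variable {G : Type u} [Group G] [Finite G] {q : ℕ}

/-- The Sylow `2`-subgroups of a nonsolvable group have order at least four. -/
theorem four_le (_h : EdgeB G q) (hns : ¬ Group.IsSolvable G) (S : Sylow 2 G) :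
    4 ≤ Nat.card (S : Subgroup G) := by
  haveI : Fact (Nat.Prime 2) := ⟨Nat.prime_two⟩
  obtain ⟨n, hn⟩ := S.2.exists_card_eq
  by_contra hlt
  have hn1 : n < 2 := by
    by_contra hn1
    have : 2 ^ 2 ≤ 2 ^ n := Nat.pow_le_pow_right (by norm_num) (by omega)
    omega
  obtain ⟨x, -, hxN, s, hs, hns'⟩ := exists_moving S le_top fun hT =>
    hns (Group.isSolvable_of_surjective (f := (⊤ : Subgroup G).subtype)
      fun g => ⟨⟨g, mem_top g⟩, rfl⟩)
  apply hns'
  have hs2 : (⟨s, hs⟩ : (S : Subgroup G)) = 1 ∨ n = 1 := by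
    rcases Nat.eq_zero_or_pos n with rfl | h0
    · rw [pow_zero] at hn
      haveI := (Nat.card_eq_one_iff_unique.1 hn).1
      exact Or.inl (Subsingleton.elim _ _)
    · exact Or.inr (by omega)
  rcases hs2 with h1 | rfl
  · have : s = 1 := congrArg Subtype.val h1
    rw [this]; exact Commute.one_right x
  by_cases hs1 : s = 1
  · rw [hs1]; exact Commute.one_right x
  -- `S = ⟨s⟩` and `x` normalizes it
  haveI : Nat.card (S : Subgroup G) = 2 := by rw [hn, pow_one]
  obtain ⟨a, b, hab, huniv⟩ := Nat.card_eq_two_iff.1 this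
  have hmem : x * s * x⁻¹ ∈ (S : Subgroup G) := (mem_normalizer_iff.1 hxN s).1 hs
  have hall : ∀ v : (S : Subgroup G), v = a ∨ v = b := fun v => by
    have : v ∈ ({a, b} : Set (S : Subgroup G)) := huniv ▸ Set.mem_univ v
    simpa using this
  have h1 : (⟨x * s * x⁻¹, hmem⟩ : (S : Subgroup G)) = ⟨s, hs⟩ := by
    have hne1 : (⟨s, hs⟩ : (S : Subgroup G)) ≠ 1 := fun e => hs1 (congrArg Subtype.val e)
    have hne2 : (⟨x * s * x⁻¹, hmem⟩ : (S : Subgroup G)) ≠ 1 := fun e =>
      hs1 (conj_eq_one_iff.1 (congrArg Subtype.val e))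
    rcases hall 1 with e1 | e1 <;> rcases hall ⟨s, hs⟩ with e2 | e2 <;>
      rcases hall ⟨x * s * x⁻¹, hmem⟩ with e3 | e3 <;> simp_all
  exact mul_inv_eq_iff_eq_mul.1 (congrArg Subtype.val h1)

/-- Subgroups of odd order normalized by `S` are `q`-groups. -/
theorem odd_isPGroup (h : EdgeB G q) (S : Sylow 2 G) (h4 : 4 ≤ Nat.card (S : Subgroup G))
    {W : Subgroup G} (hW : Odd (Nat.card W)) (hSW : (S : Subgroup G) ≤ normalizer (W : Set G)) :
    IsPGroup q W := by
  haveI : Fact (Nat.Prime 2) := ⟨Nat.prime_two⟩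
  by_contra hcon
  obtain ⟨r, hr, hrd, hrq⟩ : ∃ r, r.Prime ∧ r ∣ Nat.card W ∧ r ≠ q := by
    by_contra hno
    push Not at hno
    exact hcon (IsPGroup.of_card (Nat.eq_prime_pow_of_unique_prime_dvd
      Nat.card_pos.ne' fun {d} hd hdW => hno d hd hdW))
  haveI := Fact.mk hr
  haveI := Fact.mk h.prime
  obtain ⟨nS, hnS⟩ := S.2.exists_card_eq
  haveI := S.2.isNilpotent
  obtain ⟨P, hP⟩ := Coprime.exists_invariant_sylow (S : Subgroup G) W hSW
    (hnS ▸ (Nat.coprime_two_left.2 hW).pow_left nS) (Or.inl inferInstance) r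
  set P' := (P : Subgroup W).map W.subtype with hP'
  have hPodd : Odd (Nat.card P') := hW.of_dvd_nat (Subgroup.card_dvd_of_le (map_subtype_le _))
  have hbot : P' ≤ ⊥ := h.gen_le S.2 h4 hPodd hP fun e he he1 y hy => by
    rw [mem_bot, ← orderOf_eq_one_iff]
    have h1 : orderOf y ∣ Nat.card P' := Subgroup.orderOf_dvd_natCard _ hy.1
    obtain ⟨e1, he1'⟩ := (P.2.map W.subtype).exists_card_eq
    rw [he1'] at h1
    have h2 := h.odd_commute (h.sylow_involution he he1)
      (mem_centralizer_singleton_iff.1 hy.2).symm (orderOf_odd_of_mem hPodd hy.1)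
    exact Nat.eq_one_of_dvd_coprimes
      ((Nat.coprime_primes hr h.prime).2 hrq |>.pow_left e1) h1
      (orderOf_dvd_iff_pow_eq_one.2 h2)
  have h2 := P.dvd_card_of_dvd_card hrd
  rw [← card_map_of_injective W.subtype_injective, ← hP', le_bot_iff.1 hbot, card_bot] at h2
  exact hr.ne_one (Nat.dvd_one.1 h2)

/-- There is no nontrivial normal `2`-subgroup. -/
theorem no_two_normal (h : EdgeB G q) (hns : ¬ Group.IsSolvable G) (R : Subgroup G) [R.Normal]
    (hR : IsPGroup 2 R) : R = ⊥ := by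
  haveI : Fact (Nat.Prime 2) := ⟨Nat.prime_two⟩
  by_contra hne
  obtain ⟨⟨r, hr⟩, hr1⟩ := Subgroup.ne_bot_iff_exists_ne_one.1 hne
  have hr1' : r ≠ 1 := fun e => hr1 (Subtype.ext e)
  set D := centralizer (R : Set G) with hD
  haveI : Group.IsSolvable D := by
    refine h.solvable_of_pow D fun x hx => h.commute_involution ?_ (mem_centralizer_iff.1 hx r hr)
    exact orderOf_two (h.two_group_sq hR r hr) hr1'
  obtain ⟨S⟩ : Nonempty (Sylow 2 G) := inferInstance
  have hRS : R ≤ S := by
    have hp := IsPGroup.to_sup_of_normal_left (H := R) (K := (S : Subgroup G)) hR S.2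
    rw [← S.3 hp le_sup_right]; exact le_sup_left
  have hSD : (S : Subgroup G) ≤ D := fun s hs => mem_centralizer_iff.2 fun x hx =>
    (h.sylow_comm (hRS hx) hs).eq
  haveI : Group.IsSolvable (G ⧸ D) := by
    refine PF14.feitThompson.{u} _ ?_
    rw [← Subgroup.index_eq_card]
    exact (Nat.odd_iff.2 (Nat.two_dvd_ne_zero.1 S.not_dvd_index)).of_dvd_nat
      (Subgroup.index_dvd_of_le hSD)
  exact hns (Group.isSolvable_of_ker_le_range D.subtype (QuotientGroup.mk' D)
    (by rw [range_subtype, QuotientGroup.ker_mk']))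

/-- The odd core is trivial. -/
theorem oddCore_bot (h : EdgeB G q) (hns : ¬ Group.IsSolvable G) : Cfsg.oddCore G = ⊥ := by
  classical
  haveI : Fact (Nat.Prime 2) := ⟨Nat.prime_two⟩
  haveI := Fact.mk h.prime
  set K := Cfsg.oddCore G with hK
  haveI : K.Normal := by rw [hK]; infer_instance
  by_contra hne
  have hKodd : Odd (Nat.card K) := InvChar.odd_oddCore
  obtain ⟨S⟩ : Nonempty (Sylow 2 G) := inferInstance
  have h4 := four_le h hns S
  have hKN : ∀ g : G, g ∈ normalizer (K : Set G) := fun g => by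
    rw [normalizer_eq_top]; exact mem_top g
  have hKq := odd_isPGroup h S h4 hKodd fun s _ => hKN s
  -- an element of prime order moving `S`
  obtain ⟨x, -, hxN, s₀, hs₀, hxs⟩ := exists_moving S le_top fun hT =>
    hns (Group.isSolvable_of_surjective (f := (⊤ : Subgroup G).subtype)
      fun g => ⟨⟨g, mem_top g⟩, rfl⟩)
  obtain ⟨y, hyN, p, hp, hyp, s₁, hs₁, hys⟩ : ∃ y ∈ normalizer ((S : Subgroup G) : Set G),
      ∃ p, p.Prime ∧ orderOf y = p ∧ ∃ s ∈ (S : Subgroup G), ¬ Commute y s := by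
    by_cases hr : ∃ r, r.Prime ∧ r ∣ Nat.card (normalizer ((S : Subgroup G) : Set G)) ∧
        r ≠ 2 ∧ r ≠ q
    · obtain ⟨r, hr, hrd, hr2, hrq⟩ := hr
      haveI := Fact.mk hr
      obtain ⟨y, hy⟩ := exists_prime_orderOf_dvd_card' r hrd
      rw [← Subgroup.orderOf_coe] at hy
      refine ⟨y, y.2, r, hr, hy, s₀, hs₀, fun hc => ?_⟩
      have hs₀1 : s₀ ≠ 1 := fun e => hxs (e ▸ Commute.one_right x)
      have := h.eq_one_of_commute (Or.inl (h.sylow_involution hs₀ hs₀1)) hc.symm (by
        rw [hy, Nat.coprime_mul_iff_right]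
        exact ⟨(Nat.coprime_primes hr Nat.prime_two).2 hr2,
          (Nat.coprime_primes hr h.prime).2 hrq⟩)
      rw [this, orderOf_one] at hy
      exact hr.ne_one hy.symm
    push Not at hr
    have hx2q : x ^ (2 * q) = 1 := by
      have hdvd : orderOf x ∣ Nat.card (normalizer ((S : Subgroup G) : Set G)) :=
        Subgroup.orderOf_dvd_natCard _ hxN
      by_cases h2 : 2 ∣ orderOf x
      · rcases h.even_order x h2 with h1 | h1
        · rw [pow_mul, ← h1, pow_orderOf_eq_one, one_pow]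
        · rw [← h1, pow_orderOf_eq_one]
      by_cases hqd : q ∣ orderOf x
      · rcases h.q_order x hqd with h1 | h1
        · rw [mul_comm, pow_mul]; conv_lhs => rw [← h1, pow_orderOf_eq_one, one_pow]
        · rw [← h1, pow_orderOf_eq_one]
      have : orderOf x = 1 := by
        by_contra hne'
        obtain ⟨r, hr', hrd⟩ := Nat.exists_prime_and_dvd hne'
        exact hqd ((hr r hr' (hrd.trans hdvd) (fun e => h2 (e ▸ hrd))) ▸ hrd)
      rw [orderOf_eq_one_iff.1 this, one_pow]
    obtain ⟨h1, h2, h3⟩ := pow_two_q_split h.prime h.odd hx2q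
    have hxqS : x ^ q ∈ (S : Subgroup G) := mem_sylow_of_sq (pow_mem hxN q) h1
    have hns' : ¬ Commute (x ^ (q + 1)) s₀ := fun hc => hxs (by
      rw [← h3]; exact (h.sylow_comm hxqS hs₀).mul_left hc)
    exact ⟨_, pow_mem hxN _, q, h.prime,
      orderOf_eq_prime h2 (fun e => hns' (e ▸ Commute.one_left s₀)), s₀, hs₀, hns'⟩
  -- the part of `S` without fixed points
  haveI := Fact.mk hp
  letI : CommGroup (S : Subgroup G) :=
    { (inferInstance : Group (S : Subgroup G)) with
      mul_comm := fun a b => Subtype.ext (h.sylow_comm a.2 b.2).eq }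
  set φ := (S : Subgroup G).normalizerMonoidHom with hφ
  set yy : ↥(normalizer ((S : Subgroup G) : Set G)) := ⟨y, hyN⟩
  let U0 : Subgroup (S : Subgroup G) :=
    { carrier := {v | ∏ i ∈ Finset.range p, φ (yy ^ i) v = 1}
      one_mem' := by simp
      mul_mem' := fun {a b} ha hb => by
        show ∏ i ∈ Finset.range p, φ (yy ^ i) (a * b) = 1
        simp only [map_mul, Finset.prod_mul_distrib]
        rw [show ∏ i ∈ Finset.range p, φ (yy ^ i) a = 1 from ha,
          show ∏ i ∈ Finset.range p, φ (yy ^ i) b = 1 from hb, one_mul]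
      inv_mem' := fun {a} ha => by
        show ∏ i ∈ Finset.range p, φ (yy ^ i) a⁻¹ = 1
        simp only [map_inv, Finset.prod_inv_distrib]
        rw [show ∏ i ∈ Finset.range p, φ (yy ^ i) a = 1 from ha, inv_one] }
  have hyyp : yy ^ p = 1 := Subtype.ext (by
    show y ^ p = 1
    rw [← hyp, pow_orderOf_eq_one])
  have hmulφ : ∀ a b (v : (S : Subgroup G)), φ (a * b) v = φ a (φ b v) := fun a b v => by
    rw [map_mul]; rfl
  have hnormfix : ∀ v, φ yy (∏ i ∈ Finset.range p, φ (yy ^ i) v) =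
      ∏ i ∈ Finset.range p, φ (yy ^ i) v := fun v => by
    rw [map_prod]
    simp only [← hmulφ, ← pow_succ']
    have h1 := (Finset.prod_range_succ' (fun i => φ (yy ^ i) v) p).symm.trans
      (Finset.prod_range_succ (fun i => φ (yy ^ i) v) p)
    rw [pow_zero, hyyp] at h1
    exact mul_right_cancel h1
  set U := U0.map (S : Subgroup G).subtype with hU
  have hUS : U ≤ S := map_subtype_le _
  have hyU : y ∈ normalizer (U : Set G) := by
    refine mem_normalizer_iff_map_conj_eq.2 (eq_of_le_of_card_ge ?_ ?_)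
    · rintro _ ⟨_, ⟨v, hv, rfl⟩, rfl⟩
      refine ⟨φ yy v, ?_, rfl⟩
      show ∏ i ∈ Finset.range p, φ (yy ^ i) (φ yy v) = 1
      simp only [← hmulφ, ((Commute.refl yy).pow_left _).eq]
      simp only [hmulφ, ← map_prod]
      rw [show ∏ i ∈ Finset.range p, φ (yy ^ i) v = 1 from hv, map_one]
    · exact (card_map_of_injective (f := (MulAut.conj y).toMonoidHom) (MulAut.conj y).injective).ge
  have hUfix : ∀ u ∈ U, Commute y u → u = 1 := by
    rintro _ ⟨v, hv, rfl⟩ hc
    have hfix : φ yy v = v := Subtype.ext (mul_inv_eq_iff_eq_mul.2 hc.eq)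
    have hall : ∀ i : ℕ, φ (yy ^ i) v = v := by
      intro i
      induction i with
      | zero => simp
      | succ i ih => rw [pow_succ, hmulφ, hfix, ih]
    have h1 : v ^ p = 1 := by
      refine Eq.trans ?_ (show ∏ i ∈ Finset.range p, φ (yy ^ i) v = 1 from hv)
      rw [Finset.prod_congr rfl fun i _ => hall i, Finset.prod_const, Finset.card_range]
    have h2 : v ^ 2 = 1 := Subtype.ext (by
      rw [SubgroupClass.coe_pow]; exact h.two_group_sq S.2 v v.2)
    have hp2 : p ≠ 2 := by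
      rintro rfl
      have : y ∈ (S : Subgroup G) := mem_sylow_of_sq hyN (by rw [← hyp, pow_orderOf_eq_one])
      exact hys (h.sylow_comm this hs₁)
    rw [show v = 1 from orderOf_eq_one_iff.1 (Nat.eq_one_of_dvd_coprimes
      ((Nat.coprime_primes hp Nat.prime_two).2 hp2) (orderOf_dvd_iff_pow_eq_one.2 h1)
      (orderOf_dvd_iff_pow_eq_one.2 h2))]
    exact map_one _
  obtain ⟨u, huU, hu1⟩ : ∃ u ∈ U, u ≠ 1 := by
    refine ⟨(S : Subgroup G).subtype
      ((⟨s₁, hs₁⟩ : (S : Subgroup G))⁻¹ * φ yy ⟨s₁, hs₁⟩),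
      mem_map_of_mem _ ?_, fun e => hys ?_⟩
    · show ∏ i ∈ Finset.range p, φ (yy ^ i) (_⁻¹ * φ yy _) = 1
      rw [Finset.prod_congr rfl fun i _ => show φ (yy ^ i) ((⟨s₁, hs₁⟩ : (S : Subgroup G))⁻¹ *
          φ yy ⟨s₁, hs₁⟩) = (φ (yy ^ i) ⟨s₁, hs₁⟩)⁻¹ * φ yy (φ (yy ^ i) ⟨s₁, hs₁⟩) by
          rw [map_mul, map_inv, ← hmulφ, ← hmulφ, ((Commute.refl yy).pow_left i).eq],
        Finset.prod_mul_distrib, Finset.prod_inv_distrib, ← map_prod, hnormfix, inv_mul_cancel]
    · have e' : s₁⁻¹ * (y * s₁ * y⁻¹) = 1 := e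
      exact mul_inv_eq_iff_eq_mul.1 (inv_mul_eq_one.1 e').symm
  have hUK := h.centralizes (S.2.to_le hUS) hp hyp hyU hUfix hKq (fun g _ => hKN g) (hKN y)
  -- a solvable normal subgroup of even order
  set D := centralizer (K : Set G) with hD
  haveI : D.Normal := by rw [hD]; infer_instance
  obtain ⟨⟨z, hz⟩, hz1⟩ := Subgroup.ne_bot_iff_exists_ne_one.1 hne
  haveI : Group.IsSolvable D := by
    obtain ⟨k, hk⟩ := hKq ⟨z, hz⟩
    obtain ⟨i, -, hi⟩ := (Nat.dvd_prime_pow h.prime).1
      (orderOf_dvd_of_pow_eq_one (congrArg Subtype.val hk : z ^ q ^ k = 1))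
    exact h.solvable_of_pow D fun x hx => h.commute_q
      (orderOf_eq_prime (h.q_pow hi) fun e => hz1 (Subtype.ext e)) (mem_centralizer_iff.1 hx z hz)
  set π := QuotientGroup.mk' K
  set D' := D.map π with hD'
  haveI : D'.Normal := Subgroup.Normal.map inferInstance π (QuotientGroup.mk'_surjective K)
  have hu2 : orderOf u = 2 := h.sylow_involution (hUS huU) hu1
  have hD'ne : D' ≠ ⊥ := fun e => by
    have h1 : π u ∈ D' := ⟨u, hUK huU, rfl⟩
    rw [e, mem_bot] at h1
    have := orderOf_odd_of_mem hKodd ((QuotientGroup.eq_one_iff u).1 h1)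
    rw [hu2] at this
    exact absurd this (by decide)
  haveI : Group.IsSolvable D' := by
    refine Group.isSolvable_of_surjective (f := (π.comp D.subtype).codRestrict D' fun x => ⟨x, x.2, rfl⟩) ?_
    rintro ⟨_, x, hx, rfl⟩
    exact ⟨⟨x, hx⟩, rfl⟩
  obtain ⟨A, hAn, hAne, hAD, hAmin⟩ := Solvable.exists_minimal_normal_le D' hD'ne
  haveI := hAn
  haveI : Group.IsSolvable A := Coprime.solvable_of_le hAD inferInstance
  obtain ⟨r, hr, hAr, -⟩ := Solvable.exists_prime_of_minimal_normal A hAne hAmin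
  haveI := Fact.mk hr
  have hnsK : ¬ Group.IsSolvable (G ⧸ K) := fun hs => by
    haveI : Group.IsSolvable K := PF14.feitThompson.{u} _ hKodd
    exact hns (Group.isSolvable_of_ker_le_range K.subtype π
      (by rw [range_subtype, QuotientGroup.ker_mk']))
  by_cases hr2 : r = 2
  · subst hr2
    exact hAne (no_two_normal (h.quotient K) hnsK A hAr)
  · -- an odd minimal normal subgroup of `G / K` pulls back into `K`
    apply hAne
    have hcomap : Odd (Nat.card (A.comap π)) := by
      obtain ⟨a, ha⟩ := hAr.exists_card_eq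
      have hcard : Nat.card (A.comap π) = Nat.card K * Nat.card A := by
        have hidx : (A.comap π).index = A.index :=
          index_comap_of_surjective A (QuotientGroup.mk'_surjective K)
        have h2 := A.card_mul_index
        have h3 := K.card_mul_index
        have h4' := (A.comap π).card_mul_index
        rw [← K.index_eq_card, ← hidx] at h2
        refine Nat.eq_of_mul_eq_mul_right
          (Nat.pos_of_ne_zero FiniteIndex.index_ne_zero : 0 < (A.comap π).index) ?_
        rw [h4', mul_assoc, h2, h3]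
      rw [hcard, ha]
      exact hKodd.mul (hr.odd_of_ne_two hr2).pow
    have hle : A.comap π ≤ K := InvChar.le_oddCore inferInstance hcomap
    rw [eq_bot_iff]
    intro a ha
    obtain ⟨g, rfl⟩ := QuotientGroup.mk'_surjective K a
    exact (QuotientGroup.eq_one_iff g).2 (hle ha)

/-- No nontrivial solvable normal subgroup. -/
theorem no_solvable_normal (h : EdgeB G q) (hns : ¬ Group.IsSolvable G) (D : Subgroup G) [D.Normal]
    [Group.IsSolvable D] : D = ⊥ := by
  by_contra hne
  obtain ⟨A, hAn, hAne, hAD, hAmin⟩ := Solvable.exists_minimal_normal_le D hne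
  haveI := hAn
  haveI : Group.IsSolvable A := Coprime.solvable_of_le hAD inferInstance
  obtain ⟨r, hr, hAr, -⟩ := Solvable.exists_prime_of_minimal_normal A hAne hAmin
  haveI := Fact.mk hr
  by_cases hr2 : r = 2
  · subst hr2; exact hAne (no_two_normal h hns A hAr)
  · obtain ⟨a, ha⟩ := hAr.exists_card_eq
    have := InvChar.le_oddCore hAn (ha ▸ (hr.odd_of_ne_two hr2).pow)
    rw [oddCore_bot h hns, le_bot_iff] at this
    exact hAne this

/-- There is a unique minimal normal subgroup, and it is simple. -/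
theorem exists_simple (h : EdgeB G q) (hns : ¬ Group.IsSolvable G) :
    ∃ N : Subgroup G, N.Normal ∧ IsSimpleGroup N ∧ ¬ IsMulCommutative N ∧
      centralizer (N : Set G) = ⊥ := by
  haveI : Fact (Nat.Prime 2) := ⟨Nat.prime_two⟩
  haveI : Nontrivial G := by
    rcases subsingleton_or_nontrivial G with hs | hs
    · exact absurd (Group.isSolvable_of_comm fun a b => Subsingleton.elim _ _) hns
    · exact hs
  obtain ⟨N, hN⟩ := Fitting.exists_isMinNormal (G := G)
  haveI := hN.1
  have hnab : ¬ IsMulCommutative N := fun hc => by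
    haveI : Group.IsSolvable N := Group.isSolvable_of_comm fun a b => hc.is_comm.comm a b
    exact hN.2.1 (no_solvable_normal h hns N)
  obtain ⟨T, hT⟩ := RecogB.exists_isFactor (N := N) hN.2.1 hN.2.2 hnab
  haveI := hT.simple
  have hTns : ¬ Group.IsSolvable T := fun hs =>
    hT.nonab ⟨⟨fun a b => IsSimpleGroup.comm_iff_isSolvable.2 hs a b⟩⟩
  obtain ⟨u, hu⟩ := exists_prime_orderOf_dvd_card' (G := T) 2 (by
    by_contra hc
    exact hTns (PF14.feitThompson.{u} T (Nat.odd_iff.2 (Nat.two_dvd_ne_zero.1 hc))))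
  have hu' : orderOf (u : G) = 2 := (Subgroup.orderOf_coe u).trans hu
  have hTN : T = N := by
    conv_rhs => rw [← hT.generate hN.2.2]
    refine le_antisymm ?_ (iSup_le fun g => ?_)
    · refine le_trans (fun x hx => ?_) (le_iSup (fun g => RecogB.cj g T) 1)
      rw [RecogB.mem_cj]; simpa using hx
    · rcases hT.eq_or_commute (hT.cj g) with h1 | h1
      · exact h1.le
      · exfalso
        have hns' : ¬ Group.IsSolvable (RecogB.cj g T) := fun hs => (hT.cj g).nonab (by
          haveI := (hT.cj g).simple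
          exact ⟨⟨fun a b => IsSimpleGroup.comm_iff_isSolvable.2 hs a b⟩⟩)
        exact hns' (h.solvable_of_pow _ fun x hx => h.commute_involution hu' (h1 u u.2 x hx))
  subst hTN
  refine ⟨T, inferInstance, hT.simple, hT.nonab, ?_⟩
  set D := centralizer (T : Set G) with hD
  haveI : D.Normal := by rw [hD]; infer_instance
  haveI : Group.IsSolvable D := h.solvable_of_pow D fun x hx =>
    h.commute_involution hu' (mem_centralizer_iff.1 hx u u.2)
  exact no_solvable_normal h hns D

/-- An involution outside a simple normal subgroup centralizes no element-wise fixed automizer. -/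
theorem false_of_isolated (h : EdgeB G q) (N : Subgroup G) [N.Normal] [IsSimpleGroup N]
    (hev : 2 ∣ Nat.card N) (hC : centralizer (N : Set G) = ⊥) (T : Sylow 2 N) {s₀ : G} (hs : orderOf s₀ = 2)
    (hsN : s₀ ∉ N) (hsT : ∀ t ∈ (T : Subgroup N), Commute s₀ (t : G))
    (hfix : ∀ n : N, n ∈ normalizer ((T : Subgroup N) : Set N) → Commute (n : G) s₀) : False := by
  classical
  haveI : Fact (Nat.Prime 2) := ⟨Nat.prime_two⟩
  set T' := (T : Subgroup N).map N.subtype with hT'
  set X := N ⊔ zpowers s₀ with hX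
  have hss : s₀ * s₀ = 1 := mul_self_one hs
  have hsp : IsPGroup 2 (zpowers s₀) :=
    IsPGroup.of_card (n := 1) (by rw [Nat.card_zpowers, hs, pow_one])
  have hsX : s₀ ∈ X := mem_sup_right (mem_zpowers s₀)
  have hcases : ∀ x ∈ X, x ∈ N ∨ x * s₀ ∈ N := by
    intro x hx
    obtain ⟨n, hn, z, hz, rfl⟩ := mem_sup_of_normal_left.1 hx
    obtain ⟨i, rfl⟩ := mem_zpowers_iff.1 hz
    rcases Int.even_or_odd i with ⟨j, rfl⟩ | ⟨j, rfl⟩
    · left
      rwa [← two_mul, zpow_mul, zpow_two, hss, one_zpow, mul_one]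
    · right
      rwa [zpow_add, zpow_mul, zpow_two, hss, one_zpow, one_mul, zpow_one, mul_assoc, hss, mul_one]
  have hT'N : T' ≤ normalizer ((zpowers s₀ : Subgroup G) : Set G) := fun t ht => by
    obtain ⟨t, ht', rfl⟩ := ht
    refine Coprime.le_normalizer_of_conj_mem (A := zpowers (t : G)) ?_ (mem_zpowers _)
    intro a ha b hb
    obtain ⟨i, rfl⟩ := mem_zpowers_iff.1 ha
    obtain ⟨j, rfl⟩ := mem_zpowers_iff.1 hb
    rw [((hsT t ht').symm.zpow_zpow i j).eq, mul_inv_cancel_right]
    exact zpow_mem (mem_zpowers _) j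
  have hp : IsPGroup 2 (T' ⊔ zpowers s₀ : Subgroup G) :=
    (T.2.map N.subtype).to_sup_of_normal_right' hsp hT'N
  have hleX : T' ⊔ zpowers s₀ ≤ X := sup_le ((map_subtype_le _).trans le_sup_left) le_sup_right
  have hp' : IsPGroup 2 ((T' ⊔ zpowers s₀).subgroupOf X) :=
    hp.of_equiv (subgroupOfEquivOfLe hleX).symm
  obtain ⟨P, hP⟩ := hp'.exists_le_sylow
  have hsP : (⟨s₀, hsX⟩ : X) ∈ (P : Subgroup X) :=
    hP (mem_subgroupOf.2 (mem_sup_right (mem_zpowers s₀)))
  have hPN : ∀ x : X, x ∈ (P : Subgroup X) → (x : G) ∈ N → (x : G) ∈ T' := by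
    intro x hx hxN
    have hp1 : IsPGroup 2 (((P : Subgroup X).map X.subtype ⊓ N).subgroupOf N) :=
      ((P.2.map X.subtype).to_le inf_le_left).of_equiv (subgroupOfEquivOfLe inf_le_right).symm
    have h2 := T.3 hp1 fun t ht => mem_subgroupOf.2
      ⟨⟨⟨(t : G), mem_sup_left t.2⟩, hP (mem_subgroupOf.2 (mem_sup_left ⟨t, ht, rfl⟩)), rfl⟩, t.2⟩
    exact ⟨⟨x, hxN⟩, h2 ▸ mem_subgroupOf.2 ⟨⟨x, hx, rfl⟩, hxN⟩, rfl⟩
  haveI : IsMulCommutative (P : Subgroup X) := ⟨⟨fun a b => Subtype.ext
    (commute_of_sq ((h.subgroup X).two_group_sq P.2) a.2 b.2).eq⟩⟩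
  have hso : orderOf (⟨s₀, hsX⟩ : X) = 2 := (Subgroup.orderOf_mk s₀ hsX).trans hs
  have hiso : ∀ g : X, g * ⟨s₀, hsX⟩ * g⁻¹ ∈ (P : Subgroup X) →
      g * ⟨s₀, hsX⟩ * g⁻¹ = ⟨s₀, hsX⟩ := by
    intro g hg
    obtain ⟨m, hm, hme⟩ := P.conj_eq_normalizer_conj_of_mem ⟨s₀, hsX⟩ g⁻¹ hsP (by rwa [inv_inv])
    rw [inv_inv] at hme
    rw [hme]
    have hm' : Commute (m : G) s₀ := by
      rcases hcases m m.2 with hmN | hmN
      · refine hfix ⟨m, hmN⟩ (mem_normalizer_iff_map_conj_eq.2 (eq_of_le_of_card_ge ?_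
          (le_of_eq (card_map_of_injective (MulAut.conj (⟨(m : G), hmN⟩ : N)).injective).symm)))
        rintro _ ⟨t, ht, rfl⟩
        have h1 : m * ⟨(t : G), mem_sup_left t.2⟩ * m⁻¹ ∈ (P : Subgroup X) :=
          (mem_normalizer_iff.1 hm _).1 (hP (mem_subgroupOf.2 (mem_sup_left ⟨t, ht, rfl⟩)))
        obtain ⟨t', ht', hte⟩ := hPN _ h1 (by
          show (m : G) * t * (m : G)⁻¹ ∈ N
          exact mul_mem (mul_mem hmN t.2) (inv_mem hmN))
        have : (⟨(m : G), hmN⟩ : N) * t * (⟨(m : G), hmN⟩ : N)⁻¹ = t' := Subtype.ext hte.symm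
        show (_ : N) * t * _⁻¹ ∈ (T : Subgroup N)
        rw [this]; exact ht'
      · set m' : X := m * ⟨s₀, hsX⟩ with hm'
        have hm'N : (m' : G) ∈ N := hmN
        have hm'm : m' ∈ normalizer ((P : Subgroup X) : Set X) :=
          mul_mem hm (Subgroup.le_normalizer hsP)
        have h0 : Commute (m' : G) s₀ := by
          refine hfix ⟨m', hm'N⟩ (mem_normalizer_iff_map_conj_eq.2 (eq_of_le_of_card_ge ?_
            (le_of_eq (card_map_of_injective (MulAut.conj (⟨(m' : G), hm'N⟩ : N)).injective).symm)))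
          rintro _ ⟨t, ht, rfl⟩
          have h1 : m' * ⟨(t : G), mem_sup_left t.2⟩ * m'⁻¹ ∈ (P : Subgroup X) :=
            (mem_normalizer_iff.1 hm'm _).1 (hP (mem_subgroupOf.2 (mem_sup_left ⟨t, ht, rfl⟩)))
          obtain ⟨t', ht', hte⟩ := hPN _ h1 (by
            show (m' : G) * t * (m' : G)⁻¹ ∈ N
            exact mul_mem (mul_mem hm'N t.2) (inv_mem hm'N))
          have : (⟨(m' : G), hm'N⟩ : N) * t * (⟨(m' : G), hm'N⟩ : N)⁻¹ = t' := Subtype.ext hte.symm
          show (_ : N) * t * _⁻¹ ∈ (T : Subgroup N)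
          rw [this]; exact ht'
        have : (m : G) = (m' : G) * s₀ := by
          rw [hm', Subgroup.coe_mul, mul_assoc, hss, mul_one]
        rw [this]
        exact h0.mul_left (Commute.refl s₀)
    refine Subtype.ext ?_
    show (m : G)⁻¹ * s₀ * (m : G) = s₀
    rw [mul_assoc, ← hm'.eq, inv_mul_cancel_left]
  obtain ⟨M, hM, hModd, hMc⟩ := S0215.result P ⟨s₀, hsX⟩ hso hsP hiso
  haveI := hM
  -- `M` centralizes `N`
  have hMN : ∀ x : X, x ∈ M → (x : G) ∈ N := by
    intro x hx
    rcases hcases x x.2 with h1 | h1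
    · exact h1
    exfalso
    have hx1 : ∀ k : ℕ, Odd k → (x : G) ^ k ∉ N := by
      intro k hk hkN
      obtain ⟨j, rfl⟩ := hk
      have h2 : (x : G) ^ (2 * j) ∈ N := by
        rw [pow_mul, sq]
        refine pow_mem ?_ j
        have h3 : (x : G) * x = ((x : G) * s₀) * (s₀ * ((x : G) * s₀) * s₀⁻¹) := by
          rw [involution_inv hs]
          calc (x : G) * x = x * (s₀ * s₀) * x * (s₀ * s₀) := by rw [hss, mul_one, mul_one]
            _ = _ := by group
        rw [h3]
        exact mul_mem h1 ((inferInstance : N.Normal).conj_mem _ h1 s₀)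
      rw [pow_succ] at hkN
      have hxN : (x : G) ∈ N := by simpa using mul_mem (inv_mem h2) hkN
      exact hsN (by simpa using mul_mem (inv_mem hxN) h1)
    exact hx1 (orderOf (x : G)) (Subgroup.orderOf_coe x ▸ orderOf_odd_of_mem hModd hx)
      (by rw [pow_orderOf_eq_one]; exact one_mem N)
  have hMbot : ∀ x : X, x ∈ M → x = 1 := by
    intro x hx
    -- `M` is an odd normal subgroup of the simple group `N`
    let A : Subgroup N := (M.map X.subtype).subgroupOf N
    haveI : A.Normal := ⟨fun a ha g => by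
      obtain ⟨a', ha', hae⟩ := mem_subgroupOf.1 ha
      refine mem_subgroupOf.2 ⟨⟨(g : G), mem_sup_left g.2⟩ * a' * ⟨(g : G), mem_sup_left g.2⟩⁻¹,
        hM.conj_mem a' ha' _, ?_⟩
      show (g : G) * a' * (g : G)⁻¹ = g * a * (g : G)⁻¹
      rw [show (a' : G) = a from hae]⟩
    have hAodd : Odd (Nat.card A) := by
      refine hModd.of_dvd_nat ?_
      rw [← card_map_of_injective (K := M) (f := X.subtype) X.subtype_injective,
        ← card_map_of_injective (K := A) (f := N.subtype) N.subtype_injective, subgroupOf_map_subtype]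
      exact Subgroup.card_dvd_of_le inf_le_left
    have hAbot : A = ⊥ := (Subgroup.Normal.eq_bot_or_eq_top (inferInstance : A.Normal)).resolve_right
      fun e => Nat.not_even_iff_odd.2 hAodd (by
        rw [e, Subgroup.card_top]; exact even_iff_two_dvd.2 hev)
    have : (⟨(x : G), hMN x hx⟩ : N) ∈ A := mem_subgroupOf.2 ⟨x, hx, rfl⟩
    rw [hAbot, mem_bot] at this
    have h1 : (x : G) = 1 := congrArg Subtype.val this
    exact Subtype.ext h1
  apply hsN
  have hsC : s₀ ∈ centralizer (N : Set G) := mem_centralizer_iff.2 fun n hn => by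
    have := hMbot _ (hMc ⟨n, mem_sup_left hn⟩)
    have e : s₀ * n * s₀⁻¹ * n⁻¹ = 1 := congrArg Subtype.val this
    rw [mul_inv_eq_one, mul_inv_eq_iff_eq_mul] at e
    exact e.symm
  rw [hC, mem_bot] at hsC
  rw [hsC]; exact one_mem N

end Cfsg.Agent.Three68
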