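import Cfsg.Agent.Three68.Seven
import Mathlib.GroupTheory.QuotientGroup.Basic

/-!
# The non-regular strongly embedded case
-/

set_option autoImplicit false
set_option linter.style.haveILetI false

namespace Cfsg.Agent.Three68

open Subgroup

universe u

variable {G : Type u} [Group G] [Finite G] {q : ℕ} {S : Sylow 2 G}

local notation "M" => normalizer ((S : Subgroup G) : Set G)

local notation "C" => centralizer ((S : Subgroup G) : Set G)

theorem pow_two_q_split (hq : q.Prime) (hodd : Odd q) {x : G} (hx : x ^ (2 * q) = 1) :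
    (x ^ q) ^ 2 = 1 ∧ (x ^ (q + 1)) ^ q = 1 ∧ x ^ q * x ^ (q + 1) = x := by
  refine ⟨by rw [← pow_mul, mul_comm]; exact hx, ?_, ?_⟩
  · obtain ⟨c, hc⟩ := hodd
    rw [← pow_mul, show (q + 1) * q = 2 * q * (c + 1) by rw [hc]; ring, pow_mul, hx, one_pow]
  · have := hq.pos
    rw [← pow_add, show q + (q + 1) = 2 * q + 1 by ring, pow_succ, hx, one_mul]

namespace SE

variable (h : SE G q S)

include h in
theorem mem_core_iff {x : G} : x ∈ core C ↔ x ∈ C ∧ Odd (orderOf x) := by
  haveI : Group.IsSolvable C := by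
    obtain ⟨t, ht, ht1⟩ := h.exists_ne_one
    exact h.edge.solvable_of_pow _ fun x hx => h.edge.commute_involution (h.involution ht ht1)
      (mem_centralizer_iff.1 hx t ht)
  refine ⟨fun hx => ⟨core_le _ hx, orderOf_odd_of_mem (core_odd _) hx⟩, fun hx => ?_⟩
  refine h.edge.le_core S (fun s hs => mem_centralizer_iff.2 fun r hr =>
    (h.edge.sylow_comm hr hs).eq) (zpowers_le.2 hx.1) (by rw [Nat.card_zpowers]; exact hx.2) ?_
    (mem_zpowers x)
  intro s hs
  refine Coprime.le_normalizer_of_conj_mem (A := (S : Subgroup G)) ?_ hs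
  intro a ha b hb
  obtain ⟨i, rfl⟩ := mem_zpowers_iff.1 hb
  rw [((show Commute a x from mem_centralizer_iff.1 hx.1 a ha).zpow_right i).eq,
    mul_inv_cancel_right]
  exact zpow_mem (mem_zpowers x) i

include h in
/-- The non-regular case: either the element of order `q` fixes one coset of `N(S)` only,
or the normalizer has the automizer of a field of order eight with its automorphism. -/
theorem nonreg (hreg : ¬ Reg S) :
    (∃ R : Subgroup ↥M, R.Normal ∧ R.index = q ∧ ∃ y : ↥M, orderOf y = q ∧ y ∉ R ∧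
      ∀ g : G, g⁻¹ * (y : G) * g ∈ M → g ∈ M) ∨
    (q = 3 ∧ Nat.card (S : Subgroup G) = 8 ∧ (C).relIndex M ≠ 7) := by
  classical
  haveI : Fact (Nat.Prime 2) := ⟨Nat.prime_two⟩
  haveI := Fact.mk h.edge.prime
  have hq := h.edge.prime
  have hqodd := h.edge.odd
  set φ₀ := (S : Subgroup G).normalizerMonoidHom with hφ₀
  set π := QuotientGroup.mk' φ₀.ker with hπ
  set φ : ↥M ⧸ φ₀.ker →* MulAut (S : Subgroup G) := QuotientGroup.kerLift φ₀ with hφ
  have hker : ∀ x : ↥M, x ∈ φ₀.ker ↔ (x : G) ∈ C := fun x => by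
    rw [hφ₀, normalizerMonoidHom_ker, mem_subgroupOf]
  have hedge : EdgeB (↥M ⧸ φ₀.ker) q := (h.edge.subgroup M).quotient φ₀.ker
  have hodd : Odd (Nat.card (↥M ⧸ φ₀.ker)) := by
    rw [← Subgroup.index_eq_card]
    have hle : (S : Subgroup G).subgroupOf M ≤ φ₀.ker := fun x hx => (hker x).2
      (mem_centralizer_iff.2 fun r hr => (h.edge.sylow_comm hr hx).eq)
    have h2 : φ₀.ker.index ∣ (S : Subgroup G).index :=
      (Subgroup.index_dvd_of_le hle).trans
        (Dvd.intro _ (Subgroup.relIndex_mul_index Subgroup.le_normalizer))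
    refine Odd.of_dvd_nat ?_ h2
    exact Nat.odd_iff.2 (Nat.two_dvd_ne_zero.1 S.not_dvd_index)
  haveI : Group.IsSolvable (↥M ⧸ φ₀.ker) := PF14.feitThompson.{u} _ hodd
  letI : CommGroup (S : Subgroup G) :=
    { (inferInstance : Group (S : Subgroup G)) with
      mul_comm := fun a b => Subtype.ext (h.edge.sylow_comm a.2 b.2).eq }
  have hV : ∀ v : (S : Subgroup G), v ^ 2 = 1 := fun v =>
    Subtype.ext (by rw [SubgroupClass.coe_pow]; exact h.edge.two_group_sq S.2 v v.2)
  have hφπ : ∀ (x : ↥M) (v : (S : Subgroup G)),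
      ((φ (π x) v : (S : Subgroup G)) : G) = (x : G) * v * (x : G)⁻¹ := fun x v => rfl
  have hfixc : ∀ (x : ↥M) (v : (S : Subgroup G)), φ (π x) v = v → Commute (x : G) v :=
    fun x v e => mul_inv_eq_iff_eq_mul.1 ((hφπ x v).symm.trans (congrArg Subtype.val e))
  have hstab : ∀ a v, v ≠ 1 → φ a v = v → a ^ q = 1 := by
    intro a v hv hav
    obtain ⟨x, rfl⟩ := QuotientGroup.mk'_surjective φ₀.ker a
    have h1 : (x : G) ^ (2 * q) = 1 := h.edge.commute_involution
      (h.involution v.2 fun e => hv (Subtype.ext e)) (hfixc x v hav).symm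
    have h2 : π x ^ (2 * q) = 1 := by
      rw [← map_pow, show x ^ (2 * q) = 1 from Subtype.ext (by simpa using h1), map_one]
    refine orderOf_dvd_iff_pow_eq_one.1 ((Nat.Coprime.dvd_mul_left ?_).1
      (orderOf_dvd_iff_pow_eq_one.2 h2))
    exact Nat.coprime_two_right.2 (hodd.of_dvd_nat (orderOf_dvd_natCard _))
  have htrans : ∀ v w : (S : Subgroup G), v ≠ 1 → w ≠ 1 → ∃ a, φ a v = w := by
    intro v w hv hw
    obtain ⟨g, hg, e⟩ := h.transitive v.2 (fun e => hv (Subtype.ext e)) w.2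
      (fun e => hw (Subtype.ext e))
    exact ⟨π ⟨g, hg⟩, Subtype.ext ((hφπ ⟨g, hg⟩ v).trans e)⟩
  have hns : ∃ a, a ≠ 1 ∧ ∃ v, v ≠ 1 ∧ φ a v = v := by
    simp only [Reg, not_forall] at hreg
    obtain ⟨x, hxM, s, hs, hs1, hc, hxC⟩ := hreg
    refine ⟨π ⟨x, hxM⟩, fun e => hxC ((hker ⟨x, hxM⟩).1 ((QuotientGroup.eq_one_iff _).1 e)),
      ⟨s, hs⟩, fun e => hs1 (congrArg Subtype.val e), Subtype.ext ?_⟩
    rw [hφπ]
    show x * s * x⁻¹ = s
    rw [hc.eq, mul_inv_cancel_right]
  obtain ⟨K, y, t, hKn, hKidx, hyo, hyK, ht1, hyt, hyfix, hKfix, hKcard, hKy, hdec, hKiff⟩ :=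
    act_structure φ (QuotientGroup.kerLift_injective φ₀) hedge hodd hV h.four hstab htrans hns
  haveI := hKn
  have hm : Nat.card K = mm S := by have := h.mm_succ; omega
  have hyq : y ^ q = 1 := by rw [← hyo]; exact pow_orderOf_eq_one y
  have ht1' : (t : G) ≠ 1 := fun e => ht1 (Subtype.ext e)
  have hto : orderOf (t : G) = 2 := h.involution t.2 ht1'
  -- a lift of `y` of order `q`
  obtain ⟨yy, hyy, hyyq, hyyt⟩ : ∃ yy : ↥M, π yy = y ∧ yy ^ q = 1 ∧ Commute (yy : G) t := by
    obtain ⟨x, hx⟩ := QuotientGroup.mk'_surjective φ₀.ker y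
    have hc : Commute (x : G) t := hfixc x t (by rw [hπ, hx]; exact hyt)
    obtain ⟨-, h2, -⟩ := pow_two_q_split hq hqodd (h.edge.commute_involution hto hc.symm)
    refine ⟨x ^ (q + 1), ?_, Subtype.ext (by simpa using h2), by simpa using hc.pow_left (q + 1)⟩
    rw [map_pow, hπ, hx, pow_succ, hyq, one_mul]
  have hyyo : orderOf yy = q := by
    refine orderOf_eq_prime hyyq fun e => hq.ne_one ?_
    rw [← hyo, ← hyy, e, map_one, orderOf_one]
  -- `C(S)` has no elements of odd order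
  have hWne : ∀ e ∈ C, Odd (orderOf e) → e = 1 := by
    let Z : Subgroup G :=
      { carrier := {x | x ∈ C ∧ x ^ q = 1 ∧ ∀ c ∈ C, Commute x c}
        one_mem' := ⟨one_mem _, one_pow q, fun c _ => Commute.one_left c⟩
        mul_mem' := fun {a b} ha hb => ⟨mul_mem ha.1 hb.1,
          by rw [(ha.2.2 b hb.1).mul_pow, ha.2.1, hb.2.1, one_mul],
          fun c hc => (ha.2.2 c hc).mul_left (hb.2.2 c hc)⟩
        inv_mem' := fun {a} ha => ⟨inv_mem ha.1, by rw [inv_pow, ha.2.1, inv_one],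
          fun c hc => (ha.2.2 c hc).inv_left⟩ }
    have hconjC : ∀ g ∈ M, ∀ c ∈ C, g * c * g⁻¹ ∈ C := fun g hg c hc =>
      mem_centralizer_iff.2 fun s hs => by
        have hs' : g⁻¹ * s * g ∈ (S : Subgroup G) := by
          have := (mem_normalizer_iff.1 (inv_mem hg) s).1 hs
          rwa [inv_inv] at this
        calc s * (g * c * g⁻¹) = g * ((g⁻¹ * s * g) * c) * g⁻¹ := by group
          _ = g * (c * (g⁻¹ * s * g)) * g⁻¹ := by rw [mem_centralizer_iff.1 hc _ hs']
          _ = _ := by group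
    have hZ : M ≤ normalizer (Z : Set G) := Coprime.le_normalizer_of_conj_mem fun g hg z hz =>
      ⟨hconjC g hg z hz.1, by rw [conj_pow, hz.2.1, mul_one, mul_inv_cancel], fun c hc => by
        have := hz.2.2 (g⁻¹ * c * g) (by simpa using hconjC g⁻¹ (inv_mem hg) c hc)
        show g * z * g⁻¹ * c = c * (g * z * g⁻¹)
        calc g * z * g⁻¹ * c = g * (z * (g⁻¹ * c * g)) * g⁻¹ := by group
          _ = g * ((g⁻¹ * c * g) * z) * g⁻¹ := by rw [this.eq]
          _ = _ := by group⟩
    letI : CommGroup Z :=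
      { (inferInstance : Group Z) with
        mul_comm := fun a b => Subtype.ext (a.2.2.2 b b.2.1).eq }
    let ψ₀ : ↥M →* MulAut Z := Z.normalizerMonoidHom.comp (Subgroup.inclusion hZ)
    let ψ : ↥M ⧸ φ₀.ker →* MulAut Z := QuotientGroup.lift φ₀.ker ψ₀ fun x hx => by
      refine MulEquiv.ext fun z => Subtype.ext ?_
      show (x : G) * z * (x : G)⁻¹ = z
      rw [← (z.2.2.2 x ((hker x).1 hx)).eq, mul_inv_cancel_right]
    have hψπ : ∀ (x : ↥M) (v : Z), ((ψ (π x) v : Z) : G) = (x : G) * v * (x : G)⁻¹ := fun x v => rfl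
    have hZq : IsPGroup q Z := fun z => ⟨1, Subtype.ext (by
      rw [pow_one, SubgroupClass.coe_pow]; exact z.2.2.1)⟩
    have hnorm : ∀ v : Z, ∏ i ∈ Finset.range q, ψ (y ^ i) v = 1 := by
      intro v
      have key : ∀ n : ℕ, ((v : G) * (yy : G)) ^ n =
          ((∏ i ∈ Finset.range n, ψ (y ^ i) v : Z) : G) * (yy : G) ^ n := by
        intro n
        induction n with
        | zero => simp
        | succ n ih =>
          have e : ∏ i ∈ Finset.range (n + 1), ψ (y ^ i) v =
              v * ψ y (∏ i ∈ Finset.range n, ψ (y ^ i) v) := by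
            rw [Finset.prod_range_succ', map_prod, mul_comm, pow_zero, map_one]
            congr 1
            refine Finset.prod_congr rfl fun i _ => ?_
            rw [pow_succ', map_mul]
            rfl
          rw [pow_succ', ih, e, Subgroup.coe_mul, ← hyy, hψπ, pow_succ' (yy : G)]
          group
      have hc : Commute ((v : G) * (yy : G)) t :=
        (show Commute (v : G) t from (mem_centralizer_iff.1 v.2.1 t t.2).symm).mul_left hyyt
      have h1 := (pow_two_q_split hq hqodd (h.edge.commute_involution hto hc.symm)).1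
      have h0 : (yy : G) ^ q = 1 := by rw [← SubgroupClass.coe_pow, hyyq, OneMemClass.coe_one]
      rw [key q, h0, mul_one] at h1
      set P := ∏ i ∈ Finset.range q, ψ (y ^ i) v
      refine Subtype.ext ?_
      rw [OneMemClass.coe_one, ← orderOf_eq_one_iff]
      exact Nat.eq_one_of_dvd_coprimes ((Nat.coprime_primes Nat.prime_two hq).2 h.edge.ne_two.symm)
        (orderOf_dvd_iff_pow_eq_one.2 h1) (orderOf_dvd_iff_pow_eq_one.2 P.2.2.1)
    obtain ⟨c, hc⟩ := hZq.exists_card_eq
    have hKq : ¬ q ∣ Nat.card K := fun hd => by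
      obtain ⟨⟨k, hk⟩, hko⟩ := exists_prime_orderOf_dvd_card' q hd
      rw [Subgroup.orderOf_mk] at hko
      exact (hKiff k).1 hk (hko ▸ dvd_rfl)
    have htrivZ := act_trivial_of_norm ψ K y hq hyq (mem_normalizer_iff.2 fun z => ⟨fun hz => hKn.conj_mem z hz y, fun hz => by
        simpa [mul_assoc] using hKn.conj_mem _ hz y⁻¹⟩)
      hKy (hc ▸ (hq.coprime_iff_not_dvd.2 hKq).pow_left c) hnorm
    intro e he heodd
    by_contra he1
    -- a central element of order `q`
    have hW : IsPGroup q (core C) := h.edge.core_isPGroup fun x hx =>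
      h.edge.commute_involution hto (mem_centralizer_iff.1 hx t t.2)
    haveI : Nontrivial (core C) := ⟨⟨⟨e, h.mem_core_iff.2 ⟨he, heodd⟩⟩, 1,
      fun e' => he1 (congrArg Subtype.val e')⟩⟩
    haveI := hW.center_nontrivial
    obtain ⟨⟨⟨z, hzW⟩, hz⟩, hz1⟩ := exists_ne (1 : center (core C))
    have hz1' : z ≠ 1 := fun e => hz1 (Subtype.ext (Subtype.ext e))
    have hzC := (h.mem_core_iff.1 hzW).1
    have hzq : z ^ q = 1 :=
      h.edge.odd_commute hto (mem_centralizer_iff.1 hzC t t.2) (h.mem_core_iff.1 hzW).2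
    have hzZ : z ∈ Z := by
      refine ⟨hzC, hzq, fun x hx => ?_⟩
      obtain ⟨h1, h2, h3⟩ := pow_two_q_split hq hqodd
        (h.edge.commute_involution hto (mem_centralizer_iff.1 hx t t.2))
      have hxS : x ^ q ∈ (S : Subgroup G) :=
        mem_sylow_of_sq (h.centralizer_sylow_le (pow_mem hx q)) h1
      have hxW : x ^ (q + 1) ∈ core C := h.mem_core_iff.2 ⟨pow_mem hx _,
        hqodd.of_dvd_nat (orderOf_dvd_iff_pow_eq_one.2 h2)⟩
      rw [← h3]
      exact (show Commute z (x ^ q) from (mem_centralizer_iff.1 hzC _ hxS).symm).mul_right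
        (show Commute z (x ^ (q + 1)) from
          (congrArg Subtype.val (mem_center_iff.1 hz ⟨_, hxW⟩)).symm)
    obtain ⟨k, hk, hk1⟩ : ∃ k ∈ K, k ≠ 1 := by
      haveI : Nontrivial K := Finite.one_lt_card_iff_nontrivial.1
        (by have := h.three_le_mm; omega)
      obtain ⟨⟨k, hk⟩, hk1⟩ := exists_ne (1 : K)
      exact ⟨k, hk, fun e => hk1 (Subtype.ext e)⟩
    obtain ⟨x, rfl⟩ := QuotientGroup.mk'_surjective φ₀.ker k
    have hcz : Commute (x : G) z :=
      mul_inv_eq_iff_eq_mul.1 ((hψπ x ⟨z, hzZ⟩).symm.trans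
        (congrArg Subtype.val (htrivZ _ hk ⟨z, hzZ⟩)))
    have hx2q : π x ^ (2 * q) = 1 := by
      rw [← map_pow, show x ^ (2 * q) = 1 from Subtype.ext (by
        simpa using h.edge.commute_q (orderOf_eq_prime hzq hz1') hcz.symm), map_one]
    refine hk1 (orderOf_eq_one_iff.1 (Nat.Coprime.eq_one_of_dvd ?_
      (orderOf_dvd_iff_pow_eq_one.2 hx2q)))
    exact Nat.coprime_mul_iff_right.2
      ⟨Nat.coprime_two_right.2 (hodd.of_dvd_nat (orderOf_dvd_natCard _)),
        (hq.coprime_iff_not_dvd.2 ((hKiff _).1 hk)).symm⟩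
  have hkerS : ∀ x : ↥M, π x = 1 → (x : G) ∈ (S : Subgroup G) := by
    intro x hx
    have hxC := (hker x).1 ((QuotientGroup.eq_one_iff _).1 hx)
    obtain ⟨h1, h2, h3⟩ := pow_two_q_split hq hqodd
      (h.edge.commute_involution hto (mem_centralizer_iff.1 hxC t t.2))
    have h4 : (x : G) ^ (q + 1) = 1 :=
      hWne _ (pow_mem hxC _) (hqodd.of_dvd_nat (orderOf_dvd_iff_pow_eq_one.2 h2))
    rw [← h3, h4, mul_one]
    exact mem_sylow_of_sq (pow_mem x.2 q) h1
  have hord : ∀ x : ↥M, Odd (orderOf (x : G)) → orderOf (π x) = orderOf (x : G) := by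
    intro x hx
    refine Nat.dvd_antisymm (Subgroup.orderOf_coe x ▸ orderOf_map_dvd π x) ?_
    have h1 := hkerS (x ^ orderOf (π x)) (by rw [map_pow, pow_orderOf_eq_one])
    rw [SubgroupClass.coe_pow] at h1
    have h2 : ((x : G) ^ orderOf (π x)) ^ 2 = 1 := h.edge.two_group_sq S.2 _ h1
    rw [← pow_mul] at h2
    exact (Nat.coprime_two_right.2 hx).dvd_of_dvd_mul_right (orderOf_dvd_iff_pow_eq_one.2 h2)
  set R := (K.comap π).map (M).subtype with hR
  have hRmem : ∀ x : ↥M, (x : G) ∈ R ↔ π x ∈ K := fun x => by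
    rw [hR]; exact mem_map_iff_mem (M).subtype_injective
  have hNR : NR G q S R (yy : G) (t : G) := by
    refine ⟨h, yy.2, (Subgroup.orderOf_coe yy).trans hyyo, t.2, ht1', hyyt, ?_,
      map_subtype_le _, ?_, ?_, ?_⟩
    · intro s hs hc
      rcases hyfix ⟨s, hs⟩ (by
        refine Subtype.ext ?_
        rw [← hyy, hφπ]
        exact mul_inv_eq_iff_eq_mul.2 hc.eq) with h1 | h1
      · exact Or.inl (congrArg Subtype.val h1)
      · exact Or.inr (congrArg Subtype.val h1)
    · intro x hx hxo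
      rw [show x = ((⟨x, hx⟩ : ↥M) : G) from rfl, hRmem, hKiff, hord _ hxo]
    · intro x hx hc
      obtain ⟨x', hx', rfl⟩ := hx
      refine hkerS x' (hKfix _ hx' (Subtype.ext ?_))
      rw [hφπ]
      exact mul_inv_eq_iff_eq_mul.2 hc.eq
    · intro x hx
      obtain ⟨i, hi, hix⟩ := hdec (π ⟨x, hx⟩)
      refine ⟨i, hi, ?_⟩
      rw [show ((yy : G) ^ i)⁻¹ * x = (((yy ^ i)⁻¹ * ⟨x, hx⟩ : ↥M) : G) by simp, hRmem, map_mul,
        map_inv, map_pow, hyy]
      exact hix
  by_cases hall : ∀ g : G, g⁻¹ * (yy : G) * g ∈ M → g ∈ M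
  · refine Or.inl ⟨K.comap π, inferInstance, ?_, yy, hyyo, ?_, hall⟩
    · rw [index_comap_of_surjective K (QuotientGroup.mk'_surjective _), hKidx]
    · rw [mem_comap, hyy]; exact hyK
  · push Not at hall
    obtain ⟨g, hgy, hg⟩ := hall
    obtain ⟨hq3, u, hu, huM, hyu⟩ := hNR.of_fixed hg hgy
    subst hq3
    have h7 := hNR.mm_eq_seven hu huM hyu
    refine Or.inr ⟨rfl, by rw [← h.mm_succ, h7], ?_⟩
    intro h77
    have h1 : φ₀.ker.index = 7 := by
      rw [hφ₀, normalizerMonoidHom_ker]; exact h77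
    have h2 : Nat.card K * K.index = φ₀.ker.index := by
      rw [Subgroup.card_mul_index]; exact φ₀.ker.index_eq_card.symm
    rw [hm, h7, hKidx, h1] at h2
    omega

end SE

end Cfsg.Agent.Three68
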