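import Cfsg.Agent.Three68.Basic
import Cfsg.Agent.Lib.Coprime.Action
import Cfsg.Agent.Lib.Coprime.Hall
import Cfsg.Agent.LocalEven62.Frattini
import Mathlib.GroupTheory.Subgroup.Centralizer

/-!
# The norm argument

An element of prime order whose norm vanishes on an abelian group, normalizing fixed-point-freely
a subgroup of coprime order, forces that subgroup to act trivially.
-/

set_option autoImplicit false
set_option linter.style.haveILetI false

namespace Cfsg.Agent.Three68

open Subgroup

/-- If all norms of `a` vanish on `V`, then `N` acts trivially on `V`. -/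
theorem act_trivial_of_norm {H V : Type*} [Group H] [CommGroup V] [Finite V] (φ : H →* MulAut V)
    (N : Subgroup H) [Finite N] (a : H) {p : ℕ} (hp : p.Prime) (hap : a ^ p = 1)
    (haN : a ∈ normalizer (N : Set H)) (hfix : ∀ x ∈ N, Commute a x → x = 1)
    (hcop : (Nat.card V).Coprime (Nat.card N))
    (hnorm : ∀ v : V, ∏ i ∈ Finset.range p, φ (a ^ i) v = 1) :
    ∀ x ∈ N, ∀ v : V, φ x v = v := by
  classical
  intro x hx w
  cases nonempty_fintype N
  have hmul : ∀ (g h : H) (v : V), φ (g * h) v = φ g (φ h v) := fun g h v => by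
    rw [map_mul]; rfl
  have hconj : ∀ i : ℕ, ∀ n ∈ N, a ^ i * n * (a ^ i)⁻¹ ∈ N := fun i n hn =>
    (mem_normalizer_iff.mp (pow_mem haN i) n).mp hn
  have h0 : ∏ i ∈ Finset.range p, ∏ n : N, φ ((n : H)⁻¹ * a ^ i * n) w = 1 := by
    rw [Finset.prod_comm]
    refine Finset.prod_eq_one fun n _ => ?_
    simp only [mul_assoc, hmul]
    rw [← map_prod, hnorm, map_one]
  set z : V → V := fun u => ∏ m : N, φ (m : H) u with hzdef
  have hz : ∀ u, φ x (z u) = z u := fun u => by
    simp only [hzdef, map_prod, ← hmul]
    exact Equiv.prod_comp (Equiv.mulLeft (⟨x, hx⟩ : N)) (fun m : N => φ (m : H) u)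
  have hterm : ∀ i ∈ Finset.range p, i ≠ 0 →
      ∏ n : N, φ ((n : H)⁻¹ * a ^ i * n) w = z (φ (a ^ i) w) := by
    intro i hi hi0
    have hip : i < p := Finset.mem_range.mp hi
    have hcop' : i.Coprime (orderOf a) := by
      refine Nat.Coprime.coprime_dvd_right (orderOf_dvd_of_pow_eq_one hap) ?_
      exact ((hp.coprime_iff_not_dvd).mpr fun h =>
        absurd (Nat.le_of_dvd (by omega) h) (by omega)).symm
    let g : N → N := fun n => n⁻¹ * ⟨a ^ i * n * (a ^ i)⁻¹, hconj i n n.2⟩
    have hinj : Function.Injective g := by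
      intro n m h
      have h' : (n : H)⁻¹ * (a ^ i * n * (a ^ i)⁻¹) = (m : H)⁻¹ * (a ^ i * m * (a ^ i)⁻¹) :=
        congrArg Subtype.val h
      obtain ⟨j, hj⟩ := exists_pow_eq_self_of_coprime hcop'
      have h1 : Commute (a ^ i) ((m : H) * (n : H)⁻¹) := by
        show a ^ i * ((m : H) * (n : H)⁻¹) = (m : H) * (n : H)⁻¹ * a ^ i
        calc a ^ i * ((m : H) * (n : H)⁻¹)
            = m * ((m : H)⁻¹ * (a ^ i * m * (a ^ i)⁻¹)) * (a ^ i * (n : H)⁻¹) := by group
          _ = m * ((n : H)⁻¹ * (a ^ i * n * (a ^ i)⁻¹)) * (a ^ i * (n : H)⁻¹) := by rw [h']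
          _ = _ := by group
      have h2 := hfix _ (mul_mem m.2 (inv_mem n.2)) (hj ▸ h1.pow_left j)
      exact Subtype.ext (mul_inv_eq_one.mp h2).symm
    refine Fintype.prod_bijective g (Finite.injective_iff_bijective.mp hinj) _ _ fun n => ?_
    rw [← hmul]
    congr 2
    simp [g, mul_assoc]
  rw [← Finset.mul_prod_erase _ _ (Finset.mem_range.mpr hp.pos)] at h0
  have h00 : ∏ n : N, φ ((n : H)⁻¹ * a ^ 0 * n) w = w ^ Nat.card N := by
    simp [Nat.card_eq_fintype_card]
  rw [h00, Finset.prod_congr rfl fun i hi =>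
    hterm i (Finset.mem_of_mem_erase hi) (Finset.ne_of_mem_erase hi)] at h0
  have h1 := congrArg (φ x) h0
  rw [map_mul, map_pow, map_prod, map_one, Finset.prod_congr rfl fun i _ => hz _] at h1
  have h2 : (φ x w) ^ Nat.card N = w ^ Nat.card N := mul_right_cancel (h1.trans h0.symm)
  exact (powCoprime hcop).injective h2

variable {G : Type*} [Group G] {q : ℕ}

/-- The action of the normalizer of `D` on the abelianization of `D`. -/
noncomputable def abAct (D : Subgroup G) :
    ↥(normalizer (D : Set G)) →* MulAut (Abelianization D) where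
  toFun g := (D.normalizerMonoidHom g).abelianizationCongr
  map_one' := by
    refine MulEquiv.toMonoidHom_injective (Abelianization.hom_ext _ _ ?_)
    ext v
    simp
  map_mul' g h := by
    refine MulEquiv.toMonoidHom_injective (Abelianization.hom_ext _ _ ?_)
    ext v
    simp

theorem abAct_of (D : Subgroup G) (g : ↥(normalizer (D : Set G))) (v : D) :
    abAct D g (Abelianization.of v) = Abelianization.of (D.normalizerMonoidHom g v) := rfl

theorem normalizerMonoidHom_coe (D : Subgroup G) (g : ↥(normalizer (D : Set G))) (v : D) :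
    ((D.normalizerMonoidHom g v : D) : G) = g * v * (g : G)⁻¹ := rfl

/-- `(v x) ^ n` and the partial norms of `v`. -/
theorem exists_norm_pow (D : Subgroup G) (x : ↥(normalizer (D : Set G))) (v : D) (n : ℕ) :
    ∃ d : D, ((v : G) * x) ^ n = (d : G) * (x : G) ^ n ∧
      Abelianization.of d = ∏ i ∈ Finset.range n, abAct D (x ^ i) (Abelianization.of v) := by
  induction n with
  | zero => exact ⟨1, by simp, by simp⟩
  | succ n ih =>
    obtain ⟨d, hd, hda⟩ := ih
    refine ⟨v * D.normalizerMonoidHom x d, ?_, ?_⟩
    · rw [pow_succ', hd, Subgroup.coe_mul, normalizerMonoidHom_coe, pow_succ']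
      group
    · rw [map_mul, ← abAct_of, hda, map_prod, Finset.prod_range_succ', mul_comm]
      congr 1
      · refine Finset.prod_congr rfl fun i _ => ?_
        rw [pow_succ', map_mul (abAct D)]
        rfl
      · simp

/-- A fixed-point-free operator of prime order on a four group (or larger) forces it to centralize
every invariant `q`-subgroup. -/
theorem EdgeB.centralizes [Finite G] (h : EdgeB G q) {U D : Subgroup G} (hU : IsPGroup 2 U)
    {x : G} {p : ℕ} (hp : p.Prime) (hx : orderOf x = p) (hxU : x ∈ normalizer (U : Set G))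
    (hfix : ∀ u ∈ U, Commute x u → u = 1) (hD : IsPGroup q D)
    (hUD : U ≤ normalizer (D : Set G)) (hxD : x ∈ normalizer (D : Set G)) :
    U ≤ centralizer (D : Set G) := by
  classical
  haveI := Fact.mk h.prime
  haveI : Fact (Nat.Prime 2) := ⟨Nat.prime_two⟩
  obtain ⟨a, ha⟩ := hD.exists_card_eq
  obtain ⟨b, hb⟩ := hU.exists_card_eq
  have hcopUD : (Nat.card U).Coprime (Nat.card D) := by
    rw [ha, hb]
    exact Nat.Coprime.pow _ _ ((Nat.coprime_primes Nat.prime_two h.prime).2 h.ne_two.symm)
  have : Finite (Abelianization D) :=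
    Finite.of_surjective _ (QuotientGroup.mk_surjective (s := commutator D))
  by_cases hU1 : U = ⊥
  · rw [hU1]; exact bot_le
  have hp2 : p ≠ 2 := by
    rintro rfl
    -- an involution normalizing a nontrivial `2`-group fixes a point
    have hUx : IsPGroup 2 (U ⊔ zpowers x : Subgroup G) := by
      have h2 : IsPGroup 2 (zpowers x) :=
        IsPGroup.of_card (n := 1) (by rw [Nat.card_zpowers, hx, pow_one])
      exact IsPGroup.to_sup_of_normal_left' hU h2 (by rwa [zpowers_le])
    obtain ⟨u, hu1⟩ := Subgroup.ne_bot_iff_exists_ne_one.1 hU1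
    have hc : Commute x (u : G) :=
      commute_of_sq (h.two_group_sq hUx) ((le_sup_right : zpowers x ≤ _) (mem_zpowers x))
        ((le_sup_left : U ≤ _) u.2)
    exact hu1 (Subtype.ext (hfix u u.2 hc))
  set Hn := normalizer (D : Set G) with hHn
  set xH : ↥Hn := ⟨x, hxD⟩ with hxH
  have hxp : xH ^ p = 1 := Subtype.ext (by rw [SubgroupClass.coe_pow, ← hx]; exact pow_orderOf_eq_one x)
  -- the norms vanish
  have hnorm : ∀ w : Abelianization D, ∏ i ∈ Finset.range p, abAct D (xH ^ i) w = 1 := by
    intro w
    obtain ⟨v, rfl⟩ := QuotientGroup.mk_surjective (s := commutator D) w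
    change ∏ i ∈ Finset.range p, abAct D (xH ^ i) (Abelianization.of v) = 1
    by_cases hpq : p = q
    · subst hpq
      obtain ⟨d, hd, hda⟩ := exists_norm_pow D xH v p
      rw [← hda]
      have hx1 : (x : G) ^ p = 1 := by rw [← hx]; exact pow_orderOf_eq_one x
      have hvx : orderOf ((v : G) * x) ∣ p ^ 2 := by
        rw [orderOf_dvd_iff_pow_eq_one, sq, pow_mul, hd, hx1, mul_one]
        obtain ⟨k, hk⟩ := IsPGroup.iff_orderOf.1 hD d
        rw [← Subgroup.orderOf_coe] at hk
        exact h.q_pow hk
      obtain ⟨k, -, hk⟩ := (Nat.dvd_prime_pow hp).1 hvx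
      have h1 : (d : G) = 1 := by
        have := h.q_pow hk
        rwa [hd, hx1, mul_one] at this
      rw [show d = 1 from Subtype.ext h1, map_one]
    · -- the norm is fixed by `x`, and `x` fixes nothing
      set w' := ∏ i ∈ Finset.range p, abAct D (xH ^ i) (Abelianization.of v) with hw'
      have hfixw : abAct D xH w' = w' := by
        rw [hw', map_prod]
        obtain ⟨m, rfl⟩ : ∃ m, p = m + 1 := ⟨p - 1, by have := hp.pos; omega⟩
        have hs : ∀ (i : ℕ) (y : Abelianization D),
            abAct D xH (abAct D (xH ^ i) y) = abAct D (xH ^ (i + 1)) y := fun i y => by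
          rw [pow_succ', map_mul (abAct D)]; rfl
        simp only [hs]
        rw [Finset.prod_range_succ' (fun i => abAct D (xH ^ i) (Abelianization.of v)),
          Finset.prod_range_succ (fun i => abAct D (xH ^ (i + 1)) (Abelianization.of v)), hxp,
          pow_zero]
      obtain ⟨c, hc⟩ := QuotientGroup.mk_surjective (s := commutator D) w'
      change Abelianization.of c = w' at hc
      rw [← hc] at hfixw ⊢
      set N := (commutator D).map D.subtype with hN
      have hND : N ≤ D := map_subtype_le _
      have hxN : zpowers x ≤ normalizer (N : Set G) :=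
        zpowers_le.2 (Coprime.normalizer_le_normalizer_map D (commutator D) hxD)
      have hdq : ∀ {d : G}, d ∈ D → ∃ k, orderOf d = q ^ k := fun hd => by
        obtain ⟨k, hk⟩ := IsPGroup.iff_orderOf.1 hD ⟨_, hd⟩
        exact ⟨k, by rwa [Subgroup.orderOf_mk] at hk⟩
      obtain ⟨n, hn, hnc⟩ := Coprime.exists_fixed_in_coset_of_normal (zpowers x) N hxN
        (by
          rw [Nat.card_zpowers, hx]
          refine Nat.Coprime.coprime_dvd_right (Subgroup.card_dvd_of_le hND) ?_
          rw [ha]
          exact Nat.Coprime.pow_right _ ((Nat.coprime_primes hp h.prime).2 hpq))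
        (Or.inl inferInstance) (c : G)
        ((Coprime.normalizer_le_normalizer_map D (commutator D)) (Subgroup.le_normalizer c.2))
        (fun g hg => by
          obtain ⟨i, rfl⟩ := mem_zpowers_iff.1 hg
          have h5 : abAct D (xH ^ i) (Abelianization.of c) = Abelianization.of c := by
            rw [map_zpow]
            let St : Subgroup (MulAut (Abelianization D)) :=
              MulAction.stabilizer (MulAut (Abelianization D)) (Abelianization.of c)
            exact (zpow_mem (show abAct D xH ∈ St from hfixw) i : _ ∈ St)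
          rw [abAct_of] at h5
          refine ⟨D.normalizerMonoidHom (xH ^ i) c * c⁻¹, ?_, ?_⟩
          swap
          · rw [map_mul, map_inv]
            show ((D.normalizerMonoidHom (xH ^ i) c : D) : G) * ((c : D) : G)⁻¹ = _
            rw [normalizerMonoidHom_coe, SubgroupClass.coe_zpow]
          rw [SetLike.mem_coe, ← Abelianization.ker_of, MonoidHom.mem_ker, map_mul, map_inv, h5,
            mul_inv_cancel])
      -- a fixed element has order prime to `p`, so it is trivial
      have hy1 : (c : G) * n = 1 := by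
        by_contra hy1
        obtain ⟨k, hk⟩ := hdq (mul_mem c.2 (hND hn))
        have hcx : Commute x ((c : G) * n) :=
          mem_centralizer_iff.1 hnc x (mem_zpowers x)
        have hyq : orderOf ((c : G) * n) = q := by
          rcases (Nat.dvd_prime h.prime).1 (orderOf_dvd_iff_pow_eq_one.2 (h.q_pow hk)) with h6 | h6
          · exact absurd (orderOf_eq_one_iff.1 h6) hy1
          · exact h6
        have := h.eq_one_of_commute (Or.inr hyq) hcx.symm (by
          rw [hx, Nat.coprime_mul_iff_right]
          exact ⟨(Nat.coprime_primes hp Nat.prime_two).2 hp2, (Nat.coprime_primes hp h.prime).2 hpq⟩)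
        rw [this, orderOf_one] at hx
        exact hp.ne_one hx.symm
      have hc' : (c : D) ∈ commutator D := by
        obtain ⟨n', hn', rfl⟩ := hn
        have : c = n'⁻¹ := eq_inv_of_mul_eq_one_left (Subtype.ext hy1)
        rw [this]; exact inv_mem hn'
      rw [← MonoidHom.mem_ker, Abelianization.ker_of]
      exact hc'
  intro u hu
  have h1 := act_trivial_of_norm (abAct D) (U.subgroupOf Hn) xH hp hxp
    (mem_normalizer_iff.2 fun y => by
      simp only [mem_subgroupOf, Subgroup.coe_mul, Subgroup.coe_inv, hxH]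
      exact mem_normalizer_iff.1 hxU y)
    (fun y hy hc => Subtype.ext (hfix y hy (congrArg Subtype.val hc.eq)))
    (by
      rw [Nat.card_congr (Subgroup.subgroupOfEquivOfLe hUD).toEquiv]
      refine Nat.Coprime.coprime_dvd_left ?_ hcopUD.symm
      exact Subgroup.card_quotient_dvd_card (commutator D))
    hnorm
  have hAK : U ≤ normalizer (D : Set G) := hUD
  have h2 := Coprime.le_centralizer_of_frattini U D hAK
    (hcopUD.coprime_dvd_right (Subgroup.card_subgroup_dvd_card _)) fun c hc d hd => by
    have h3 := h1 ⟨c, hUD hc⟩ hc (Abelianization.of (⟨d, hd⟩ : D))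
    rw [abAct_of] at h3
    have h4 : (D.normalizerMonoidHom ⟨c, hUD hc⟩ ⟨d, hd⟩) * (⟨d, hd⟩ : D)⁻¹ ∈ commutator D := by
      rw [← Abelianization.ker_of, MonoidHom.mem_ker, map_mul, map_inv, h3, mul_inv_cancel]
    exact ⟨_, PGroup.commutator_le_frattini hD h4, rfl⟩
  exact h2 hu

end Cfsg.Agent.Three68
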