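import Cfsg.Agent.Three68.AlmostB
import Cfsg.Agent.SzFacts.Partition
import Cfsg.Agent.EPPO42.PSLSeven
import Cfsg.Agent.S0333

/-!
# A nontrivial normal `2`-subgroup leaves only `PSL(2, 2 ^ n)`
-/

set_option autoImplicit false
set_option linter.style.haveILetI false

namespace Cfsg.Agent.Three68

open Subgroup PGraphCIT

universe u v

/-- Subgroups of the same order of a cyclic group coincide. -/
theorem cyclic_subgroup_eq {A : Type u} [Group A] [Finite A] [IsCyclic A] {H K : Subgroup A}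
    (h : Nat.card H = Nat.card K) : H = K := by
  classical
  haveI := Fintype.ofFinite A
  letI := IsCyclic.commGroup (α := A)
  have key : ∀ L : Subgroup A, (L : Set A).toFinset =
      Finset.univ.filter fun a => a ^ Nat.card L = 1 := by
    intro L
    refine Finset.eq_of_subset_of_card_le (fun a ha => ?_) ?_
    · rw [Set.mem_toFinset] at ha
      exact Finset.mem_filter.mpr ⟨Finset.mem_univ _,
        congrArg Subtype.val (pow_card_eq_one' (G := L) (x := ⟨a, ha⟩))⟩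
    · refine (IsCyclic.card_pow_eq_one_le Nat.card_pos).trans ?_
      rw [Set.toFinset_card, Nat.card_eq_fintype_card]
      rfl
  exact SetLike.coe_injective (Set.toFinset_inj.mp ((key H).trans (h ▸ (key K).symm)))

/-- The elementary module attached to a nontrivial normal `2`-subgroup. -/
theorem exists_module {G : Type u} [Group G] [Finite G] (hcit : IsCIT G)
    (hexp : ∀ x : G, 2 ∣ orderOf x → orderOf x = 2 ∨ orderOf x = 4) (R : Subgroup G) [R.Normal]
    (hR : IsPGroup 2 R) (hne : R ≠ ⊥) :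
    ∃ (V : Type u) (_ : CommGroup V) (φ : G ⧸ R →* MulAut V), Finite V ∧ Nontrivial V ∧
      (∀ v : V, v * v = 1) ∧ CIT.OddFpf φ ∧
      ∀ a : G ⧸ R, a ^ 4 = 1 → ∀ v : V, v * φ a v * φ (a ^ 2) v * φ (a ^ 3) v = 1 := by
  classical
  haveI : Fact (Nat.Prime 2) := ⟨Nat.prime_two⟩
  have hfour : ∀ (x : G) (k : ℕ), x ^ 2 ^ k = 1 → x ^ 4 = 1 := by
    intro x k hk
    by_cases h2 : 2 ∣ orderOf x
    · rcases hexp x h2 with h | h <;> rw [← orderOf_dvd_iff_pow_eq_one, h] <;> norm_num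
    · obtain ⟨i, -, hi⟩ := (Nat.dvd_prime_pow Nat.prime_two).1 (orderOf_dvd_of_pow_eq_one hk)
      rcases i with _ | i
      · rw [pow_zero, orderOf_eq_one_iff] at hi
        rw [hi, one_pow]
      · exact absurd (hi ▸ dvd_pow_self 2 (Nat.succ_ne_zero i)) h2
  let V : Subgroup G :=
    { carrier := {x | x ∈ R ∧ (∀ r ∈ R, Commute x r) ∧ x * x = 1}
      one_mem' := ⟨one_mem R, fun r _ => Commute.one_left r, one_mul 1⟩
      mul_mem' := fun {x y} hx hy => ⟨mul_mem hx.1 hy.1,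
        fun r hr => (hx.2.1 r hr).mul_left (hy.2.1 r hr), by
          rw [show x * y * (x * y) = x * (y * x) * y by group, (hy.2.1 x hx.1).eq,
            show x * (x * y) * y = (x * x) * (y * y) by group, hx.2.2, hy.2.2, one_mul]⟩
      inv_mem' := fun {x} hx => ⟨inv_mem hx.1, fun r hr => (hx.2.1 r hr).inv_left, by
        rw [← mul_inv_rev, hx.2.2, inv_one]⟩ }
  haveI hVn : V.Normal := ⟨fun x hx g => ⟨(inferInstance : R.Normal).conj_mem x hx.1 g,
    fun r hr => by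
      have h1 := hx.2.1 _ ((inferInstance : R.Normal).conj_mem r hr g⁻¹)
      rw [inv_inv] at h1
      show g * x * g⁻¹ * r = r * (g * x * g⁻¹)
      calc g * x * g⁻¹ * r = g * (x * (g⁻¹ * r * g)) * g⁻¹ := by group
        _ = g * ((g⁻¹ * r * g) * x) * g⁻¹ := by rw [h1.eq]
        _ = r * (g * x * g⁻¹) := by group,
    by rw [show g * x * g⁻¹ * (g * x * g⁻¹) = g * (x * x) * g⁻¹ by group, hx.2.2]; group⟩⟩
  letI iV : CommGroup V :=
    { (inferInstance : Group V) with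
      mul_comm := fun x y => Subtype.ext (x.2.2.1 y y.2.1).eq }
  have hnt : Nontrivial V := by
    haveI := R.nontrivial_iff_ne_bot.2 hne
    haveI : Nontrivial (center R) := IsPGroup.center_nontrivial hR
    obtain ⟨⟨⟨z, hzR⟩, hzc⟩, hz1⟩ := exists_ne (1 : center R)
    obtain ⟨k, hk⟩ := hR ⟨z, hzR⟩
    obtain ⟨i, hi⟩ := exists_involution_pow (congrArg Subtype.val hk : z ^ 2 ^ k = 1)
      (fun e => hz1 (Subtype.ext (Subtype.ext e)))
    have hmem : z ^ i ∈ V := ⟨pow_mem hzR _, fun r hr => Commute.pow_left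
      (congrArg Subtype.val (mem_center_iff.1 hzc ⟨r, hr⟩)).symm _, by
      rw [← pow_two, ← hi, pow_orderOf_eq_one]⟩
    exact nontrivial_of_ne (⟨_, hmem⟩ : V) 1 fun e => by
      have e' : z ^ i = 1 := congrArg Subtype.val e
      rw [e', orderOf_one] at hi
      omega
  set φ₀ : G →* MulAut V := MulAut.conjNormal
  have hker : R ≤ φ₀.ker := fun r hr => MonoidHom.mem_ker.2 (MulEquiv.ext fun v => Subtype.ext (by
    show r * (v : G) * r⁻¹ = v
    rw [← (v.2.2.1 r hr).eq, mul_inv_cancel_right]))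
  refine ⟨↥V, iV, QuotientGroup.lift R φ₀ hker, inferInstance, hnt, fun v => Subtype.ext v.2.2.2, ?_, ?_⟩
  · intro a ha ha1 v hv
    obtain ⟨g, rfl⟩ := QuotientGroup.mk'_surjective R a
    obtain ⟨k, m, hm, hkm⟩ := Nat.exists_eq_two_pow_mul_odd (orderOf_pos g).ne'
    obtain ⟨j, hj⟩ := exists_pow_eq_self_of_coprime
      (show Nat.Coprime (2 ^ k) (orderOf (QuotientGroup.mk' R g)) from
        (Nat.coprime_two_left.2 ha).pow_left k)
    set g₁ := (g ^ 2 ^ k) ^ j with hg₁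
    have hg₁e : QuotientGroup.mk' R g₁ = QuotientGroup.mk' R g := by rw [hg₁, map_pow, map_pow, hj]
    have hg₁o : Odd (orderOf g₁) := by
      refine (show Odd (orderOf (g ^ 2 ^ k)) from ?_).of_dvd_nat (orderOf_pow_dvd j)
      rw [orderOf_pow, hkm, Nat.gcd_eq_right (Dvd.intro _ rfl),
        Nat.mul_div_cancel_left _ (pow_pos two_pos k)]
      exact hm
    rw [← hg₁e] at hv
    have hv' : g₁ * (v : G) * g₁⁻¹ = v := congrArg Subtype.val hv
    by_contra hv1
    have h1 := hcit.eq_one (t := (v : G))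
      (orderOf_eq_prime (by rw [pow_two]; exact v.2.2.2) fun e => hv1 (Subtype.ext e))
      (mul_inv_eq_iff_eq_mul.1 hv').symm hg₁o
    exact ha1 (by rw [← hg₁e, h1, map_one])
  · intro a ha v
    obtain ⟨g, rfl⟩ := QuotientGroup.mk'_surjective R a
    have hg4 : g ^ 4 = 1 := by
      rw [← map_pow] at ha
      obtain ⟨k, hk⟩ := hR ⟨g ^ 4, (QuotientGroup.eq_one_iff _).1 ha⟩
      refine hfour g (2 + k) ?_
      rw [pow_add, pow_mul]
      exact congrArg Subtype.val hk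
    have hvg : ((v : G) * g) ^ 4 = 1 := by
      have h1 : QuotientGroup.mk' R ((v : G) * g) ^ 4 = 1 := by
        rw [map_mul, show QuotientGroup.mk' R (v : G) = 1 from
          (QuotientGroup.eq_one_iff _).2 v.2.1, one_mul, ha]
      rw [← map_pow] at h1
      obtain ⟨k, hk⟩ := hR ⟨_, (QuotientGroup.eq_one_iff _).1 h1⟩
      refine hfour _ (2 + k) ?_
      rw [pow_add, pow_mul]
      exact congrArg Subtype.val hk
    simp only [← map_pow]
    refine Subtype.ext ?_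
    show (v : G) * (g * v * g⁻¹) * (g ^ 2 * v * (g ^ 2)⁻¹) * (g ^ 3 * v * (g ^ 3)⁻¹) = 1
    calc (v : G) * (g * v * g⁻¹) * (g ^ 2 * v * (g ^ 2)⁻¹) * (g ^ 3 * v * (g ^ 3)⁻¹)
        = ((v : G) * g) ^ 4 * (g ^ 4)⁻¹ := by simp only [pow_succ, pow_zero, one_mul]; group
      _ = 1 := by rw [hvg, hg4, inv_one, mul_one]

/-- No such module for a group with a Frobenius subgroup of order `20`. -/
theorem no_module_twenty {Y : Type u} [Group Y] [Finite Y] {V : Type v} [CommGroup V] [Nontrivial V]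
    {φ : Y →* MulAut V} (hV : ∀ v : V, v * v = 1) (hfpf : CIT.OddFpf φ) {a c : Y}
    (hc : orderOf c = 5) (hac : a * c * a⁻¹ = c ^ 2)
    (hid : ∀ v : V, v * φ a v * φ (a ^ 2) v * φ (a ^ 3) v = 1) : False := by
  classical
  have hnorm : ∀ d : Y, d ^ 5 = 1 → d ≠ 1 → ∀ w : V, ∏ k ∈ Finset.range 5, φ (d ^ k) w = 1 := by
    intro d hd hd1 w
    refine hfpf d ((show Odd 5 by decide).of_dvd_nat (orderOf_dvd_of_pow_eq_one hd)) hd1 _ ?_
    rw [map_prod]
    simp only [← MulAut.mul_apply, ← map_mul, ← pow_succ']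
    have h1 := (Finset.prod_range_succ' (fun i => φ (d ^ i) w) 5).symm.trans
      (Finset.prod_range_succ (fun i => φ (d ^ i) w) 5)
    rw [pow_zero, hd] at h1
    exact mul_right_cancel h1
  have h5 : c ^ 5 = 1 := by rw [← hc, pow_orderOf_eq_one]
  have hconj : ∀ k : ℕ, a * c ^ k = c ^ (2 * k) * a := fun k => by
    rw [← mul_inv_eq_iff_eq_mul, ← conj_pow, hac, ← pow_mul]
  have hconj2 : ∀ k : ℕ, a ^ 2 * c ^ k = c ^ (4 * k) * a ^ 2 := fun k => by
    rw [pow_two, mul_assoc, hconj, ← mul_assoc, hconj, mul_assoc]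
    congr 2; omega
  have hconj3 : ∀ k : ℕ, a ^ 3 * c ^ k = c ^ (8 * k) * a ^ 3 := fun k => by
    rw [show a ^ 3 = a * a ^ 2 from pow_succ' a 2, mul_assoc, hconj2, ← mul_assoc, hconj, mul_assoc]
    congr 2; omega
  obtain ⟨v, hv⟩ := exists_ne (1 : V)
  apply hv
  have hk : ∀ k : ℕ, v * φ ((c ^ 6) ^ k) (φ a v) * φ ((c ^ 8) ^ k) (φ (a ^ 2) v) *
      φ ((c ^ 12) ^ k) (φ (a ^ 3) v) = 1 := by
    intro k
    have h1 := congrArg (φ (c ^ (4 * k))) (hid (φ (c ^ k) v))
    rw [map_one] at h1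
    simp only [map_mul, ← MulAut.mul_apply, ← mul_assoc] at h1 ⊢
    simp only [← map_mul, mul_assoc, hconj, hconj2, hconj3] at h1 ⊢
    simp only [← mul_assoc, ← pow_add, ← pow_mul] at h1 ⊢
    rw [show c ^ (4 * k + k) = 1 by
      rw [show 4 * k + k = 5 * k by omega, pow_mul, h5, one_pow], map_one, MulAut.one_apply] at h1
    convert h1 using 7 <;> ring
  have hne : ∀ j : ℕ, ¬ 5 ∣ j → c ^ j ≠ 1 := fun j hj e => hj (hc ▸ orderOf_dvd_of_pow_eq_one e)
  have hprod := Finset.prod_congr (s₁ := Finset.range 5) rfl fun k _ => hk k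
  rw [Finset.prod_const_one, Finset.prod_mul_distrib, Finset.prod_mul_distrib,
    Finset.prod_mul_distrib, Finset.prod_const, Finset.card_range,
    hnorm (c ^ 6) (by rw [← pow_mul, mul_comm, pow_mul, h5, one_pow]) (hne 6 (by norm_num)),
    hnorm (c ^ 8) (by rw [← pow_mul, mul_comm, pow_mul, h5, one_pow]) (hne 8 (by norm_num)),
    hnorm (c ^ 12) (by rw [← pow_mul, mul_comm, pow_mul, h5, one_pow]) (hne 12 (by norm_num)),
    mul_one, mul_one, mul_one] at hprod
  rwa [show v ^ 5 = v by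
    rw [show v ^ 5 = (v * v) * (v * v) * v by simp [pow_succ, mul_assoc], hV]
    simp]
    at hprod

/-- The Suzuki groups have Frobenius subgroups of order `20`. -/
theorem sz_twenty {F : Type} [Field F] [Fintype F] {m : ℕ} (hm : 1 ≤ m)
    (hF : Fintype.card F = 2 ^ (2 * m + 1)) :
    ∃ a c : Cfsg.Sz F m, orderOf c = 5 ∧ a ^ 4 = 1 ∧ a * c * a⁻¹ = c ^ 2 := by
  haveI : Fact (Nat.Prime 5) := ⟨Nat.prime_five⟩
  haveI : Fact (Nat.Prime 2) := ⟨Nat.prime_two⟩
  obtain ⟨k, hk, hk5⟩ : ∃ k ∈ ({2 ^ (2 * m + 1) + 2 ^ (m + 1) + 1,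
      2 ^ (2 * m + 1) - 2 ^ (m + 1) + 1} : Set ℕ), 5 ∣ k := by
    have h := SzFacts.tori_product (m := m) hF
    rw [hF] at h
    have h5 := EPPO42.five_dvd_suzuki m
    rw [← h] at h5
    rcases Nat.prime_five.dvd_mul.1 h5 with h5 | h5
    exacts [⟨_, Or.inl rfl, h5⟩, ⟨_, Or.inr rfl, h5⟩]
  have hkodd : Odd k := by
    have h1 : 2 ∣ 2 ^ (2 * m + 1) := dvd_pow_self 2 (by omega)
    have h2 : 2 ∣ 2 ^ (m + 1) := dvd_pow_self 2 (by omega)
    have h3 : 2 ^ (m + 1) ≤ 2 ^ (2 * m + 1) := Nat.pow_le_pow_right two_pos (by omega)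
    rw [Nat.odd_iff]
    rcases hk with rfl | rfl <;> omega
  obtain ⟨U, hUcyc, hUc, hUcent, hUN⟩ := S0333.result hm hF k hk
  obtain ⟨c0, hc0⟩ := exists_prime_orderOf_dvd_card' (G := U) 5 (hUc.symm ▸ hk5)
  set c : Cfsg.Sz F m := Subtype.val c0 with hcdef
  have hco : orderOf c = 5 := (Subgroup.orderOf_coe c0).trans hc0
  have hc1 : c ≠ 1 := fun h => by rw [h, orderOf_one] at hco; omega
  set M := normalizer (U : Set (Cfsg.Sz F m)) with hM
  obtain ⟨A⟩ : Nonempty (Sylow 2 M) := inferInstance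
  have hA4 : Nat.card (A : Subgroup M) = 4 := by
    simpa using SmallGroups.card_sylow_eq (p := 2) (a := 2) (m := k) (by rw [hUN]; norm_num)
      (Nat.two_dvd_ne_zero.2 (Nat.odd_iff.1 hkodd)) A
  -- the exponent of the action
  have hexp : ∀ a : (A : Subgroup M), ∃ i : ℕ, i < 5 ∧
      ((a : M) : Cfsg.Sz F m) * c * ((a : M) : Cfsg.Sz F m)⁻¹ = c ^ i := by
    intro a
    have hmem : ((a : M) : Cfsg.Sz F m) * c * ((a : M) : Cfsg.Sz F m)⁻¹ ∈ U :=
      (mem_normalizer_iff.1 (a : M).2 c).1 c0.2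
    set d : U := ⟨_, hmem⟩ with hd
    have hdo : orderOf d = 5 := by
      rw [← Subgroup.orderOf_coe, hd]
      exact (MulEquiv.orderOf_eq (MulAut.conj ((a : M) : Cfsg.Sz F m)) c).trans hco
    haveI := hUcyc
    have hz : zpowers d = zpowers c0 := cyclic_subgroup_eq (by
      rw [Nat.card_zpowers, Nat.card_zpowers, hdo, hc0])
    obtain ⟨j, hj⟩ := mem_powers_iff_mem_zpowers.2 (hz ▸ mem_zpowers d : d ∈ zpowers c0)
    refine ⟨j % 5, Nat.mod_lt _ (by norm_num), ?_⟩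
    rw [← hco, pow_mod_orderOf]
    exact (congrArg Subtype.val hj).symm
  have hfix : ∀ a : (A : Subgroup M),
      ((a : M) : Cfsg.Sz F m) * c * ((a : M) : Cfsg.Sz F m)⁻¹ = c → a = 1 := by
    intro a ha
    have h1 : ((a : M) : Cfsg.Sz F m) ∈ U := by
      rw [← hUcent c c0.2 hc1]
      exact mem_centralizer_singleton_iff.2 (mul_inv_eq_iff_eq_mul.1 ha)
    obtain ⟨j, hj⟩ := A.2 a
    refine Subtype.ext (Subtype.ext (orderOf_eq_one_iff.1 (Nat.eq_one_of_dvd_coprimes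
      ((Nat.coprime_two_left.2 hkodd).pow_left j) ?_ (hUc ▸ Subgroup.orderOf_dvd_natCard U h1))))
    exact orderOf_dvd_of_pow_eq_one
      (congrArg (fun x : (A : Subgroup M) => ((x : M) : Cfsg.Sz F m)) hj)
  have ha4 : ∀ a : (A : Subgroup M), ((a : M) : Cfsg.Sz F m) ^ 4 = 1 := fun a =>
    congrArg (fun x : (A : Subgroup M) => ((x : M) : Cfsg.Sz F m))
      (orderOf_dvd_iff_pow_eq_one.1 ((orderOf_dvd_natCard a).trans (dvd_of_eq hA4)))
  -- some element acts as a power of order four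
  obtain ⟨a, ha⟩ : ∃ a : (A : Subgroup M), ∃ i, (i = 2 ∨ i = 3) ∧
      ((a : M) : Cfsg.Sz F m) * c * ((a : M) : Cfsg.Sz F m)⁻¹ = c ^ i := by
    by_contra hno
    push Not at hno
    have h4 : ∀ a : (A : Subgroup M), a ≠ 1 →
        ((a : M) : Cfsg.Sz F m) * c * ((a : M) : Cfsg.Sz F m)⁻¹ = c ^ 4 := by
      intro a ha1
      obtain ⟨i, hi, hie⟩ := hexp a
      interval_cases i
      · exact absurd (conj_eq_one_iff.1 (hie.trans (pow_zero c))) hc1
      · exact absurd (hfix a (by simpa using hie)) ha1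
      · exact absurd hie (hno a 2 (Or.inl rfl))
      · exact absurd hie (hno a 3 (Or.inr rfl))
      · exact hie
    haveI : Nontrivial (A : Subgroup M) := Finite.one_lt_card_iff_nontrivial.1 (by omega)
    obtain ⟨a, ha1⟩ := exists_ne (1 : (A : Subgroup M))
    have hall : ∀ b : (A : Subgroup M), b = 1 ∨ b = a := by
      intro b
      refine or_iff_not_imp_left.2 fun hb1 => (inv_mul_eq_one.1 (hfix (a⁻¹ * b) ?_)).symm
      have e1 := h4 a ha1
      have e2 := h4 b hb1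
      simp only [Subgroup.coe_mul, Subgroup.coe_inv]
      calc ((a : M) : Cfsg.Sz F m)⁻¹ * ((b : M) : Cfsg.Sz F m) * c *
            (((a : M) : Cfsg.Sz F m)⁻¹ * ((b : M) : Cfsg.Sz F m))⁻¹
          = ((a : M) : Cfsg.Sz F m)⁻¹ * (((b : M) : Cfsg.Sz F m) * c *
              ((b : M) : Cfsg.Sz F m)⁻¹) * ((a : M) : Cfsg.Sz F m) := by group
        _ = c := by rw [e2, ← e1]; group
    have hle : Nat.card (A : Subgroup M) ≤ 2 := by
      refine le_trans (Nat.card_le_card_of_surjective (fun b : Bool => if b then a else 1) ?_)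
        (by simp)
      intro b
      rcases hall b with rfl | rfl
      exacts [⟨false, rfl⟩, ⟨true, rfl⟩]
    omega
  obtain ⟨i, rfl | rfl, hie⟩ := ha
  · exact ⟨_, c, hco, ha4 a, hie⟩
  · refine ⟨((a : M) : Cfsg.Sz F m)⁻¹, c, hco, by rw [inv_pow, ha4 a, inv_one], ?_⟩
    set y := ((a : M) : Cfsg.Sz F m) with hy
    have h1 : y * c ^ 2 * y⁻¹ = c := by
      rw [← conj_pow, hie, ← pow_mul, show 3 * 2 = 5 + 1 by norm_num, pow_succ, ← hco,
        pow_orderOf_eq_one, one_mul]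
    calc y⁻¹ * c * y⁻¹⁻¹ = y⁻¹ * (y * c ^ 2 * y⁻¹) * y⁻¹⁻¹ := by rw [h1]
      _ = c ^ 2 := by group

/-- With a nontrivial normal `2`-subgroup only `PSL(2, 2 ^ n)` is left. -/
theorem radical_case {G : Type u} [Group G] [Finite G] (hcit : IsCIT G)
    (hexp : ∀ x : G, 2 ∣ orderOf x → orderOf x = 2 ∨ orderOf x = 4) (R : Subgroup G) [R.Normal]
    (hR : IsPGroup 2 R) (hne : R ≠ ⊥) (hlist : SocleList (G ⧸ R)) :
    ∃ (F : Type) (_ : Field F) (_ : Fintype F) (n : ℕ), 2 ≤ n ∧ Fintype.card F = 2 ^ n ∧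
      Nonempty (G ⧸ R ≃* Matrix.ProjectiveSpecialLinearGroup (Fin 2) F) := by
  obtain ⟨V, iV, φ, hfin, hnt, hV, hfpf, hid⟩ := exists_module hcit hexp R hR hne
  haveI := hfin
  haveI := hnt
  rcases hlist with h | ⟨F, iF, iT, h79, ⟨e⟩⟩ | ⟨F, iF, iT, hF, ⟨e⟩⟩ |
      ⟨F, iF, iT, m, hm, hF, ⟨e⟩⟩
  · exact h
  · exfalso
    refine CIT.psl_odd_no_fpf ?_ (by omega) e hV hfpf
    rcases h79 with h | h
    · exact Or.inr (by rw [h]; norm_num)
    · exact Or.inl h
  · exact (CIT.PlaneL34.no_fpf hF e hV hfpf).elim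
  · exfalso
    obtain ⟨a, c, hc, ha, hac⟩ := sz_twenty hm hF
    refine no_module_twenty hV hfpf (a := e.symm a) (c := e.symm c)
      ((MulEquiv.orderOf_eq e.symm c).trans hc)
      (by rw [← map_inv, ← map_mul, ← map_mul, ← map_pow, hac]) (hid _ ?_)
    rw [← map_pow, ha, map_one]

end Cfsg.Agent.Three68
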