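import Cfsg.Agent.Three68.Centralizer
import Cfsg.Agent.Lib.PGroup.Basic

/-!
# Sylow `2`-subgroup a four group: maximal invariant `q`-subgroups
-/

set_option autoImplicit false
set_option linter.style.haveILetI false

namespace Cfsg.Agent.Three68

open Subgroup

universe u

variable {G : Type u} [Group G] [Finite G] {q : ℕ}

/-- An `S`-invariant `q`-subgroup. -/
def Inv (q : ℕ) (S : Sylow 2 G) (R : Subgroup G) : Prop :=
  IsPGroup q R ∧ (S : Subgroup G) ≤ normalizer (R : Set G)

/-- `C(t)` for an involution of `S`. -/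
local notation "C[" t "]" => centralizer ({t} : Set G)

omit [Finite G] in
theorem exists_order_q (hq : q.Prime) {D : Subgroup G} (hD : IsPGroup q D) (hne : D ≠ ⊥)
    (h : EdgeB G q) : ∃ y ∈ D, orderOf y = q := by
  haveI := Fact.mk hq
  obtain ⟨⟨y, hy⟩, hy1⟩ := Subgroup.ne_bot_iff_exists_ne_one.1 hne
  obtain ⟨k, hk⟩ := IsPGroup.iff_orderOf.1 hD ⟨y, hy⟩
  rw [Subgroup.orderOf_mk] at hk
  refine ⟨y, hy, orderOf_eq_prime (h.q_pow hk) fun e => hy1 (Subtype.ext e)⟩

/-- The normalizer of an invariant `q`-subgroup is solvable. -/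
theorem solvable_normalizer (h : EdgeB G q) (S : Sylow 2 G)
    (hS4 : Nat.card (S : Subgroup G) = 4) {D : Subgroup G} (hD : Inv q S D) (hne : D ≠ ⊥) :
    Group.IsSolvable (normalizer (D : Set G)) := by
  haveI : Fact (Nat.Prime 2) := ⟨Nat.prime_two⟩
  by_contra hns
  set L := normalizer (D : Set G) with hL
  obtain ⟨a, haL, hao, haS, hafix⟩ := h.exists_three S hS4 hD.2 hns
  have hSC : (S : Subgroup G) ≤ centralizer (D : Set G) :=
    h.centralizes S.2 Nat.prime_three hao haS hafix hD.1 hD.2 haL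
  obtain ⟨y, hy, hyo⟩ := exists_order_q h.prime hD.1 hne h
  set K := (centralizer (D : Set G)).subgroupOf L with hK
  haveI : K.Normal := by
    rw [hK, hL, ← normalizerMonoidHom_ker]
    infer_instance
  have hKs : Group.IsSolvable K := by
    have h1 : Group.IsSolvable (centralizer (D : Set G)) :=
      h.solvable_of_pow _ fun x hx => h.commute_q hyo (mem_centralizer_iff.1 hx y hy)
    haveI := h1
    exact Group.isSolvable_of_isSolvable_injective
      (f := (L.subtype.comp K.subtype).codRestrict (centralizer (D : Set G)) fun x => x.2)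
      fun a b e => Subtype.ext (Subtype.ext (congrArg Subtype.val e :))
  have hodd : Odd (Nat.card (L ⧸ K)) := by
    rw [← Subgroup.index_eq_card]
    refine (Nat.odd_iff.2 (Nat.two_dvd_ne_zero.1
      (S.subtype hD.2).not_dvd_index)).of_dvd_nat ?_
    exact Subgroup.index_dvd_of_le fun x hx => hSC hx
  haveI : Group.IsSolvable (L ⧸ K) := PF14.feitThompson.{u} (L ⧸ K) hodd
  exact hns (Group.isSolvable_of_ker_le_range K.subtype (QuotientGroup.mk' K)
    (by rw [range_subtype, QuotientGroup.ker_mk']))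

omit [Finite G] in
theorem isPGroup_odd (hq : q.Prime) (hq2 : q ≠ 2) {R : Subgroup G} (hR : IsPGroup q R) [Finite R] :
    Odd (Nat.card R) := by
  haveI := Fact.mk hq
  obtain ⟨n, hn⟩ := hR.exists_card_eq
  rw [hn]
  exact (hq.odd_of_ne_two hq2).pow

/-- Two maximal invariant `q`-subgroups with nontrivial intersection, both containing the elements
of odd order centralizing `S`, are equal. -/
theorem maximal_eq (h : EdgeB G q) (S : Sylow 2 G) (hS4 : Nat.card (S : Subgroup G) = 4) :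
    ∀ (n : ℕ) (R₁ R₂ : Subgroup G), Maximal (Inv q S) R₁ → Maximal (Inv q S) R₂ →
      (∀ c ∈ centralizer ((S : Subgroup G) : Set G), Odd (orderOf c) → c ∈ R₁ ∧ c ∈ R₂) →
      R₁ ⊓ R₂ ≠ ⊥ → Nat.card G - Nat.card (R₁ ⊓ R₂ : Subgroup G) = n → R₁ = R₂ := by
  haveI := Fact.mk h.prime
  haveI : Fact (Nat.Prime 2) := ⟨Nat.prime_two⟩
  intro n
  induction n using Nat.strong_induction_on with
  | _ n IH =>
  intro R₁ R₂ h₁ h₂ hY hne hn
  by_contra hne12
  set D := R₁ ⊓ R₂ with hDdef
  have hD : Inv q S D :=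
    ⟨h₁.1.1.to_le inf_le_left, Coprime.le_normalizer_inf h₁.1.2 h₂.1.2⟩
  haveI := solvable_normalizer h S hS4 hD hne
  set L := normalizer (D : Set G) with hL
  have grow : ∀ R : Subgroup G, IsPGroup q R → D < R → D < R ⊓ L := by
    intro R hR hlt
    refine lt_of_le_of_ne (le_inf hlt.le Subgroup.le_normalizer) fun e => ?_
    have htop : D.subgroupOf R ≠ ⊤ := fun h' => hlt.not_ge (subgroupOf_eq_top.1 h')
    obtain ⟨x, hx, hxD⟩ := SetLike.exists_of_lt (PGroup.lt_normalizer hR htop)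
    apply hxD
    rw [mem_subgroupOf, e]
    refine ⟨x.2, mem_normalizer_iff.2 fun y => ⟨fun hy => ?_, fun hy => ?_⟩⟩
    · exact (mem_normalizer_iff.1 hx ⟨y, hlt.le hy⟩).1 hy
    · have hyR : y ∈ R := by
        have := R.mul_mem (R.mul_mem (R.inv_mem x.2) (hlt.le hy)) x.2
        simpa [mul_assoc] using this
      exact (mem_normalizer_iff.1 hx ⟨y, hyR⟩).2 hy
  have hlt1 : D < R₁ := lt_of_le_of_ne inf_le_left fun e =>
    hne12 ((h₁.eq_of_le h₂.1 (e ▸ (inf_le_right : R₁ ⊓ R₂ ≤ R₂))))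
  have hlt2 : D < R₂ := lt_of_le_of_ne inf_le_right fun e =>
    hne12 ((h₂.eq_of_le h₁.1 (e ▸ (inf_le_left : R₁ ⊓ R₂ ≤ R₁))).symm)
  have hSL : (S : Subgroup G) ≤ L := hD.2
  set K := core L with hK
  have hKodd := core_odd L
  have hSK : (S : Subgroup G) ≤ normalizer (K : Set G) := hSL.trans (le_normalizer_core L)
  have hcop : (Nat.card (S : Subgroup G)).Coprime (Nat.card K) := by
    rw [hS4]; exact (Nat.coprime_two_left.2 hKodd).pow_left 2
  have hsolS : Group.IsSolvable (S : Subgroup G) := by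
    haveI := S.2.isNilpotent; infer_instance
  have hin : ∀ R, Inv q S R → R ⊓ L ≤ K := fun R hR => by
    refine h.le_core S hSL inf_le_right (isPGroup_odd h.prime h.ne_two (hR.1.to_le inf_le_left)) ?_
    exact Coprime.le_normalizer_inf hR.2 (Coprime.le_normalizer_normalizer hD.2)
  have hinv : ∀ R, Inv q S R → (S : Subgroup G) ≤ normalizer ((R ⊓ L : Subgroup G) : Set G) :=
    fun R hR => Coprime.le_normalizer_inf hR.2 (Coprime.le_normalizer_normalizer hD.2)
  obtain ⟨Q₁, hQ₁, hQ₁S⟩ := Coprime.exists_invariant_sylow_ge (S : Subgroup G) K hSK hcop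
    (Or.inl hsolS) q (R₁ ⊓ L) (hin R₁ h₁.1) (h₁.1.1.to_le inf_le_left) (hinv R₁ h₁.1)
  obtain ⟨Q₂, hQ₂, hQ₂S⟩ := Coprime.exists_invariant_sylow_ge (S : Subgroup G) K hSK hcop
    (Or.inl hsolS) q (R₂ ⊓ L) (hin R₂ h₂.1) (h₂.1.1.to_le inf_le_left) (hinv R₂ h₂.1)
  obtain ⟨c, hc, hcQ⟩ := Coprime.exists_invariant_sylow_conj (S : Subgroup G) K hSK hcop
    (Or.inl hsolS) q Q₂ Q₁ hQ₂S hQ₁S
  have hcR : (c : G) ∈ R₂ ⊓ L := ⟨(hY c hc (orderOf_odd_of_mem hKodd c.2)).2, core_le L c.2⟩
  set V := (Q₁ : Subgroup K).map K.subtype with hV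
  have hR₂V : R₂ ⊓ L ≤ V := by
    intro x hx
    have hx' : (c : G)⁻¹ * x * c ∈ R₂ ⊓ L := mul_mem (mul_mem (inv_mem hcR) hx) hcR
    obtain ⟨w, hw, hwe⟩ := hQ₂ hx'
    refine ⟨c * w * c⁻¹, ?_, ?_⟩
    · rw [← hcQ, Sylow.coe_subgroup_smul]
      exact ⟨w, hw, by simp⟩
    · simp only [coe_subtype] at hwe ⊢
      simp [hwe, mul_assoc]
  have hVinv : Inv q S V := ⟨Q₁.2.map _, hQ₁S⟩
  obtain ⟨R₃, hVR₃, hR₃⟩ := Finite.exists_le_maximal hVinv
  have hlt1' := grow R₁ h₁.1.1 hlt1
  have hlt2' := grow R₂ h₂.1.1 hlt2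
  have hY3 : ∀ R : Subgroup G, (∀ c ∈ centralizer ((S : Subgroup G) : Set G), Odd (orderOf c) → c ∈ R) →
      ∀ c ∈ centralizer ((S : Subgroup G) : Set G), Odd (orderOf c) → c ∈ R ∧ c ∈ R₃ := by
    intro R hR c hc ho
    refine ⟨hR c hc ho, ?_⟩
    -- `c` lies in `R₁ ⊓ R₂ ≤ R₁ ⊓ L ≤ R₃`
    have hcD : c ∈ D := Subgroup.mem_inf.2 ⟨(hY c hc ho).1, (hY c hc ho).2⟩
    have hle : D ≤ R₁ ⊓ L := hlt1'.le
    exact hVR₃ (hQ₁ (hle hcD))
  have e1 : R₁ = R₃ := by
    refine IH _ ?_ R₁ R₃ h₁ hR₃ (hY3 R₁ fun c hc ho => (hY c hc ho).1) ?_ rfl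
    · have hle : R₁ ⊓ L ≤ R₁ ⊓ R₃ := le_inf inf_le_left (hQ₁.trans hVR₃)
      have h1 : Nat.card D < Nat.card (R₁ ⊓ L : Subgroup G) :=
        lt_of_not_ge fun hge => hlt1'.ne (eq_of_le_of_card_ge hlt1'.le hge)
      have h2 := Subgroup.card_le_of_le hle
      have h3 := Subgroup.card_le_card_group (R₁ ⊓ R₃)
      rw [← hn]; omega
    · exact fun e => hne (le_bot_iff.1 (e ▸ hlt1'.le.trans
        (le_inf inf_le_left (hQ₁.trans hVR₃))))
  have e2 : R₂ = R₃ := by
    refine IH _ ?_ R₂ R₃ h₂ hR₃ (hY3 R₂ fun c hc ho => (hY c hc ho).2) ?_ rfl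
    · have hle : R₂ ⊓ L ≤ R₂ ⊓ R₃ := le_inf inf_le_left (hR₂V.trans hVR₃)
      have h1 : Nat.card D < Nat.card (R₂ ⊓ L : Subgroup G) :=
        lt_of_not_ge fun hge => hlt2'.ne (eq_of_le_of_card_ge hlt2'.le hge)
      have h2 := Subgroup.card_le_of_le hle
      have h3 := Subgroup.card_le_card_group (R₂ ⊓ R₃)
      rw [← hn]; omega
    · exact fun e => hne (le_bot_iff.1 (e ▸ hlt2'.le.trans
        (le_inf inf_le_left (hR₂V.trans hVR₃))))
  exact hne12 (e1.trans e2.symm)

theorem core_inv (h : EdgeB G q) (S : Sylow 2 G) {t : G} (ht : t ∈ (S : Subgroup G))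
    (ht1 : t ≠ 1) : Inv q S (core C[t]) :=
  ⟨h.core_centralizer_isPGroup (h.sylow_involution ht ht1),
    (h.sylow_le_centralizer ht).trans (le_normalizer_core _)⟩

theorem inf_centralizer_le_core (h : EdgeB G q) (S : Sylow 2 G) {R : Subgroup G} (hR : Inv q S R)
    {t : G} (ht : t ∈ (S : Subgroup G)) (ht1 : t ≠ 1) : R ⊓ C[t] ≤ core C[t] := by
  haveI := h.solvable_centralizer (Or.inl (h.sylow_involution ht ht1))
  exact h.le_core S (h.sylow_le_centralizer ht) inf_le_right
    (isPGroup_odd h.prime h.ne_two (hR.1.to_le inf_le_left))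
    (Coprime.le_normalizer_inf hR.2 ((h.sylow_le_centralizer ht).trans Subgroup.le_normalizer))

/-- Conjugating a core by an element of `N(S)`. -/
theorem map_core_le (h : EdgeB G q) (S : Sylow 2 G) {t a : G}
    (ha : a ∈ normalizer ((S : Subgroup G) : Set G)) (ht : t ∈ (S : Subgroup G)) (ht1 : t ≠ 1) :
    (core C[t]).map (MulAut.conj a).toMonoidHom ≤ core C[a * t * a⁻¹] := by
  have h' : a * t * a⁻¹ ∈ (S : Subgroup G) := (mem_normalizer_iff.1 ha t).1 ht
  haveI := h.solvable_centralizer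
    (Or.inl (h.sylow_involution h' fun e => ht1 (conj_eq_one_iff.1 e)))
  refine h.le_core S (h.sylow_le_centralizer h') ?_ ?_ ?_
  · rintro _ ⟨x, hx, rfl⟩
    have hc := mem_centralizer_singleton_iff.1 (core_le _ hx)
    refine mem_centralizer_singleton_iff.2 ?_
    simp only [MulEquiv.coe_toMonoidHom, MulAut.conj_apply]
    calc a * x * a⁻¹ * (a * t * a⁻¹) = a * (x * t) * a⁻¹ := by group
      _ = a * (t * x) * a⁻¹ := by rw [hc]
      _ = _ := by group
  · rw [Subgroup.card_map_of_injective (MulAut.conj a).injective]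
    exact core_odd _
  · intro s hs
    refine Coprime.le_normalizer_of_conj_mem (A := (S : Subgroup G)) ?_ hs
    rintro b hb _ ⟨x, hx, rfl⟩
    have hb' : a⁻¹ * b * a ∈ (S : Subgroup G) := by
      have := (mem_normalizer_iff.1 (inv_mem ha) b).1 hb
      rwa [inv_inv] at this
    refine ⟨a⁻¹ * b * a * x * (a⁻¹ * b * a)⁻¹,
      (mem_normalizer_iff.1 ((core_inv h S ht ht1).2 hb') x).1 hx, ?_⟩
    simp only [MulEquiv.coe_toMonoidHom, MulAut.conj_apply]
    group

omit [Finite G] in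
theorem conj_inv (S : Sylow 2 G) {a : G} (ha : a ∈ normalizer ((S : Subgroup G) : Set G))
    {R : Subgroup G} (hR : Inv q S R) : Inv q S (R.map (MulAut.conj a).toMonoidHom) := by
  refine ⟨hR.1.map _, Coprime.le_normalizer_of_conj_mem ?_⟩
  rintro b hb _ ⟨x, hx, rfl⟩
  have hb' : a⁻¹ * b * a ∈ (S : Subgroup G) := by
    have := (mem_normalizer_iff.1 (inv_mem ha) b).1 hb
    rwa [inv_inv] at this
  refine ⟨a⁻¹ * b * a * x * (a⁻¹ * b * a)⁻¹, (mem_normalizer_iff.1 (hR.2 hb') x).1 hx, ?_⟩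
  simp only [MulEquiv.coe_toMonoidHom, MulAut.conj_apply]
  group

omit [Finite G] in
theorem conj_maximal (S : Sylow 2 G) {a : G} (ha : a ∈ normalizer ((S : Subgroup G) : Set G))
    {R : Subgroup G} (hR : Maximal (Inv q S) R) :
    Maximal (Inv q S) (R.map (MulAut.conj a).toMonoidHom) := by
  refine ⟨conj_inv S ha hR.1, fun R' hR' hle x hx => ?_⟩
  have h1 : R ≤ R'.map (MulAut.conj a⁻¹).toMonoidHom := fun y hy =>
    ⟨_, hle ⟨y, hy, rfl⟩, by simp [MulAut.conj_apply, mul_assoc]⟩
  have h2 : a⁻¹ * x * a ∈ R :=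
    hR.2 (conj_inv S (inv_mem ha) hR') h1 ⟨x, hx, by simp [MulAut.conj_apply]⟩
  exact ⟨_, h2, by simp [MulAut.conj_apply, mul_assoc]⟩

omit [Finite G] in
/-- An element of `N(S)` fixing a maximal invariant subgroup in the conjugation action. -/
theorem mem_normalizer_of_map {R : Subgroup G} {a : G}
    (hR : R.map (MulAut.conj a).toMonoidHom = R) : a ∈ normalizer (R : Set G) :=
  mem_normalizer_iff_map_conj_eq.2 hR

omit [Finite G] in
/-- An involution acting without fixed points inverts. -/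
theorem inverts_of_fixedPointFree {O : Subgroup G} [Finite O] {s : G} (hs : s * s = 1)
    (hsO : s ∈ normalizer (O : Set G)) (hfix : ∀ y ∈ O, Commute s y → y = 1) :
    ∀ y ∈ O, s * y * s⁻¹ = y⁻¹ := by
  intro y hy
  have hsi : s⁻¹ = s := inv_eq_of_mul_eq_one_right hs
  let f : O → O := fun z => z⁻¹ * ⟨s * z * s⁻¹, (mem_normalizer_iff.1 hsO z).1 z.2⟩
  have hf : Function.Injective f := by
    intro z w e
    have e' : (z : G)⁻¹ * (s * z * s⁻¹) = (w : G)⁻¹ * (s * w * s⁻¹) := congrArg Subtype.val e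
    have hc : Commute s ((w : G) * (z : G)⁻¹) := by
      refine mul_inv_eq_iff_eq_mul.1 ?_
      calc s * ((w : G) * (z : G)⁻¹) * s⁻¹ = s * w * s⁻¹ * (s * z * s⁻¹)⁻¹ := by group
        _ = w * ((w : G)⁻¹ * (s * w * s⁻¹)) * (s * z * s⁻¹)⁻¹ := by group
        _ = w * ((z : G)⁻¹ * (s * z * s⁻¹)) * (s * z * s⁻¹)⁻¹ := by rw [e']
        _ = w * (z : G)⁻¹ := by group
    exact Subtype.ext (mul_inv_eq_one.1 (hfix _ (mul_mem w.2 (inv_mem z.2)) hc)).symm
  obtain ⟨z, hz⟩ := (Finite.injective_iff_surjective.1 hf) ⟨y, hy⟩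
  have hz' : (z : G)⁻¹ * (s * z * s⁻¹) = y := congrArg Subtype.val hz
  rw [hsi] at hz' ⊢
  rw [← hz']
  calc s * ((z : G)⁻¹ * (s * z * s)) * s = s * (z : G)⁻¹ * s * z * (s * s) := by group
    _ = s * (z : G)⁻¹ * s * z := by rw [hs, mul_one]
    _ = s⁻¹ * (z : G)⁻¹ * s⁻¹ * z := by rw [hsi]
    _ = ((z : G)⁻¹ * (s * z * s))⁻¹ := by group

/-- The rank two dichotomy. -/
theorem rank_two (h : EdgeB G q) (S : Sylow 2 G) (hS4 : Nat.card (S : Subgroup G) = 4)
    (hns : ¬ Group.IsSolvable G) :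
    (∀ t ∈ (S : Subgroup G), t ≠ 1 →
      centralizer ({t} : Set G) ≤ normalizer ((S : Subgroup G) : Set G)) ∨
    ((∀ c ∈ centralizer ((S : Subgroup G) : Set G), Odd (orderOf c) → c = 1) ∧
      (∀ t ∈ (S : Subgroup G), t ≠ 1 → ∀ s ∈ (S : Subgroup G), s ≠ 1 → s ≠ t →
        ∀ y ∈ core (centralizer ({t} : Set G)), s * y * s⁻¹ = y⁻¹) ∧
      ∀ t ∈ (S : Subgroup G), t ≠ 1 → ∀ Y ≤ core (centralizer ({t} : Set G)), Y ≠ ⊥ →
        normalizer (Y : Set G) ≤ centralizer ({t} : Set G)) := by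
  haveI : Fact (Nat.Prime 2) := ⟨Nat.prime_two⟩
  haveI := Fact.mk h.prime
  obtain ⟨a, -, hao, haS, hafix⟩ := h.exists_three S hS4 le_top fun hT =>
    hns (Group.isSolvable_of_surjective (f := (⊤ : Subgroup G).subtype)
      fun g => ⟨⟨g, mem_top g⟩, rfl⟩)
  have hcent : ∀ R, Inv q S R → a ∈ normalizer (R : Set G) →
      (S : Subgroup G) ≤ centralizer (R : Set G) := fun R hR haR =>
    h.centralizes S.2 Nat.prime_three hao haS hafix hR.1 hR.2 haR
  by_cases hY : ∀ c ∈ centralizer ((S : Subgroup G) : Set G), Odd (orderOf c) → c = 1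
  swap
  · -- some element of odd order centralizes `S`
    left
    push Not at hY
    obtain ⟨c, hcS, hco, hc1⟩ := hY
    intro t ht ht1
    obtain ⟨R, htR, hR⟩ := Finite.exists_le_maximal (core_inv h S ht ht1)
    have hYR : ∀ d ∈ centralizer ((S : Subgroup G) : Set G), Odd (orderOf d) → d ∈ R :=
      fun d hd ho => htR (h.mem_core_of_centralize S ht ht1 hd ho)
    have hR' := conj_maximal S haS hR
    have hYR' : ∀ d ∈ centralizer ((S : Subgroup G) : Set G), Odd (orderOf d) →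
        d ∈ R.map (MulAut.conj a).toMonoidHom := by
      intro d hd ho
      refine ⟨a⁻¹ * d * a, hYR _ (mem_centralizer_iff.2 fun s hs => ?_) ?_,
        by simp [MulAut.conj_apply, mul_assoc]⟩
      · have hs' : a * s * a⁻¹ ∈ (S : Subgroup G) := (mem_normalizer_iff.1 haS s).1 hs
        have := mem_centralizer_iff.1 hd _ hs'
        calc s * (a⁻¹ * d * a) = a⁻¹ * (a * s * a⁻¹ * d) * a := by group
          _ = a⁻¹ * (d * (a * s * a⁻¹)) * a := by rw [this]
          _ = _ := by group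
      · have : orderOf (a⁻¹ * d * a) = orderOf d := by
          simpa [MulAut.conj_apply] using
            orderOf_injective (MulAut.conj a⁻¹).toMonoidHom (MulAut.conj a⁻¹).injective d
        rwa [this]
    have hne : R.map (MulAut.conj a).toMonoidHom ⊓ R ≠ ⊥ := fun e =>
      hc1 (by
        have : c ∈ R.map (MulAut.conj a).toMonoidHom ⊓ R := ⟨hYR' c hcS hco, hYR c hcS hco⟩
        rwa [e, mem_bot] at this)
    have heq := maximal_eq h S hS4 _ _ R hR' hR (fun d hd ho => ⟨hYR' d hd ho, hYR d hd ho⟩) hne rfl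
    have hSR := hcent R hR.1 (mem_normalizer_of_map heq)
    haveI := h.solvable_centralizer (Or.inl (h.sylow_involution ht ht1))
    refine (h.le_core_sup S (h.sylow_le_centralizer ht)).trans (sup_le ?_ inf_le_left)
    refine fun x hx => (centralizer_le_normalizer ((S : Subgroup G) : Set G))
      (mem_centralizer_iff.2 fun s hs => ?_)
    exact ((mem_centralizer_iff.1 (hSR hs)) x (htR hx)).symm
  -- no element of odd order centralizes `S`
  right
  have hY' : ∀ R₁ R₂ : Subgroup G, ∀ c ∈ centralizer ((S : Subgroup G) : Set G),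
      Odd (orderOf c) → c ∈ R₁ ∧ c ∈ R₂ := fun R₁ R₂ c hc ho => by
    rw [hY c hc ho]; exact ⟨one_mem _, one_mem _⟩
  have uniq : ∀ R₁ R₂, Maximal (Inv q S) R₁ → Maximal (Inv q S) R₂ → R₁ ⊓ R₂ ≠ ⊥ → R₁ = R₂ :=
    fun R₁ R₂ h₁ h₂ hne => maximal_eq h S hS4 _ R₁ R₂ h₁ h₂ (hY' R₁ R₂) hne rfl
  haveI : Nontrivial (S : Subgroup G) := Finite.one_lt_card_iff_nontrivial.1 (by omega)
  haveI : IsKleinFour (S : Subgroup G) :=
    ⟨by rw [hS4], Monoid.exponent_eq_prime_iff Nat.prime_two |>.2 fun v hv => by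
      refine orderOf_two (Subtype.ext ?_) hv
      exact h.two_group_sq S.2 v v.2⟩
  -- a maximal subgroup over `O(C t)` has no other fixed points
  have free : ∀ t ∈ (S : Subgroup G), t ≠ 1 → ∀ R, Maximal (Inv q S) R → core C[t] ≤ R →
      ∀ s ∈ (S : Subgroup G), s ≠ 1 → s ≠ t → R ⊓ C[s] = ⊥ := by
    intro t ht ht1 R hR htR s hs hs1 hst
    by_contra hX
    have hsR : core C[s] ≤ R := by
      obtain ⟨R', hsR', hR'⟩ := Finite.exists_le_maximal (core_inv h S hs hs1)
      rwa [uniq R R' hR hR' fun e => hX (le_bot_iff.1 (e ▸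
        le_inf inf_le_left ((inf_centralizer_le_core h S hR.1 hs hs1).trans hsR')))]
    -- some element of order three carries `t` to `s`
    obtain ⟨b, hbS, hbfix, hbt⟩ : ∃ b ∈ normalizer ((S : Subgroup G) : Set G),
        (∀ v ∈ (S : Subgroup G), Commute b v → v = 1) ∧ b * t * b⁻¹ = s ∧
          (b = a ∨ b = a⁻¹) := by
      by_cases hat : a * t * a⁻¹ = s
      · exact ⟨a, haS, hafix, hat, Or.inl rfl⟩
      refine ⟨a⁻¹, inv_mem haS, fun v hv hc => hafix v hv (by simpa using hc.inv_left), ?_, Or.inr rfl⟩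
      have h1 : a * t * a⁻¹ ∈ (S : Subgroup G) := (mem_normalizer_iff.1 haS t).1 ht
      have h2 : a * t * a⁻¹ ≠ 1 := fun e => ht1 (conj_eq_one_iff.1 e)
      have h3 : a * t * a⁻¹ ≠ t := fun e => ht1 (hafix t ht (mul_inv_eq_iff_eq_mul.1 e))
      have h4 : a * s * a⁻¹ ∈ (S : Subgroup G) := (mem_normalizer_iff.1 haS s).1 hs
      have h5 : a * s * a⁻¹ ≠ 1 := fun e => hs1 (conj_eq_one_iff.1 e)
      have h6 : a * s * a⁻¹ ≠ s := fun e => hs1 (hafix s hs (mul_inv_eq_iff_eq_mul.1 e))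
      have e1 := IsKleinFour.eq_mul_of_ne_all (x := (⟨t, ht⟩ : (S : Subgroup G))) (y := ⟨s, hs⟩)
        (z := ⟨_, h1⟩) (fun e => ht1 (congrArg Subtype.val e)) (fun e => hs1 (congrArg Subtype.val e))
        (fun e => hst (congrArg Subtype.val e).symm) (fun e => h2 (congrArg Subtype.val e))
        (fun e => h3 (congrArg Subtype.val e)) (fun e => hat (congrArg Subtype.val e))
      rw [inv_inv]
      suffices a * s * a⁻¹ = t by rw [← this]; group
      by_contra h7
      have e2 := IsKleinFour.eq_mul_of_ne_all (x := (⟨t, ht⟩ : (S : Subgroup G))) (y := ⟨s, hs⟩)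
        (z := ⟨_, h4⟩) (fun e => ht1 (congrArg Subtype.val e)) (fun e => hs1 (congrArg Subtype.val e))
        (fun e => hst (congrArg Subtype.val e).symm) (fun e => h5 (congrArg Subtype.val e))
        (fun e => h7 (congrArg Subtype.val e)) (fun e => h6 (congrArg Subtype.val e))
      exact hst (mul_left_cancel (mul_right_cancel
        (congrArg Subtype.val (e2.trans e1.symm))))
    obtain ⟨hbt, hba⟩ := hbt
    have htne : core C[t] ≠ ⊥ := by
      intro e
      apply hX
      refine le_bot_iff.1 ((inf_centralizer_le_core h S hR.1 hs hs1).trans fun x hx => ?_)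
      have h1 : b⁻¹ * x * b ∈ core C[b⁻¹ * s * (b⁻¹)⁻¹] :=
        map_core_le h S (inv_mem hbS) hs hs1 ⟨x, hx, by simp [MulAut.conj_apply]⟩
      rw [← hbt, show b⁻¹ * (b * t * b⁻¹) * (b⁻¹)⁻¹ = t by group, e, mem_bot] at h1
      rw [mem_bot]
      calc x = b * (b⁻¹ * x * b) * b⁻¹ := by group
        _ = 1 := by rw [h1]; group
    have hle : (core C[t]).map (MulAut.conj b).toMonoidHom ≤ core C[s] :=
      hbt ▸ map_core_le h S hbS ht ht1
    have hne : (core C[t]).map (MulAut.conj b).toMonoidHom ≠ ⊥ := fun e =>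
      htne ((map_eq_bot_iff_of_injective _ (MulAut.conj b).injective).1 e)
    have heq := uniq _ R (conj_maximal S hbS hR) hR fun e => hne (le_bot_iff.1 (e ▸
      le_inf (map_mono htR) (hle.trans hsR)))
    have hbR := mem_normalizer_of_map heq
    have haR : a ∈ normalizer (R : Set G) := by
      rcases hba with e | e
      · exact e ▸ hbR
      · simpa [e] using inv_mem hbR
    refine hX (le_bot_iff.1 fun x hx => mem_bot.2 (hY x ?_ ?_))
    · exact mem_centralizer_iff.2 fun v hv => (mem_centralizer_iff.1 (hcent R hR.1 haR hv) x hx.1).symm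
    · exact orderOf_odd_of_mem (isPGroup_odd h.prime h.ne_two hR.1.1) hx.1
  -- an invariant subgroup with a fixed point of `t` lies in `O(C t)`
  have absorb : ∀ t ∈ (S : Subgroup G), t ≠ 1 → ∀ K, Inv q S K → K ⊓ C[t] ≠ ⊥ →
      K ≤ core C[t] := by
    intro t ht ht1 K hK hne
    obtain ⟨R, hKR, hR⟩ := Finite.exists_le_maximal hK
    obtain ⟨R', htR', hR'⟩ := Finite.exists_le_maximal (core_inv h S ht ht1)
    obtain rfl : R = R' := uniq R R' hR hR' fun e => hne (le_bot_iff.1 (e ▸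
      le_inf (inf_le_left.trans hKR) ((inf_centralizer_le_core h S hK ht ht1).trans htR')))
    refine hKR.trans (h.gen_le S.2 hS4.ge (isPGroup_odd h.prime h.ne_two hR.1.1) hR.1.2 ?_)
    intro e he he1
    by_cases het : e = t
    · rw [het]; exact inf_centralizer_le_core h S hR.1 ht ht1
    · rw [free t ht ht1 R hR htR' e he he1 het]; exact bot_le
  have hinvert : ∀ t ∈ (S : Subgroup G), t ≠ 1 → ∀ s ∈ (S : Subgroup G), s ≠ 1 → s ≠ t →
      ∀ y ∈ core C[t], s * y * s⁻¹ = y⁻¹ := by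
    intro t ht ht1 s hs hs1 hst
    refine inverts_of_fixedPointFree (by rw [← sq]; exact h.two_group_sq S.2 s hs)
      ((core_inv h S ht ht1).2 hs) fun y hy hc => ?_
    obtain ⟨R, htR, hR⟩ := Finite.exists_le_maximal (core_inv h S ht ht1)
    have : y ∈ R ⊓ C[s] := ⟨htR hy, mem_centralizer_singleton_iff.2 hc.eq.symm⟩
    rwa [free t ht ht1 R hR htR s hs hs1 hst, mem_bot] at this
  refine ⟨hY, hinvert, fun t ht ht1 Y hY0 hYne => ?_⟩
  obtain ⟨y₀, hy₀, hy₀o⟩ :=
    exists_order_q h.prime ((core_inv h S ht ht1).1.to_le hY0) hYne h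
  have hy₀1 : y₀ ≠ 1 := fun e => h.prime.ne_one (by rw [← hy₀o, e, orderOf_one])
  have ht2 := h.sylow_involution ht ht1
  have hy₀t : Commute y₀ t := mem_centralizer_singleton_iff.1 (core_le _ (hY0 hy₀))
  obtain ⟨s, hs, hs1, hst⟩ : ∃ s ∈ (S : Subgroup G), s ≠ 1 ∧ s ≠ t := by
    obtain ⟨v, hv, hv1⟩ : ∃ v : (S : Subgroup G), v ∉ ({1, ⟨t, ht⟩} : Set _) ∧ True := by
      by_contra hcon
      push Not at hcon
      have h1 : (Set.univ : Set (S : Subgroup G)) ⊆ {1, ⟨t, ht⟩} := fun v _ => by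
        by_contra hv; exact hcon v hv
      have h2 := Set.ncard_le_ncard h1
      rw [Set.ncard_univ, hS4] at h2
      have h3 := Set.ncard_insert_le (1 : (S : Subgroup G)) {⟨t, ht⟩}
      rw [Set.ncard_singleton] at h3
      omega
    exact ⟨v, v.2, fun e => hv (Or.inl (Subtype.ext e)), fun e => hv (Or.inr (Subtype.ext e))⟩
  -- `t` is the only involution centralizing `y₀`
  have only : ∀ e : G, orderOf e = 2 → Commute y₀ e → e = t := by
    intro e he hye
    by_contra het
    -- involutions in `C(t) ∩ C(y₀)`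
    have four : ∀ z : G, orderOf z = 2 → Commute z t → Commute y₀ z → z = t := by
      intro z hz hzt hyz
      by_contra hzne
      haveI := h.solvable_centralizer (Or.inl ht2)
      let X := centralizer ({t} : Set G)
      let T : Sylow 2 X := S.subtype (h.sylow_le_centralizer ht)
      have hzp : IsPGroup 2 (zpowers (⟨z, mem_centralizer_singleton_iff.2 hzt.eq⟩ : X)) :=
        IsPGroup.of_card (n := 1) (by rw [Nat.card_zpowers, Subgroup.orderOf_mk, hz, pow_one])
      obtain ⟨T', hT'⟩ := hzp.exists_le_sylow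
      obtain ⟨c, hc⟩ := MulAction.exists_smul_eq X T T'
      have hzT := hT' (mem_zpowers _)
      rw [← hc, Sylow.coe_subgroup_smul] at hzT
      obtain ⟨v, hv, hve⟩ := hzT
      have hz' : (c : G) * (v : G) * (c : G)⁻¹ = z := by
        have := congrArg Subtype.val hve
        simpa using this
      have hvS : (v : G) ∈ (S : Subgroup G) := hv
      have hct : Commute (c : G) t := mem_centralizer_singleton_iff.1 c.2
      have hv1 : (v : G) ≠ 1 := fun e1 => by
        rw [← hz', e1, mul_one, mul_inv_cancel, orderOf_one] at hz; omega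
      have hvt : (v : G) ≠ t := fun e1 => hzne (by
        rw [← hz', e1]; exact mul_inv_eq_of_eq_mul hct.eq)
      have hy1 : (c : G)⁻¹ * y₀ * c ∈ core C[t] := by
        have := (mem_normalizer_iff.1 (inv_mem (le_normalizer_core X c.2)) y₀).1 (hY0 hy₀)
        rwa [inv_inv] at this
      have h1 := hinvert t ht ht1 v hvS hv1 hvt _ hy1
      have hcom : Commute (v : G) ((c : G)⁻¹ * y₀ * c) := by
        show (v : G) * ((c : G)⁻¹ * y₀ * c) = (c : G)⁻¹ * y₀ * c * v
        calc (v : G) * ((c : G)⁻¹ * y₀ * c) = (c : G)⁻¹ * (z * y₀) * c := by rw [← hz']; group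
          _ = (c : G)⁻¹ * (y₀ * z) * c := by rw [hyz.eq]
          _ = _ := by rw [← hz']; group
      rw [hcom.eq, mul_inv_cancel_right] at h1
      have h2 : ((c : G)⁻¹ * y₀ * c) ^ 2 = 1 := by
        rw [sq]; nth_rewrite 2 [h1]; exact mul_inv_cancel _
      have h3 : y₀ ^ 2 = 1 := by
        calc y₀ ^ 2 = c * ((c : G)⁻¹ * y₀ * c) ^ 2 * (c : G)⁻¹ := by rw [sq, sq]; group
          _ = 1 := by rw [h2]; group
      have := Nat.le_of_dvd two_pos (orderOf_dvd_iff_pow_eq_one.2 h3)
      have := h.three_le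
      omega
    set d := t * e with hd
    have htt : t * t = 1 := by rw [← sq, ← ht2, pow_orderOf_eq_one]
    have hee : e * e = 1 := by rw [← sq, ← he, pow_orderOf_eq_one]
    have hdt : t * d * t⁻¹ = d⁻¹ := by
      rw [hd, mul_inv_rev, inv_eq_of_mul_eq_one_right htt, inv_eq_of_mul_eq_one_right hee,
        ← mul_assoc, htt, one_mul]
    have hd1 : d ≠ 1 := fun e1 => het (mul_left_cancel (e1.trans htt.symm))
    have hyd : Commute y₀ d := hy₀t.mul_right hye
    rcases Nat.even_or_odd (orderOf d) with hev | hodd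
    · obtain ⟨k, hk⟩ := hev
      set z := d ^ k with hz
      have hz2 : z ^ 2 = 1 := by rw [hz, ← pow_mul, mul_two, ← hk, pow_orderOf_eq_one]
      have hk0 : k ≠ 0 := fun e0 => (orderOf_pos d).ne' (by omega)
      have hz1 : z ≠ 1 := fun e1 => by
        have := Nat.le_of_dvd (Nat.pos_of_ne_zero hk0) (orderOf_dvd_iff_pow_eq_one.2 e1); omega
      have hzt : Commute z t := by
        have h1 : t * z * t⁻¹ = z := by
          rw [hz, ← conj_pow, hdt, inv_pow, ← hz]
          exact inv_eq_of_mul_eq_one_right (by rw [← sq, hz2])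
        exact (mul_inv_eq_iff_eq_mul.1 h1).symm
      have hzeq := four z (orderOf_two hz2 hz1) hzt (hyd.pow_right k)
      -- then `t` commutes with `e`
      have hct : Commute t d := hzeq ▸ ((Commute.refl d).pow_left k)
      have h1 : Commute e t := by
        have : Commute t e := by
          have := ((Commute.refl t).inv_right).mul_right hct
          rwa [hd, inv_mul_cancel_left] at this
        exact this.symm
      exact het (four e he h1 hye)
    · -- the odd case
      set H := centralizer (zpowers y₀ : Set G) ⊔ (S : Subgroup G) with hH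
      have hSH : (S : Subgroup G) ≤ H := le_sup_right
      have hy₀N : (S : Subgroup G) ≤ normalizer ((zpowers y₀ : Subgroup G) : Set G) := by
        refine Coprime.le_normalizer_of_conj_mem fun v hv x hx => ?_
        obtain ⟨i, rfl⟩ := mem_zpowers_iff.1 hx
        rw [← conj_zpow]
        refine zpow_mem ?_ i
        by_cases hv1 : v = 1
        · subst hv1; simp
        by_cases hvt : v = t
        · subst hvt; rw [hy₀t.symm.eq, mul_inv_cancel_right]; exact mem_zpowers _
        · rw [hinvert t ht ht1 v hv hv1 hvt y₀ (hY0 hy₀)]; exact inv_mem (mem_zpowers _)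
      have hSN : (S : Subgroup G) ≤ normalizer ((centralizer (zpowers y₀ : Set G) : Subgroup G) : Set G) :=
        Coprime.le_normalizer_centralizer hy₀N
      set CN := (centralizer (zpowers y₀ : Set G)).subgroupOf H with hCN
      haveI : CN.Normal := by
        refine (normal_subgroupOf_iff_le_normalizer le_sup_left).2 (sup_le Subgroup.le_normalizer hSN)
      have hCpow : ∀ x ∈ centralizer (zpowers y₀ : Set G), x ^ (2 * q) = 1 := fun x hx =>
        h.commute_q hy₀o (mem_centralizer_iff.1 hx y₀ (mem_zpowers y₀))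
      have hquot : IsPGroup 2 (H ⧸ CN) := by
        refine ((S.subtype hSH).2.map (QuotientGroup.mk' CN)).of_equiv ?_
        refine (MulEquiv.subgroupCongr ?_).trans Subgroup.topEquiv
        rw [eq_top_iff]
        rintro x -
        obtain ⟨⟨g, hg⟩, rfl⟩ := QuotientGroup.mk'_surjective CN x
        rw [hH, ← SetLike.mem_coe, Subgroup.coe_mul_of_right_le_normalizer_left _ _ hSN] at hg
        obtain ⟨c, hc, v, hv, rfl⟩ := hg
        refine ⟨⟨v, hSH hv⟩, hv, ?_⟩
        rw [QuotientGroup.mk'_eq_mk']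
        refine ⟨⟨v⁻¹ * (c * v), H.mul_mem (H.inv_mem (hSH hv))
          (H.mul_mem ((le_sup_left : _ ≤ H) hc) (hSH hv))⟩, ?_, Subtype.ext (by simp)⟩
        show v⁻¹ * (c * v) ∈ centralizer (zpowers y₀ : Set G)
        have := (mem_normalizer_iff.1 (hSN (inv_mem hv)) c).1 hc
        rwa [inv_inv, mul_assoc] at this
      haveI : Group.IsSolvable H := by
        haveI : Group.IsSolvable CN := by
          haveI := h.solvable_of_pow _ hCpow
          exact Group.isSolvable_of_isSolvable_injective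
            (f := (H.subtype.comp CN.subtype).codRestrict (centralizer (zpowers y₀ : Set G))
              fun x => x.2)
            fun a b e => Subtype.ext (Subtype.ext (congrArg Subtype.val e :))
        haveI := hquot.isNilpotent
        exact Group.isSolvable_of_ker_le_range CN.subtype (QuotientGroup.mk' CN)
          (by rw [range_subtype, QuotientGroup.ker_mk'])
      have hoddC : ∀ x, ∀ hx : x ∈ H, Odd (orderOf x) → x ∈ centralizer (zpowers y₀ : Set G) := by
        intro x hx ho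
        have h1 : (QuotientGroup.mk' CN ⟨x, hx⟩) = 1 := by
          obtain ⟨k, hk⟩ := IsPGroup.iff_orderOf.1 hquot (QuotientGroup.mk' CN ⟨x, hx⟩)
          have h2 : Odd (orderOf (QuotientGroup.mk' CN ⟨x, hx⟩)) :=
            ho.of_dvd_nat ((orderOf_map_dvd _ _).trans (by rw [← Subgroup.orderOf_coe]))
          rw [hk] at h2
          rcases Nat.eq_zero_or_pos k with rfl | hk0
          · rw [← orderOf_eq_one_iff, hk, pow_zero]
          · exact absurd h2 (Nat.not_odd_iff_even.2 (Nat.even_pow.2 ⟨even_two, hk0.ne'⟩))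
        have h3 : (⟨x, hx⟩ : H) ∈ CN := (QuotientGroup.eq_one_iff _).1 h1
        exact h3
      have hKp : IsPGroup q (core H) := by
        intro x
        refine ⟨1, Subtype.ext ?_⟩
        rw [SubgroupClass.coe_pow, pow_one, OneMemClass.coe_one]
        have ho := orderOf_odd_of_mem (core_odd H) x.2
        exact orderOf_dvd_iff_pow_eq_one.1
          ((Nat.Coprime.dvd_mul_left (Nat.coprime_two_right.2 ho)).1
            (orderOf_dvd_iff_pow_eq_one.2 (hCpow _ (hoddC _ (core_le H x.2) ho))))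
      have hy₀H : zpowers y₀ ≤ core H := by
        refine h.le_core S hSH (zpowers_le.2 ((le_sup_left : _ ≤ H) ?_)) ?_ hy₀N
        · exact mem_centralizer_iff.2 fun x hx => by
            obtain ⟨i, rfl⟩ := mem_zpowers_iff.1 hx
            exact ((Commute.refl y₀).zpow_left i).eq
        · rw [Nat.card_zpowers, hy₀o]; exact h.odd
      have hK : Inv q S (core H) := ⟨hKp, hSH.trans (le_normalizer_core H)⟩
      have hKle : core H ≤ core C[t] := absorb t ht ht1 _ hK fun e1 => hy₀1 (by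
        have : y₀ ∈ core H ⊓ C[t] := ⟨hy₀H (mem_zpowers _), mem_centralizer_singleton_iff.2 hy₀t.eq⟩
        rwa [e1, mem_bot] at this)
      -- `d ^ 2` lies in `O(H)`
      have hdH : d ∈ H := (le_sup_left : _ ≤ H) (mem_centralizer_iff.2 fun x hx => by
        obtain ⟨i, rfl⟩ := mem_zpowers_iff.1 hx
        exact (hyd.zpow_left i).eq)
      obtain ⟨k, hk, n, hn, hkn⟩ : ∃ k ∈ core H, ∃ n ∈ normalizer ((S : Subgroup G) : Set G) ⊓ H,
          k * n = d := by
        have h1 := h.le_core_sup S hSH hdH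
        rw [← SetLike.mem_coe, Subgroup.coe_mul_of_right_le_normalizer_left _ _
          (inf_le_right.trans (le_normalizer_core H))] at h1
        exact h1
      set N := normalizer (core H : Set G)
      let π := QuotientGroup.mk' ((core H).subgroupOf N)
      have hHN : H ≤ N := le_normalizer_core H
      have hw : t * n * t⁻¹ * n⁻¹ ∈ (S : Subgroup G) := by
        rw [mul_assoc, mul_assoc, ← mul_assoc n]
        exact mul_mem ht ((mem_normalizer_iff.1 hn.1 _).1 (inv_mem ht))
      set w := t * n * t⁻¹ * n⁻¹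
      have e1 : π ⟨d, hHN hdH⟩ = π ⟨n, hHN hn.2⟩ := by
        have hkN : k ∈ N := hHN (core_le H hk)
        rw [show (⟨d, hHN hdH⟩ : N) = ⟨k, hkN⟩ * ⟨n, hHN hn.2⟩ from Subtype.ext hkn.symm, map_mul,
          show π ⟨k, hkN⟩ = 1 from (QuotientGroup.eq_one_iff _).2 hk, one_mul]
      have htN : t ∈ N := hHN (hSH ht)
      have e2 : π (⟨d, hHN hdH⟩⁻¹ * ⟨d, hHN hdH⟩⁻¹) = π ⟨w, hHN (hSH hw)⟩ := by
        have : (⟨w, hHN (hSH hw)⟩ : N) =
            ⟨t, htN⟩ * ⟨n, hHN hn.2⟩ * ⟨t, htN⟩⁻¹ * ⟨n, hHN hn.2⟩⁻¹ := Subtype.ext rfl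
        rw [this]
        simp only [map_mul, map_inv, ← e1]
        simp only [← map_inv, ← map_mul]
        congr 1
        refine Subtype.ext ?_
        simp only [Subgroup.coe_mul, Subgroup.coe_inv]
        rw [hdt]
      have hdd : d⁻¹ * d⁻¹ ∈ core H := by
        suffices hv1 : π (⟨d, hHN hdH⟩⁻¹ * ⟨d, hHN hdH⟩⁻¹) = 1 by
          have h3 : (⟨d, hHN hdH⟩⁻¹ * ⟨d, hHN hdH⟩⁻¹ : N) ∈ (core H).subgroupOf N :=
            (QuotientGroup.eq_one_iff _).1 hv1
          exact h3
        set v := π (⟨d, hHN hdH⟩⁻¹ * ⟨d, hHN hdH⟩⁻¹)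
        have h1 : orderOf v ∣ 2 := by
          rw [e2, orderOf_dvd_iff_pow_eq_one, ← map_pow,
            show (⟨w, hHN (hSH hw)⟩ : N) ^ 2 = 1 from Subtype.ext (h.two_group_sq S.2 w hw), map_one]
        have h2 : Odd (orderOf v) := by
          refine hodd.of_dvd_nat ((orderOf_map_dvd π _).trans ?_)
          rw [← Subgroup.orderOf_coe, ← sq, SubgroupClass.coe_pow, Subgroup.coe_inv,
            ← orderOf_inv d]
          exact orderOf_pow_dvd 2
        rcases (Nat.dvd_prime Nat.prime_two).1 h1 with h3 | h3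
        · exact orderOf_eq_one_iff.1 h3
        · rw [h3] at h2; exact absurd h2 (by decide)
      have hcomm := mem_centralizer_singleton_iff.1 (core_le _ (hKle hdd))
      have h4 : d ^ 4 = 1 := by
        have hconj : t * (d⁻¹ * d⁻¹) * t⁻¹ = d * d := by
          rw [show t * (d⁻¹ * d⁻¹) * t⁻¹ = (t * d * t⁻¹)⁻¹ * (t * d * t⁻¹)⁻¹ by group, hdt, inv_inv]
        rw [← hcomm, mul_inv_cancel_right] at hconj
        calc d ^ 4 = d * d * (d * d) := by rw [show (4 : ℕ) = 2 + 2 from rfl, pow_add, sq]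
          _ = d * d * (d⁻¹ * d⁻¹) := by rw [hconj]
          _ = 1 := by group
      refine hd1 (orderOf_eq_one_iff.1 ?_)
      exact ((Nat.coprime_two_right.2 hodd).pow_right 2).eq_one_of_dvd
        (orderOf_dvd_iff_pow_eq_one.2 h4)
  intro g hg
  have h1 : orderOf (g * t * g⁻¹) = 2 := by
    rw [← MulAut.conj_apply, MulEquiv.orderOf_eq, ht2]
  have h2 : Commute y₀ (g * t * g⁻¹) := by
    have hy' : g⁻¹ * y₀ * g ∈ Y := by
      have := (mem_normalizer_iff.1 (inv_mem hg) y₀).1 hy₀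
      rwa [inv_inv] at this
    have hc := mem_centralizer_singleton_iff.1 (core_le _ (hY0 hy'))
    calc y₀ * (g * t * g⁻¹) = g * (g⁻¹ * y₀ * g * t) * g⁻¹ := by group
      _ = g * (t * (g⁻¹ * y₀ * g)) * g⁻¹ := by rw [hc]
      _ = _ := by group
  exact mem_centralizer_singleton_iff.2 (mul_inv_eq_iff_eq_mul.1 (only _ h1 h2))

end Cfsg.Agent.Three68
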