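import Cfsg.Agent.Three68.Coset

/-!
# An abelian regular group normalized by an element of order three with one fixed point
-/

set_option autoImplicit false
set_option linter.style.haveILetI false

namespace Cfsg.Agent.Three68

open Subgroup

universe u

variable {G : Type u} [Group G] [Finite G] {S : Sylow 2 G} {R : Subgroup G} {y t : G}

local notation "M" => normalizer ((S : Subgroup G) : Set G)

omit [Finite G] in
/-- The sequence of images of a point under the powers of `a`, subject to a cubic. -/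
theorem recurrence {V : Type*} [CommGroup V] (hV : ∀ v : V, v * v = 1) (f : ℕ → V) :
    ((∀ j, f (j + 3) = f j) → f 3 = f 0) ∧
    ((∀ j, f (j + 3) = f (j + 2) * f j) → f 7 = f 0) ∧
    ((∀ j, f (j + 3) = f (j + 1) * f j) → f 7 = f 0) ∧
    ((∀ j, f (j + 3) = f (j + 2) * f (j + 1) * f j) → f 4 = f 0) := by
  have hc : ∀ a b : V, a * (a * b) = b := fun a b => by rw [← mul_assoc, hV, one_mul]
  refine ⟨fun h => h 0, fun h => ?_, fun h => ?_, fun h => ?_⟩
  · have h3 := h 0; have h4 := h 1; have h5 := h 2; have h6 := h 3; have h7 := h 4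
    norm_num at h3 h4 h5 h6 h7
    calc f 7 = f 6 * f 4 := h7
      _ = f 4 * f 2 * f 3 * f 4 := by rw [h6, h5]
      _ = f 2 * f 3 := by
        rw [mul_comm (f 4) (f 2), mul_assoc (f 2), mul_comm (f 4) (f 3), ← mul_assoc, mul_assoc,
          hV, mul_one]
      _ = f 0 := by rw [h3, hc]
  · have h3 := h 0; have h4 := h 1; have h5 := h 2; have h7 := h 4
    norm_num at h3 h4 h5 h7
    calc f 7 = f 5 * f 4 := h7
      _ = f 3 * (f 2 * f 2) * f 1 := by rw [h5, h4]; simp only [mul_assoc]
      _ = f 1 * f 0 * f 1 := by rw [hV, mul_one, h3]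
      _ = f 0 := by rw [mul_comm (f 1) (f 0), mul_assoc, hV, mul_one]
  · have h3 := h 0; have h4 := h 1
    norm_num at h3 h4
    calc f 4 = f 3 * (f 2 * f 1) := by rw [h4, mul_assoc]
      _ = f 2 * f 1 * f 0 * (f 2 * f 1) := by rw [h3]
      _ = f 0 := by rw [mul_comm (f 2 * f 1) (f 0), mul_assoc, hV, mul_one]

namespace NR

variable (h : NR G 3 S R y t)

include h in
/-- There are exactly seven involutions in `S`. -/
theorem mm_eq_seven {u : G} (hu : orderOf u = 2) (huM : u ∉ M) (hyu : u * y * u⁻¹ ∈ M) :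
    SE.mm S = 7 := by
  classical
  letI : CommGroup (S : Subgroup G) :=
    { (inferInstance : Group (S : Subgroup G)) with
      mul_comm := fun a b => Subtype.ext (h.edge.sylow_comm a.2 b.2).eq }
  have hV : ∀ v : (S : Subgroup G), v * v = 1 := fun v => Subtype.ext (by
    show (v : G) * v = 1
    rw [← sq]; exact h.edge.two_group_sq S.2 v v.2)
  set D := D0 S R u with hD
  let ψ : D →* MulAut (S : Subgroup G) := (S : Subgroup G).normalizerMonoidHom.comp
    (Subgroup.inclusion (fun x hx => h.rle hx.1))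
  letI : CommGroup D :=
    { (inferInstance : Group D) with mul_comm := fun a b => Subtype.ext (h.d0_comm hu huM a.2 b.2).eq }
  set t' : (S : Subgroup G) := ⟨t, h.tS⟩ with ht'
  let s : D → (S : Subgroup G) := fun a => ψ a t'
  have hψ : ∀ a b, ψ a (s b) = s (a * b) := fun a b => by
    simp only [s, map_mul]; rfl
  have hs1 : s 1 = t' := by simp [s]
  have hsinj : ∀ a : D, s a = t' → a = 1 := fun a ha => by
    refine Subtype.ext (h.d0_eq_one hu huM a.2 (Or.inl (h.toSE.involution h.tS h.t1)) ?_)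
    have e : (a : G) * t * (a : G)⁻¹ = t := congrArg Subtype.val ha
    exact (mul_inv_eq_iff_eq_mul.1 e).symm
  -- conjugation by `y`
  let σ : D → D := fun a => ⟨y * a * y⁻¹, h.d0_invariant hu huM hyu a.2⟩
  let τ : ↥(S : Subgroup G) → ↥(S : Subgroup G) := fun v =>
    ⟨y * v * y⁻¹, (mem_normalizer_iff.1 h.ymem v).1 v.2⟩
  have hτ : ∀ a, τ (s a) = s (σ a) := fun a => Subtype.ext (by
    show y * ((a : G) * t * (a : G)⁻¹) * y⁻¹ = y * a * y⁻¹ * t * (y * a * y⁻¹)⁻¹
    calc y * ((a : G) * t * (a : G)⁻¹) * y⁻¹ = y * a * (y⁻¹ * (y * t)) * (a : G)⁻¹ * y⁻¹ := by group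
      _ = y * a * (y⁻¹ * (t * y)) * (a : G)⁻¹ * y⁻¹ := by rw [h.yt.eq]
      _ = _ := by group)
  have hτm : ∀ v w, τ (v * w) = τ v * τ w := fun v w => Subtype.ext (by
    show y * ((v : G) * w) * y⁻¹ = y * v * y⁻¹ * (y * w * y⁻¹); group)
  have hσm : ∀ a b, σ (a * b) = σ a * σ b := fun a b => Subtype.ext (by
    show y * ((a : G) * b) * y⁻¹ = y * a * y⁻¹ * (y * b * y⁻¹); group)
  have hy3 : y * y * y = 1 := by
    have : y ^ 3 = 1 := by rw [← h.yord]; exact pow_orderOf_eq_one y
    simpa [pow_succ] using this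
  have hσ3 : ∀ a, σ (σ (σ a)) = a := fun a => Subtype.ext (by
    show y * (y * (y * a * y⁻¹) * y⁻¹) * y⁻¹ = a
    calc y * (y * (y * (a : G) * y⁻¹) * y⁻¹) * y⁻¹ = y * y * y * a * (y * y * y)⁻¹ := by group
      _ = a := by rw [hy3, one_mul, inv_one, mul_one])
  have hτfix : ∀ v, τ v = v → v = 1 ∨ v = t' := fun v hv => by
    have hc : Commute y (v : G) := mul_inv_eq_iff_eq_mul.1 (congrArg Subtype.val hv : y * v * y⁻¹ = v)
    exact (h.fix v v.2 hc).imp (fun e => Subtype.ext e) (fun e => Subtype.ext e)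
  have hσfix : ∀ a, σ a = a → a = 1 := fun a ha => by
    refine Subtype.ext (h.d0_eq_one hu huM a.2 (Or.inr h.yord) ?_)
    exact mul_inv_eq_iff_eq_mul.1 (congrArg Subtype.val ha : y * a * y⁻¹ = a)
  have hexp : ∀ a : D, a ^ 7 = 1 := by
    intro a
    have hcop := h.coprime_of_d0 hu huM a.2
    rw [Subgroup.orderOf_coe] at hcop
    have hsmall : ∀ k, (k = 3 ∨ k = 4) → a ^ k = 1 → a ^ 7 = 1 := by
      intro k hk hak
      have hd := orderOf_dvd_of_pow_eq_one hak
      have : orderOf a = 1 := by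
        have hle := Nat.le_of_dvd (by omega) hd
        have hpos := orderOf_pos a
        rcases hk with rfl | rfl <;> interval_cases (orderOf a) <;> revert hcop hd <;> decide
      rw [orderOf_eq_one_iff.1 this, one_pow]
    set b := σ a with hb
    set c := σ b with hc
    have hbc : σ c = a := by rw [hc, hb]; exact hσ3 a
    have habc : a * b * c = 1 := hσfix _ (by
      rw [hσm, hσm, ← hb, ← hc, hbc, mul_comm (b * c), ← mul_assoc])
    set E1 := s a * s b * s c with hE1
    set E2 := s (a * b) * s (b * c) * s (c * a) with hE2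
    have hE1' : τ E1 = E1 := by
      rw [hE1, hτm, hτm, hτ, hτ, hτ, ← hb, ← hc, hbc, mul_comm (s b * s c), ← mul_assoc]
    have hE2' : τ E2 = E2 := by
      rw [hE2, hτm, hτm, hτ, hτ, hτ, hσm, hσm, hσm, ← hb, ← hc, hbc,
        mul_comm (s (b * c) * s (c * a)), ← mul_assoc]
    have key : s (a * (a * a)) * ψ (a * a) E1 * ψ a E2 * t' = 1 := by
      rw [hE1, hE2, map_mul (ψ (a * a)), map_mul (ψ (a * a)), map_mul (ψ a), map_mul (ψ a), hψ, hψ,
        hψ, hψ, hψ, hψ]
      rw [show a * (b * c) = 1 by rw [← mul_assoc]; exact habc, hs1,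
        show a * a * a = a * (a * a) from mul_assoc a a a,
        show a * (a * b) = a * a * b from (mul_assoc a a b).symm,
        show a * (c * a) = a * a * c by rw [mul_comm c a, mul_assoc]]
      calc _ = (s (a * (a * a)) * s (a * (a * a))) * (s (a * a * b) * s (a * a * b)) *
          (s (a * a * c) * s (a * a * c)) * (t' * t') := by ac_rfl
        _ = 1 := by simp only [hV, one_mul]
    let f : ℕ → (S : Subgroup G) := fun j => s (a ^ j)
    have hstep : ∀ X : ℕ → (S : Subgroup G), f 3 = X 0 → (∀ j, ψ (a ^ j) (X 0) = X j) →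
        ∀ j, f (j + 3) = X j := fun X h0 hX j => by
      show s (a ^ (j + 3)) = X j
      rw [pow_add, ← hψ, ← hX j]
      exact congrArg _ h0
    have hf : ∀ j k, ψ (a ^ j) (f k) = f (j + k) := fun j k => by
      show ψ (a ^ j) (s (a ^ k)) = s (a ^ (j + k))
      rw [hψ, pow_add]
    have hf0 : f 0 = t' := by simp [f, hs1]
    have hfin : ∀ n, f n = f 0 → a ^ n = 1 := fun n hn => hsinj _ (hn.trans hf0)
    have h33 : s (a * (a * a)) = f 3 := by simp [f, pow_succ, mul_assoc]
    have h22 : ψ (a * a) (f 0) = f 2 := by rw [← sq, hf 2 0]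
    have h11 : ψ a (f 0) = f 1 := by simpa using hf 1 0
    have hinv : ∀ x z : (S : Subgroup G), x * z = 1 → x = z := fun x z e => by
      calc x = x * (z * z) := by rw [hV, mul_one]
        _ = z := by rw [← mul_assoc, e, one_mul]
    obtain ⟨r1, r2, r3, r4⟩ := recurrence hV f
    rcases hτfix E1 hE1' with e1 | e1 <;> rcases hτfix E2 hE2' with e2 | e2 <;>
      rw [e1, e2, ← hf0] at key <;> simp only [map_one, mul_one, h33, h22, h11] at key
    · exact hsmall 3 (Or.inl rfl) (hfin 3 (r1 (hstep (fun j => f j) (hinv _ _ key) fun j => hf j 0)))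
    · refine hfin 7 (r3 (hstep (fun j => f (j + 1) * f j) (hinv _ _ (by rw [← mul_assoc]; exact key))
        fun j => ?_))
      rw [map_mul, hf, hf]; rfl
    · refine hfin 7 (r2 (hstep (fun j => f (j + 2) * f j) (hinv _ _ (by rw [← mul_assoc]; exact key))
        fun j => ?_))
      rw [map_mul, hf, hf]; rfl
    · refine hsmall 4 (Or.inr rfl) (hfin 4 (r4 (hstep (fun j => f (j + 2) * f (j + 1) * f j)
        (hinv _ _ (by simpa [mul_assoc] using key)) fun j => ?_)))
      rw [map_mul, map_mul, hf, hf, hf]; rfl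
  haveI : Fact (Nat.Prime 7) := ⟨by norm_num⟩
  have hp : IsPGroup 7 D := fun a => ⟨1, by rw [pow_one]; exact hexp a⟩
  obtain ⟨j, hj⟩ := hp.exists_card_eq
  have hm := h.toSE.mm_succ
  rw [← h.d0_card hu huM, hj] at hm ⊢
  haveI : Fact (Nat.Prime 2) := ⟨Nat.prime_two⟩
  obtain ⟨n, hn⟩ := S.2.exists_card_eq
  rw [hn] at hm
  have hn2 : 2 ≤ n := by
    by_contra hn2
    have h2 : (2 : ℕ) ^ n ≤ 2 ^ 1 := Nat.pow_le_pow_right (by norm_num) (by omega)
    have := h.four
    omega
  rw [mersenne_prime_power (by norm_num : Nat.Prime 7) (by decide) hn2 hm, pow_one]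

end NR

end Cfsg.Agent.Three68
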