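import Cfsg.Agent.Three68.Exc
import Cfsg.Agent.Three68.NonReg
import Cfsg.Agent.InvChar68.ZC.Basic
import Cfsg.Agent.TwoFusionB.StronglyEmbedded
import Cfsg.Agent.Lib.SmallGroups.Basic
import Cfsg.Agent.S3189
import Cfsg.Agent.S0508
import Mathlib.GroupTheory.SpecificGroups.Dihedral

/-!
# Simple groups with an element of order `2 * q` as only even order beside `2`
-/

set_option autoImplicit false
set_option linter.style.haveILetI false

namespace Cfsg.Agent.Three68

open Subgroup

universe u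

variable {G : Type u} [Group G] [Finite G] {q : ℕ}

/-- If the centralizers of the involutions of `S` normalize it, `N(S)` is strongly embedded. -/
theorem SE.mk' (h : EdgeB G q) (S : Sylow 2 G) (h4 : 4 ≤ Nat.card (S : Subgroup G))
    (hcent : ∀ t ∈ (S : Subgroup G), t ≠ 1 →
      centralizer ({t} : Set G) ≤ normalizer ((S : Subgroup G) : Set G))
    (hproper : normalizer ((S : Subgroup G) : Set G) ≠ ⊤) : SE G q S := by
  set N := normalizer ((S : Subgroup G) : Set G)
  haveI : Fact (Nat.Prime 2) := ⟨Nat.prime_two⟩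
  refine ⟨h, h4, hcent, fun s t hs ht => TwoFusionB.isConj_involutions (H := N) ?_ hs ht, hproper⟩
  refine (Involution.stronglyEmbedded_iff (H := N)).2 ⟨hproper, ?_, ?_⟩
  · refine even_iff_two_dvd.2 ((dvd_trans ?_ (Subgroup.card_dvd_of_le Subgroup.le_normalizer)))
    obtain ⟨n, hn⟩ := S.2.exists_card_eq
    rw [hn]
    exact dvd_pow_self 2 (by rintro rfl; rw [hn] at h4; omega)
  intro g t htN ht hgt
  have htS : t ∈ (S : Subgroup G) :=
    mem_sylow_of_sq htN (by rw [← ht]; exact pow_orderOf_eq_one t)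
  have ht1 : t ≠ 1 := fun e => by rw [e, orderOf_one] at ht; omega
  have hgS : g * t * g⁻¹ ∈ (S : Subgroup G) :=
    mem_sylow_of_sq hgt (by rw [conj_pow, ← ht, pow_orderOf_eq_one, mul_one, mul_inv_cancel])
  have hle : ∀ x ∈ (S : Subgroup G), g * x * g⁻¹ ∈ N := fun x hx => by
    refine hcent _ hgS (fun e => ht1 (conj_eq_one_iff.1 e)) (mem_centralizer_singleton_iff.2 ?_)
    calc g * x * g⁻¹ * (g * t * g⁻¹) = g * (x * t) * g⁻¹ := by group
      _ = g * (t * x) * g⁻¹ := by rw [(h.sylow_comm hx htS).eq]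
      _ = _ := by group
  refine mem_normalizer_iff_map_conj_eq.2 (eq_of_le_of_card_ge ?_ ?_)
  · rintro _ ⟨x, hx, rfl⟩
    exact mem_sylow_of_sq (hle x hx) (by
      show (g * x * g⁻¹) ^ 2 = 1
      rw [conj_pow, h.two_group_sq S.2 x hx]; group)
  · rw [card_map_of_injective (MulAut.conj g).injective]

/-- A group transitive on the involutions of `S` has a fixed-point-free element of prime order. -/
theorem exists_fpf (h : EdgeB G q) (S : Sylow 2 G) (h4 : 4 ≤ Nat.card (S : Subgroup G))
    (htrans : ∀ s ∈ (S : Subgroup G), s ≠ 1 → ∀ t ∈ (S : Subgroup G), t ≠ 1 →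
      ∃ g ∈ normalizer ((S : Subgroup G) : Set G), g * s * g⁻¹ = t) :
    ∃ x ∈ normalizer ((S : Subgroup G) : Set G), ∃ p : ℕ, p.Prime ∧ orderOf x = p ∧
      ∀ u ∈ (S : Subgroup G), Commute x u → u = 1 := by
  classical
  set N := normalizer ((S : Subgroup G) : Set G) with hN
  haveI : Fact (Nat.Prime 2) := ⟨Nat.prime_two⟩
  haveI := Fact.mk h.prime
  obtain ⟨n, hn⟩ := S.2.exists_card_eq
  have hn2 : 2 ≤ n := by
    by_contra hn2
    have h2 : (2 : ℕ) ^ n ≤ 2 ^ 1 := Nat.pow_le_pow_right (by norm_num) (by omega)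
    omega
  haveI : Nontrivial (S : Subgroup G) := Finite.one_lt_card_iff_nontrivial.1 (by omega)
  obtain ⟨⟨t, ht⟩, ht1'⟩ := exists_ne (1 : (S : Subgroup G))
  have ht1 : t ≠ 1 := fun e => ht1' (Subtype.ext e)
  -- the orbit of `t`
  let P := {s : G // s ∈ (S : Subgroup G) ∧ s ≠ 1}
  have hP : Nat.card P + 1 = 2 ^ n := by
    rw [← hn]
    let e : P ≃ {x : (S : Subgroup G) // x ≠ 1} :=
      ⟨fun s => ⟨⟨s.1, s.2.1⟩, fun e => s.2.2 (congrArg Subtype.val e)⟩,
        fun x => ⟨x.1.1, x.1.2, fun e => x.2 (Subtype.ext e)⟩, fun _ => rfl, fun _ => rfl⟩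
    have := Fintype.ofFinite (S : Subgroup G)
    rw [Nat.card_congr e, Nat.card_eq_fintype_card, Nat.card_eq_fintype_card,
      Fintype.card_subtype_compl, Fintype.card_subtype_eq]
    have := Fintype.card_pos (α := (S : Subgroup G))
    omega
  set St := (centralizer ({t} : Set G)).subgroupOf N with hSt
  have key : ∀ x y : ↥N, x⁻¹ * y ∈ St ↔ (x : G) * t * (x : G)⁻¹ = (y : G) * t * (y : G)⁻¹ := by
    intro x y
    rw [hSt, mem_subgroupOf, mem_centralizer_singleton_iff]
    constructor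
    · intro e
      calc (x : G) * t * (x : G)⁻¹ = x * (t * ((x : G)⁻¹ * y)) * (y : G)⁻¹ := by group
        _ = x * ((x : G)⁻¹ * y * t) * (y : G)⁻¹ := by
          rw [show (x : G)⁻¹ * y * t = t * ((x : G)⁻¹ * y) from e]
        _ = _ := by group
    · intro e
      show (x : G)⁻¹ * y * t = t * ((x : G)⁻¹ * y)
      calc (x : G)⁻¹ * y * t = (x : G)⁻¹ * ((y : G) * t * (y : G)⁻¹) * y := by group
        _ = (x : G)⁻¹ * ((x : G) * t * (x : G)⁻¹) * y := by rw [e]
        _ = _ := by group
  have hidx : St.index = Nat.card P := by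
    rw [Subgroup.index_eq_card]
    refine Nat.card_congr (Equiv.ofBijective (Quotient.lift
      (fun x : ↥N => (⟨(x : G) * t * (x : G)⁻¹, (mem_normalizer_iff.1 x.2 t).1 ht,
        fun e => ht1 (conj_eq_one_iff.1 e)⟩ : P))
      fun x y e => Subtype.ext ((key x y).1 (QuotientGroup.leftRel_apply.1 e))) ⟨?_, ?_⟩)
    · rintro ⟨x⟩ ⟨y⟩ e
      exact Quotient.sound (QuotientGroup.leftRel_apply.2 ((key x y).2 (congrArg Subtype.val e)))
    · rintro ⟨s, hs, hs1⟩
      obtain ⟨g, hg, hge⟩ := htrans t ht ht1 s hs hs1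
      exact ⟨QuotientGroup.mk ⟨g, hg⟩, Subtype.ext hge⟩
  have hnot : ∀ {x : G} {p : ℕ}, orderOf x = p → p.Prime → p ≠ 2 → p ≠ q →
      ∀ u ∈ (S : Subgroup G), Commute x u → u = 1 := by
    intro x p hx hp hp2 hpq u hu hc
    by_contra hu1
    have := h.eq_one_of_commute (Or.inl (h.sylow_involution hu hu1)) hc.symm (by
      rw [hx, Nat.coprime_mul_iff_right]
      exact ⟨(Nat.coprime_primes hp Nat.prime_two).2 hp2, (Nat.coprime_primes hp h.prime).2 hpq⟩)
    rw [this, orderOf_one] at hx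
    exact hp.ne_one hx.symm
  have hcard : Nat.card P ∣ Nat.card N := hidx ▸ St.index_dvd_card
  have hPodd : Odd (Nat.card P) := by
    rw [← Nat.not_even_iff_odd]
    intro hev
    have : Even (2 ^ n) := (Nat.even_pow.2 ⟨even_two, by omega⟩)
    rw [← hP] at this
    exact (Nat.not_even_iff_odd.2 hev.add_one) this
  by_cases hex : ∃ r, r.Prime ∧ r ∣ Nat.card P ∧ r ≠ q
  · obtain ⟨r, hr, hrd, hrq⟩ := hex
    haveI := Fact.mk hr
    obtain ⟨x, hx⟩ := exists_prime_orderOf_dvd_card' r (hrd.trans hcard)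
    refine ⟨x, x.2, r, hr, (Subgroup.orderOf_coe x).trans hx,
      hnot ((Subgroup.orderOf_coe x).trans hx) hr (fun e => ?_) hrq⟩
    subst e
    exact Nat.not_even_iff_odd.2 hPodd (even_iff_two_dvd.2 hrd)
  push Not at hex
  obtain ⟨k, hk⟩ : ∃ k, Nat.card P = q ^ k :=
    ⟨_, Nat.eq_prime_pow_of_unique_prime_dvd (Nat.pos_of_ne_zero fun e => by
      rw [e] at hP
      have : 2 ^ 2 ≤ 2 ^ n := Nat.pow_le_pow_right (by norm_num) hn2
      omega).ne' fun {d} hd hdP => hex d hd hdP⟩
  rw [hk] at hP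
  have hk1 := mersenne_prime_power h.prime h.odd hn2 hP
  subst hk1
  rw [pow_one] at hk hP
  obtain ⟨Q⟩ : Nonempty (Sylow q ↥N) := inferInstance
  obtain ⟨x, hxQ, hxS⟩ : ∃ x ∈ (Q : Subgroup ↥N), x ∉ St := by
    by_contra hcon
    push Not at hcon
    apply Q.not_dvd_index
    exact (hk ▸ hidx ▸ dvd_rfl : q ∣ St.index).trans (Subgroup.index_dvd_of_le hcon)
  have hx1 : (x : G) ≠ 1 := fun e => hxS (by
    rw [show x = 1 from Subtype.ext e]; exact one_mem _)
  obtain ⟨j, hj⟩ := Q.2 ⟨x, hxQ⟩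
  obtain ⟨i, -, hi⟩ := (Nat.dvd_prime_pow h.prime).1
    (orderOf_dvd_of_pow_eq_one (congrArg (fun z : (Q : Subgroup ↥N) => ((z : ↥N) : G)) hj :
      (x : G) ^ q ^ j = 1))
  have hxo : orderOf (x : G) = q := orderOf_eq_prime (h.q_pow hi) hx1
  refine ⟨x, x.2, q, h.prime, hxo, fun u hu hc => ?_⟩
  by_contra hu1
  have hxt : ¬ Commute (x : G) t := fun hc' => hxS (by
    rw [hSt, mem_subgroupOf]; exact mem_centralizer_singleton_iff.2 hc'.eq)
  let g : Option (Fin q) → P := fun o => o.elim ⟨u, hu, hu1⟩ fun i =>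
    ⟨(x : G) ^ (i : ℕ) * t * ((x : G) ^ (i : ℕ))⁻¹,
      (mem_normalizer_iff.1 (pow_mem x.2 _) t).1 ht, fun e => ht1 (conj_eq_one_iff.1 e)⟩
  have hne : ∀ i : ℕ, (x : G) ^ i * t * ((x : G) ^ i)⁻¹ ≠ u := fun i e => hxt (by
    have : t = u := by
      calc t = ((x : G) ^ i)⁻¹ * ((x : G) ^ i * t * ((x : G) ^ i)⁻¹) * (x : G) ^ i := by group
        _ = ((x : G) ^ i)⁻¹ * u * (x : G) ^ i := by rw [e]
        _ = u := by rw [mul_assoc, ← (hc.pow_left i).eq, inv_mul_cancel_left]
    rw [this]; exact hc)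
  have hfree : ∀ d : ℕ, Commute ((x : G) ^ d) t → q ∣ d := fun d hd => by
    by_contra hqd
    obtain ⟨j, hj⟩ := exists_pow_eq_self_of_coprime (x := (x : G)) (n := d)
      (by rw [hxo]; exact (h.prime.coprime_iff_not_dvd.2 hqd).symm)
    exact hxt (hj ▸ hd.pow_left j)
  have key2 : ∀ i j : Fin q, (i : ℕ) ≤ j → g (some i) = g (some j) → i = j := by
    intro i j hle e
    have e' : (x : G) ^ (i : ℕ) * t * ((x : G) ^ (i : ℕ))⁻¹ =
        (x : G) ^ (j : ℕ) * t * ((x : G) ^ (j : ℕ))⁻¹ := congrArg Subtype.val e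
    have hd : Commute ((x : G) ^ ((j : ℕ) - i)) t := by
      rw [← Nat.add_sub_of_le hle, pow_add] at e'
      refine mul_inv_eq_iff_eq_mul.1 ?_
      calc (x : G) ^ ((j : ℕ) - i) * t * ((x : G) ^ ((j : ℕ) - i))⁻¹
          = ((x : G) ^ (i : ℕ))⁻¹ * ((x : G) ^ (i : ℕ) * (x : G) ^ ((j : ℕ) - i) * t *
            ((x : G) ^ (i : ℕ) * (x : G) ^ ((j : ℕ) - i))⁻¹) * (x : G) ^ (i : ℕ) := by group
        _ = _ := by rw [← e']; group
    have := Nat.eq_zero_of_dvd_of_lt (hfree _ hd) (by omega)
    exact Fin.ext (by omega)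
  have hinj : Function.Injective g := by
    rintro (_ | i) (_ | j) e
    · rfl
    · exact absurd (congrArg Subtype.val e).symm (hne j)
    · exact absurd (congrArg Subtype.val e) (hne i)
    · rcases le_total (i : ℕ) j with hle | hle
      · exact congrArg some (key2 i j hle e)
      · exact congrArg some (key2 j i hle e.symm).symm
  have := Nat.card_le_card_of_injective g hinj
  rw [Finite.card_option, Nat.card_fin, hk] at this
  omega

/-- For `|S| ≥ 8` the centralizers of involutions normalize `S`. -/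
theorem cent_of_eight [IsSimpleGroup G] (h : EdgeB G q) (S : Sylow 2 G)
    (hns : ¬ Group.IsSolvable G) (h8 : 8 ≤ Nat.card (S : Subgroup G)) :
    ∀ t ∈ (S : Subgroup G), t ≠ 1 →
      centralizer ({t} : Set G) ≤ normalizer ((S : Subgroup G) : Set G) := by
  classical
  haveI : Fact (Nat.Prime 2) := ⟨Nat.prime_two⟩
  haveI := Fact.mk h.prime
  set N := normalizer ((S : Subgroup G) : Set G) with hN
  have hE : InvChar68.ZC.Big8 (S : Subgroup G) :=
    ⟨⟨⟨⟨fun a b => Subtype.ext (h.sylow_comm a.2 b.2).eq⟩⟩, h.two_group_sq S.2⟩, h8⟩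
  have hC : InvChar68.ZC.SolvCent G := fun t ht => h.solvable_centralizer (Or.inl ht)
  obtain ⟨hWodd, hWle⟩ := InvChar68.ZC.gen_facts hC hE
  set W := SigDown91.gen (S : Subgroup G) with hW
  have hθW : ∀ t ∈ (S : Subgroup G), t ≠ 1 → core (centralizer ({t} : Set G)) ≤ W :=
    fun t ht ht1 => SigDown91.le_gen ht ht1
  have hNW : N ≤ normalizer (W : Set G) := by
    intro g hg
    refine mem_normalizer_iff_map_conj_eq.2 ?_
    have hgS := (mem_normalizer_iff_map_conj_eq.1 hg)
    refine eq_of_le_of_card_ge ?_ (le_of_eq (card_map_of_injective (MulAut.conj g).injective).symm)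
    have := InvChar68.ZC.map_gen g (S : Subgroup G)
    erw [hgS] at this
    exact this
  have hcW : ∀ t ∈ (S : Subgroup G), t ≠ 1 → centralizer ({t} : Set G) ≤ normalizer (W : Set G) := by
    intro t ht ht1
    haveI := h.solvable_centralizer (Or.inl (h.sylow_involution ht ht1))
    exact (h.le_core_sup S (h.sylow_le_centralizer ht)).trans
      (sup_le ((hθW t ht ht1).trans Subgroup.le_normalizer) (inf_le_left.trans hNW))
  by_cases hW1 : W = ⊥
  · intro t ht ht1
    haveI := h.solvable_centralizer (Or.inl (h.sylow_involution ht ht1))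
    refine (h.le_core_sup S (h.sylow_le_centralizer ht)).trans (sup_le ?_ inf_le_left)
    exact ((hθW t ht ht1).trans hW1.le).trans bot_le
  -- `W` is a `q`-group
  have hWq : IsPGroup q W := by
    intro x
    have hxodd := orderOf_odd_of_mem hWodd x.2
    by_contra hcon
    push Not at hcon
    obtain ⟨r, hr, hrd, hrq⟩ : ∃ r, r.Prime ∧ r ∣ Nat.card W ∧ r ≠ q := by
      by_contra hno
      push Not at hno
      have hp : IsPGroup q W := IsPGroup.of_card (Nat.eq_prime_pow_of_unique_prime_dvd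
        Nat.card_pos.ne' fun {d} hd hdW => hno d hd hdW)
      obtain ⟨k, hk⟩ := hp x
      exact hcon k hk
    haveI := Fact.mk hr
    obtain ⟨nS, hnS⟩ := S.2.exists_card_eq
    haveI := S.2.isNilpotent
    obtain ⟨P, hP⟩ := Coprime.exists_invariant_sylow (S : Subgroup G) W
      (Subgroup.le_normalizer.trans hNW)
      (hnS ▸ (Nat.coprime_two_left.2 hWodd).pow_left nS) (Or.inl inferInstance) r
    set P' := (P : Subgroup W).map W.subtype with hP'
    have hPodd : Odd (Nat.card P') :=
      hWodd.of_dvd_nat (Subgroup.card_dvd_of_le (map_subtype_le _))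
    have hbot : P' ≤ ⊥ := h.gen_le S.2 (by omega) hPodd hP fun e he he1 y hy => by
      have hyθ : y ∈ core (centralizer ({e} : Set G)) :=
        hWle e he he1 ⟨map_subtype_le _ hy.1, hy.2⟩
      rw [mem_bot, ← orderOf_eq_one_iff]
      have h1 : orderOf y ∣ Nat.card P' := Subgroup.orderOf_dvd_natCard _ hy.1
      obtain ⟨e1, he1'⟩ := (P.2.map W.subtype).exists_card_eq
      rw [he1'] at h1
      obtain ⟨k, hk⟩ := h.core_centralizer_isPGroup (h.sylow_involution he he1) ⟨y, hyθ⟩
      exact Nat.eq_one_of_dvd_coprimes (Nat.Coprime.pow _ _ ((Nat.coprime_primes hr h.prime).2 hrq))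
        h1 (orderOf_dvd_of_pow_eq_one (congrArg Subtype.val hk : y ^ q ^ k = 1))
    have h2 := P.dvd_card_of_dvd_card hrd
    rw [← card_map_of_injective W.subtype_injective, ← hP', le_bot_iff.1 hbot, card_bot] at h2
    exact hr.ne_one (Nat.dvd_one.1 h2)
  -- `N(W)` is strongly embedded, so all involutions are conjugate
  have hH : normalizer (W : Set G) ≠ ⊤ := fun e => by
    haveI : W.Normal := normalizer_eq_top_iff.1 e
    rcases Subgroup.Normal.eq_bot_or_eq_top (inferInstance : W.Normal) with h1 | h1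
    · exact hW1 h1
    · haveI := hWq.isNilpotent
      exact hns (Group.isSolvable_of_surjective (f := W.subtype)
        fun g => ⟨⟨g, h1 ▸ mem_top g⟩, rfl⟩)
  have hse := InvChar68.ZC.stronglyEmbedded_of_local S (H := (⊤ : Subgroup G))
    (M := normalizer (W : Set G)) (by simp) (by
      intro e
      rw [inf_top_eq] at e
      have := h8
      rw [e, card_bot] at this
      omega) hH (Subgroup.le_normalizer.trans hNW) hNW fun t ht _ hto =>
      hcW t ht fun e => by rw [e, orderOf_one] at hto; omega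
  have htrans : ∀ s ∈ (S : Subgroup G), s ≠ 1 → ∀ t ∈ (S : Subgroup G), t ≠ 1 →
      ∃ g ∈ N, g * s * g⁻¹ = t := by
    intro s hs hs1 t ht ht1
    have hc : IsConj (⟨s, mem_top s⟩ : (⊤ : Subgroup G)) ⟨t, mem_top t⟩ :=
      TwoFusionB.isConj_involutions hse
        ((Subgroup.orderOf_mk s _).trans (h.sylow_involution hs hs1))
        ((Subgroup.orderOf_mk t _).trans (h.sylow_involution ht ht1))
    obtain ⟨⟨c, _⟩, hc'⟩ := isConj_iff.1 hc
    have e : c * s * c⁻¹ = t := congrArg Subtype.val hc'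
    haveI : IsMulCommutative (S : Subgroup G) :=
      ⟨⟨fun a b => Subtype.ext (h.sylow_comm a.2 b.2).eq⟩⟩
    obtain ⟨m, hm, hme⟩ := S.conj_eq_normalizer_conj_of_mem s c⁻¹ hs
      (by rw [inv_inv, e]; exact ht)
    rw [inv_inv, e] at hme
    exact ⟨m⁻¹, inv_mem hm, by rw [inv_inv, ← hme]⟩
  obtain ⟨x, hxN, p, hp, hxp, hxfix⟩ := exists_fpf h S (by omega) htrans
  have hSW := h.centralizes S.2 hp hxp hxN hxfix hWq (Subgroup.le_normalizer.trans hNW) (hNW hxN)
  intro t ht ht1
  haveI := h.solvable_centralizer (Or.inl (h.sylow_involution ht ht1))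
  refine (h.le_core_sup S (h.sylow_le_centralizer ht)).trans (sup_le ?_ inf_le_left)
  refine fun y hy => (Subgroup.centralizer_le_normalizer _)
    (mem_centralizer_iff.2 fun s hs => ?_)
  exact ((mem_centralizer_iff.1 (hSW hs)) y (hθW t ht ht1 hy)).symm

/-- Transfer: an element of order `q` fixing one coset gives a proper normal subgroup. -/
theorem exists_normal_of_one_coset (H : Subgroup G) (hq : q.Prime) (R : Subgroup ↥H) [R.Normal]
    (hR : R.index = q) (y : ↥H) (hyo : orderOf y = q) (hyR : y ∉ R)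
    (hfix : ∀ g : G, g⁻¹ * (y : G) * g ∈ H → g ∈ H) :
    ∃ N : Subgroup G, N.Normal ∧ N.index = q := by
  classical
  haveI := Fact.mk hq
  haveI : IsCyclic (↥H ⧸ R) :=
    isCyclic_of_prime_card (p := q) (R.index_eq_card.symm.trans hR)
  letI := IsCyclic.commGroup (α := ↥H ⧸ R)
  let φ : ↥H →* ↥H ⧸ R := QuotientGroup.mk' R
  have hyq : (y : G) ^ q = 1 := by
    rw [← hyo, ← Subgroup.orderOf_coe]; exact pow_orderOf_eq_one _
  haveI := Fintype.ofFinite G
  letI := H.fintypeQuotientOfFiniteIndex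
  set o1 : Quotient (MulAction.orbitRel (zpowers (y : G)) (G ⧸ H)) :=
    Quotient.mk _ (QuotientGroup.mk 1) with ho1
  have hy1 : ∀ k : ℤ, (y : G) ^ k • (QuotientGroup.mk 1 : G ⧸ H) = QuotientGroup.mk 1 := fun k => by
    rw [TwoFusionB.smul_one_eq_iff]; exact zpow_mem y.2 k
  have hout1 : o1.out = QuotientGroup.mk 1 := by
    have hrel : (MulAction.orbitRel (zpowers (y : G)) (G ⧸ H)) o1.out (QuotientGroup.mk 1) :=
      Quotient.exact ((Quotient.out_eq o1).trans ho1)
    obtain ⟨⟨_, k, rfl⟩, hk⟩ := hrel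
    exact hk.symm.trans (hy1 k)
  have hval : MonoidHom.transfer φ (y : G) = φ y := by
    rw [MonoidHom.transfer_eq_prod_quotient_orbitRel_zpowers_quot φ (y : G),
      Finset.prod_eq_single o1]
    · have hper : Function.minimalPeriod ((y : G) • ·) o1.out = 1 := by
        refine Function.minimalPeriod_eq_one_iff_isFixedPt.mpr ?_
        show (y : G) • o1.out = o1.out
        rw [hout1, TwoFusionB.smul_one_eq_iff]; exact y.2
      have hmem : o1.out.out ∈ H := by
        have h1 := QuotientGroup.out_eq' o1.out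
        rw [hout1] at h1
        have := QuotientGroup.eq.1 h1
        rw [mul_one] at this
        rw [hout1]
        exact inv_mem_iff.1 this
      have e : (⟨o1.out.out⁻¹ * (y : G) ^ Function.minimalPeriod ((y : G) • ·) o1.out * o1.out.out,
          QuotientGroup.out_conj_pow_minimalPeriod_mem H (y : G) o1.out⟩ : ↥H) =
          (⟨o1.out.out, hmem⟩ : ↥H)⁻¹ * y * ⟨o1.out.out, hmem⟩ :=
        Subtype.ext (by simp [hper])
      rw [e, map_mul, map_mul, map_inv, mul_comm _ (φ y), inv_mul_cancel_right]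
    · intro o _ ho
      have hnfix : ¬ (y : G) • o.out = o.out := by
        intro hf
        apply ho
        have h1 : o.out.out ∈ H := hfix _ (by
          rw [← TwoFusionB.smul_mk_eq_iff, QuotientGroup.out_eq']; exact hf)
        rw [← Quotient.out_eq o, ho1]
        congr 1
        rw [← QuotientGroup.out_eq' o.out, QuotientGroup.eq, mul_one]
        exact inv_mem h1
      have hper : Function.minimalPeriod ((y : G) • ·) o.out = q :=
        Function.minimalPeriod_eq_prime (by
          show ((y : G) • ·)^[q] o.out = o.out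
          simp [smul_iterate, hyq]) hnfix
      have e : (⟨o.out.out⁻¹ * (y : G) ^ Function.minimalPeriod ((y : G) • ·) o.out * o.out.out,
          QuotientGroup.out_conj_pow_minimalPeriod_mem H (y : G) o.out⟩ : ↥H) = 1 :=
        Subtype.ext (by simp [hper, hyq])
      rw [e, map_one]
    · intro h; exact absurd (Finset.mem_univ _) h
  refine ⟨(MonoidHom.transfer φ).ker, inferInstance, ?_⟩
  have hne : (MonoidHom.transfer φ).range ≠ ⊥ := fun e => hyR ((QuotientGroup.eq_one_iff y).1 (by
    have : MonoidHom.transfer φ (y : G) ∈ (MonoidHom.transfer φ).range := ⟨_, rfl⟩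
    rw [e, mem_bot, hval] at this
    exact this))
  rw [Subgroup.index_ker]
  have hdvd : Nat.card (MonoidHom.transfer φ).range ∣ q :=
    (Subgroup.card_subgroup_dvd_card _).trans (R.index_eq_card.symm.trans hR).dvd
  exact ((Nat.dvd_prime hq).1 hdvd).resolve_left fun e => hne (card_eq_one.1 e)

/-- In a nonabelian simple group with an element of order `2 * q`, some involution centralizer
does not normalize `S`. -/
theorem not_cent [IsSimpleGroup G] (h : EdgeB G q) (hG : ¬ IsMulCommutative G) (S : Sylow 2 G)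
    (h4 : 4 ≤ Nat.card (S : Subgroup G)) (hedge : ∃ x : G, orderOf x = 2 * q) :
    ¬ ∀ t ∈ (S : Subgroup G), t ≠ 1 →
      centralizer ({t} : Set G) ≤ normalizer ((S : Subgroup G) : Set G) := by
  intro hcent
  haveI : Fact (Nat.Prime 2) := ⟨Nat.prime_two⟩
  have hproper : normalizer ((S : Subgroup G) : Set G) ≠ ⊤ := fun e => by
    haveI : (S : Subgroup G).Normal := normalizer_eq_top_iff.1 e
    rcases Subgroup.Normal.eq_bot_or_eq_top (inferInstance : (S : Subgroup G).Normal) with h1 | h1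
    · rw [h1, card_bot] at h4; omega
    · exact hG ⟨⟨fun a b => (h.sylow_comm (S := S) (h1 ▸ mem_top a) (h1 ▸ mem_top b)).eq⟩⟩
  have hSE := SE.mk' h S h4 hcent hproper
  rcases hSE.nonreg (hSE.not_reg hedge) with ⟨R, hRn, hR, y, hyo, hyR, hfix⟩ | ⟨-, h8, hne⟩
  · obtain ⟨N, hN, hNi⟩ := exists_normal_of_one_coset _ h.prime R hR y hyo hyR hfix
    haveI := hN
    rcases Subgroup.Normal.eq_bot_or_eq_top (inferInstance : N.Normal) with h1 | h1
    · rw [h1, Subgroup.index_bot] at hNi
      haveI := isCyclic_of_prime_card (α := G) (hp := ⟨h.prime⟩) hNi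
      exact hG ⟨⟨IsCyclic.commGroup.mul_comm⟩⟩
    · rw [h1, index_top] at hNi; exact h.prime.ne_one hNi.symm
  · exact hne (S3189.result hG S
      ⟨⟨⟨fun a b => Subtype.ext (h.sylow_comm a.2 b.2).eq⟩⟩, h.two_group_sq S.2⟩ h8
      fun t ht => h.solvable_centralizer (Or.inl ht))

/-- A nonabelian simple group with an element of order `2 * q` is `PSL₂` over a field of odd
order, with Sylow `2`-subgroups of order four. -/
theorem simple_edge [IsSimpleGroup G] (h : EdgeB G q) (hG : ¬ IsMulCommutative G)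
    (S : Sylow 2 G) (hedge : ∃ x : G, orderOf x = 2 * q) :
    Nat.card (S : Subgroup G) = 4 ∧ ∃ (F : Type) (_ : Field F) (_ : Fintype F),
      Odd (Fintype.card F) ∧ Nonempty (G ≃* Matrix.ProjectiveSpecialLinearGroup (Fin 2) F) := by
  classical
  haveI : Fact (Nat.Prime 2) := ⟨Nat.prime_two⟩
  obtain ⟨x, hx⟩ := hedge
  have hev : 2 ∣ Nat.card G := (dvd_mul_right 2 q).trans (hx ▸ orderOf_dvd_natCard x)
  have hns : ¬ Group.IsSolvable G := fun hs => hG
    ⟨⟨fun a b => IsSimpleGroup.comm_iff_isSolvable.2 hs a b⟩⟩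
  have hnc := SmallGroups.not_isCyclic_sylow_minFac hG ((Nat.minFac_eq_two_iff _).2 hev) S
  obtain ⟨n, hn⟩ := S.2.exists_card_eq
  have hn2 : 2 ≤ n := by
    by_contra hn2
    apply hnc
    rcases Nat.lt_or_ge n 1 with h0 | h1
    · obtain rfl : n = 0 := by omega
      rw [pow_zero] at hn
      haveI := (Nat.card_eq_one_iff_unique.1 hn).1
      infer_instance
    · obtain rfl : n = 1 := by omega
      exact isCyclic_of_prime_card (p := 2) (by rw [hn, pow_one])
  have h4 : 4 ≤ Nat.card (S : Subgroup G) := hn ▸ Nat.pow_le_pow_right (n := 2) two_pos hn2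
  have hS4 : Nat.card (S : Subgroup G) = 4 := by
    by_contra hne
    have h3 : 3 ≤ n := by
      by_contra h3
      obtain rfl : n = 2 := by omega
      exact hne hn
    exact not_cent h hG S h4 ⟨x, hx⟩ (cent_of_eight h S hns
      (hn ▸ Nat.pow_le_pow_right (n := 2) two_pos h3))
  refine ⟨hS4, ?_⟩
  rcases rank_two h S hS4 hns with hl | ⟨-, hinv, hloc⟩
  · exact absurd hl (not_cent h hG S h4 ⟨x, hx⟩)
  haveI : Nontrivial (S : Subgroup G) := Finite.one_lt_card_iff_nontrivial.1 (by omega)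
  obtain ⟨⟨t, ht⟩, ht1'⟩ := exists_ne (1 : (S : Subgroup G))
  have ht1 : t ≠ 1 := fun e => ht1' (Subtype.ext e)
  haveI : IsKleinFour (S : Subgroup G) :=
    ⟨by rw [hS4], Monoid.exponent_eq_prime_iff Nat.prime_two |>.2 fun v hv => by
      refine orderOf_two (Subtype.ext ?_) hv
      exact h.two_group_sq S.2 v v.2⟩
  have hto := h.sylow_involution ht ht1
  refine S0508.result S 2 le_rfl IsKleinFour.nonempty_mulEquiv t hto ht
    (fun s hs => (h.sylow_comm hs ht).eq) (core (centralizer ({t} : Set G))) rfl ?_ ?_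
    (hloc t ht ht1)
  · intro hO
    have heq : (S : Subgroup G) ⊓ centralizer (core (centralizer ({t} : Set G)) : Set G) =
        zpowers t := by
      refine le_antisymm ?_ ?_
      · rintro s ⟨hs, hsc⟩
        by_cases hs1 : s = 1
        · rw [hs1]; exact one_mem _
        by_cases hst : s = t
        · rw [hst]; exact mem_zpowers t
        exfalso
        refine hO ((Subgroup.eq_bot_iff_forall _).2 fun y hy => ?_)
        have h1 := hinv t ht ht1 s hs hs1 hst y hy
        rw [← mem_centralizer_iff.1 hsc y hy, mul_inv_cancel_right] at h1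
        have h2 : y ^ 2 = 1 := by rw [sq]; nth_rewrite 2 [h1]; exact mul_inv_cancel y
        exact orderOf_eq_one_iff.1 ((Nat.coprime_two_right.2
          (orderOf_odd_of_mem (core_odd _) hy)).eq_one_of_dvd (orderOf_dvd_iff_pow_eq_one.2 h2))
      · rw [zpowers_le]
        exact ⟨ht, mem_centralizer_iff.2 fun y hy =>
          mem_centralizer_singleton_iff.1 (core_le _ hy)⟩
    rw [heq]
    refine ⟨inferInstance, ?_⟩
    have h1 := Subgroup.card_mul_index ((zpowers t).subgroupOf (S : Subgroup G))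
    rw [Nat.card_congr (Subgroup.subgroupOfEquivOfLe (zpowers_le.2 ht)).toEquiv, Nat.card_zpowers,
      hto, hS4] at h1
    show ((zpowers t).subgroupOf (S : Subgroup G)).index = 2
    omega
  · intro s hs hsc y hy
    refine hinv t ht ht1 s hs (fun e => hsc (e ▸ one_mem _)) (fun e => hsc ?_) y hy
    rw [e]
    exact mem_centralizer_iff.2 fun z hz => mem_centralizer_singleton_iff.1 (core_le _ hz)

end Cfsg.Agent.Three68
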