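import Cfsg.Agent.Three68.RankTwo

/-!
# `N(S)` strongly embedded: involution counting and the Frobenius case
-/

set_option autoImplicit false
set_option linter.style.haveILetI false

namespace Cfsg.Agent.Three68

open Subgroup

universe u

variable {G : Type u} [Group G] [Finite G] {q : ℕ}

/-- The centralizers of the involutions of `S` normalize `S`, and all involutions are conjugate. -/
structure SE (G : Type u) [Group G] (q : ℕ) (S : Sylow 2 G) : Prop where
  edge : EdgeB G q
  four : 4 ≤ Nat.card (S : Subgroup G)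
  cent : ∀ t ∈ (S : Subgroup G), t ≠ 1 →
    centralizer ({t} : Set G) ≤ normalizer ((S : Subgroup G) : Set G)
  conj : ∀ s t : G, orderOf s = 2 → orderOf t = 2 → IsConj s t
  proper : normalizer ((S : Subgroup G) : Set G) ≠ ⊤

variable {S : Sylow 2 G}

local notation "M" => normalizer ((S : Subgroup G) : Set G)

local notation "C" => centralizer ((S : Subgroup G) : Set G)

/-- Every element of odd order of `N(S)` fixing an involution of `S` centralizes `S`. -/
def Reg (S : Sylow 2 G) : Prop :=
  ∀ x ∈ normalizer ((S : Subgroup G) : Set G), ∀ t ∈ (S : Subgroup G), t ≠ 1 → Commute x t →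
    x ∈ centralizer ((S : Subgroup G) : Set G)

/-- The elements of `M` inverted by `u`. -/
def InvSet (S : Sylow 2 G) (u : G) : Set G :=
  {x | x ∈ normalizer ((S : Subgroup G) : Set G) ∧ u * x * u = x⁻¹}

omit [Finite G] in
theorem mul_self_one {u : G} (hu : orderOf u = 2) : u * u = 1 := by
  rw [← sq, ← hu, pow_orderOf_eq_one]

omit [Finite G] in
theorem involution_inv {u : G} (hu : orderOf u = 2) : u⁻¹ = u :=
  inv_eq_of_mul_eq_one_right (mul_self_one hu)

theorem mem_sylow_of_sq {x : G} (hx : x ∈ M) (h2 : x ^ 2 = 1) : x ∈ (S : Subgroup G) := by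
  haveI : Fact (Nat.Prime 2) := ⟨Nat.prime_two⟩
  have hp : IsPGroup 2 ((S : Subgroup G) ⊔ zpowers x : Subgroup G) := by
    refine IsPGroup.to_sup_of_normal_left' S.2 ?_ (zpowers_le.2 hx)
    have hd : orderOf x ∣ 2 := orderOf_dvd_iff_pow_eq_one.2 h2
    obtain ⟨k, -, hk⟩ := (Nat.dvd_prime_pow Nat.prime_two).1 (by rwa [pow_one] : orderOf x ∣ 2 ^ 1)
    exact IsPGroup.of_card (n := k) (by rw [Nat.card_zpowers, hk])
  rw [← S.3 hp le_sup_left]
  exact (le_sup_right : zpowers x ≤ _) (mem_zpowers _)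

namespace SE

variable (h : SE G q S)

include h in
theorem involution {t : G} (ht : t ∈ (S : Subgroup G)) (ht1 : t ≠ 1) : orderOf t = 2 :=
  h.edge.sylow_involution ht ht1

include h in
theorem le_cent {t : G} (ht : t ∈ (S : Subgroup G)) :
    (S : Subgroup G) ≤ centralizer ({t} : Set G) :=
  h.edge.sylow_le_centralizer ht

include h in
/-- `S` meets its other conjugates trivially. -/
theorem mem_of_conj {g t : G} (ht : t ∈ (S : Subgroup G)) (ht1 : t ≠ 1)
    (hg : g * t * g⁻¹ ∈ (S : Subgroup G)) : g ∈ M := by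
  have hle : ∀ x ∈ (S : Subgroup G), g * x * g⁻¹ ∈ M := fun x hx => by
    refine h.cent _ hg (fun e => ht1 (conj_eq_one_iff.1 e)) (mem_centralizer_singleton_iff.2 ?_)
    calc g * x * g⁻¹ * (g * t * g⁻¹) = g * (x * t) * g⁻¹ := by group
      _ = g * (t * x) * g⁻¹ := by rw [(h.edge.sylow_comm hx ht).eq]
      _ = _ := by group
  have hin : ∀ x ∈ (S : Subgroup G), g * x * g⁻¹ ∈ (S : Subgroup G) := fun x hx =>
    mem_sylow_of_sq (hle x hx) (by rw [conj_pow, h.edge.two_group_sq S.2 x hx]; group)
  refine mem_normalizer_iff_map_conj_eq.2 (eq_of_le_of_card_ge ?_ ?_)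
  · rintro _ ⟨x, hx, rfl⟩
    exact hin x hx
  · rw [card_map_of_injective (MulAut.conj g).injective]

include h in
theorem exists_ne_one : ∃ t ∈ (S : Subgroup G), t ≠ 1 := by
  haveI : Nontrivial (S : Subgroup G) :=
    Finite.one_lt_card_iff_nontrivial.1 (by have := h.four; omega)
  obtain ⟨⟨t, ht⟩, ht1⟩ := exists_ne (1 : (S : Subgroup G))
  exact ⟨t, ht, fun e => ht1 (Subtype.ext e)⟩

include h in
/-- Every involution is a conjugate of one in `S`. -/
theorem exists_point {v : G} (hv : orderOf v = 2) :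
    ∃ g, ∃ s ∈ (S : Subgroup G), s ≠ 1 ∧ g * s * g⁻¹ = v := by
  obtain ⟨t, ht, ht1⟩ := h.exists_ne_one
  obtain ⟨g, hg⟩ := isConj_iff.1 (h.conj t v (h.involution ht ht1) hv)
  exact ⟨g, t, ht, ht1, hg⟩

include h in
theorem transitive {s t : G} (hs : s ∈ (S : Subgroup G)) (hs1 : s ≠ 1)
    (ht : t ∈ (S : Subgroup G)) (ht1 : t ≠ 1) : ∃ g ∈ M, g * s * g⁻¹ = t := by
  obtain ⟨g, hg⟩ := isConj_iff.1 (h.conj s t (h.involution hs hs1) (h.involution ht ht1))
  exact ⟨g, h.mem_of_conj hs hs1 (hg.symm ▸ ht), hg⟩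

include h in
/-- A centralizer of a conjugated involution lies in the conjugated normalizer. -/
theorem conj_mem_of_commute {g s c : G} (hs : s ∈ (S : Subgroup G)) (hs1 : s ≠ 1)
    (hc : Commute c (g * s * g⁻¹)) : g⁻¹ * c * g ∈ M ∧ Commute (g⁻¹ * c * g) s := by
  have h1 : Commute (g⁻¹ * c * g) s := by
    show g⁻¹ * c * g * s = s * (g⁻¹ * c * g)
    calc g⁻¹ * c * g * s = g⁻¹ * (c * (g * s * g⁻¹)) * g := by group
      _ = g⁻¹ * (g * s * g⁻¹ * c) * g := by rw [hc.eq]
      _ = _ := by group
  exact ⟨h.cent s hs hs1 (mem_centralizer_singleton_iff.2 h1.eq), h1⟩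

include h in
/-- An involution inverts no element of odd order in the normalizer of its own Sylow subgroup. -/
theorem eq_one_of_inverted {g s z : G} (hs : s ∈ (S : Subgroup G))
    (hz : g⁻¹ * z * g ∈ M) (hodd : Odd (orderOf z))
    (hinv : g * s * g⁻¹ * z * (g * s * g⁻¹) = z⁻¹) : z = 1 := by
  set z' := g⁻¹ * z * g with hz'
  have hss : s * s = 1 := by rw [← sq]; exact h.edge.two_group_sq S.2 s hs
  have h1 : s * z' * s⁻¹ = z'⁻¹ := by
    rw [inv_eq_of_mul_eq_one_right hss]
    calc s * z' * s = g⁻¹ * (g * s * g⁻¹ * z * (g * s * g⁻¹)) * g := by rw [hz']; group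
      _ = g⁻¹ * z⁻¹ * g := by rw [hinv]
      _ = z'⁻¹ := by rw [hz']; group
  have h2 : z'⁻¹ * z'⁻¹ ∈ (S : Subgroup G) := by
    have : s * (z' * s⁻¹ * z'⁻¹) ∈ (S : Subgroup G) :=
      mul_mem hs ((mem_normalizer_iff.1 hz _).1 (inv_mem hs))
    rwa [← mul_assoc, ← mul_assoc, h1] at this
  have h3 : (z'⁻¹ * z'⁻¹) ^ 2 = 1 := h.edge.two_group_sq S.2 _ h2
  have h4 : orderOf z' = orderOf z := by
    simpa [hz', MulAut.conj_apply] using
      orderOf_injective (MulAut.conj g⁻¹).toMonoidHom (MulAut.conj g⁻¹).injective z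
  have h5 : z' ^ (2 ^ 2) = 1 := by
    rw [← inv_inj, ← inv_pow, inv_one, ← h3]; simp [sq, pow_succ, mul_assoc]
  have h6 : orderOf z' = 1 := ((Nat.coprime_two_right.2 (h4 ▸ hodd)).pow_right 2).eq_one_of_dvd
    (orderOf_dvd_iff_pow_eq_one.2 h5)
  rw [h4, orderOf_eq_one_iff] at h6
  exact h6

include h in
/-- The centralizer of an element of odd order centralizing `S` lies in `N(S)`. -/
theorem centralizer_le {e : G} (he : e ∈ C) (he1 : e ≠ 1) (hodd : Odd (orderOf e)) :
    centralizer ({e} : Set G) ≤ M := by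
  obtain ⟨t, ht, ht1⟩ := h.exists_ne_one
  have hcomm : ∀ s ∈ (S : Subgroup G), Commute s e := fun s hs => mem_centralizer_iff.1 he s hs
  have heq : e ^ q = 1 := h.edge.odd_commute (h.involution ht ht1) (hcomm t ht) hodd
  haveI := Fact.mk h.edge.prime
  have heo : orderOf e = q := orderOf_eq_prime heq he1
  haveI := h.edge.solvable_centralizer (Or.inr heo)
  have hSL : (S : Subgroup G) ≤ centralizer ({e} : Set G) := fun s hs =>
    mem_centralizer_singleton_iff.2 (hcomm s hs).eq
  refine (h.edge.le_core_sup S hSL).trans (sup_le ?_ inf_le_left)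
  exact h.edge.gen_le S.2 h.four (core_odd _) (hSL.trans (le_normalizer_core _))
    fun a ha ha1 => inf_le_right.trans (h.cent a ha ha1)

include h in
theorem centralizer_sylow_le : C ≤ M := fun x hx => (Subgroup.centralizer_le_normalizer _) hx

include h in
theorem not_mem_of_mem {u : G} (hu : orderOf u = 2) (huM : u ∉ M) {x : G} (hx : x ∈ M)
    (hx' : u * x * u ∈ M) (h2 : x ^ 2 = 1) : x = 1 := by
  by_contra hx1
  refine huM (h.mem_of_conj (mem_sylow_of_sq hx h2) hx1 (mem_sylow_of_sq ?_ ?_))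
  · rwa [involution_inv hu]
  · rw [conj_pow, h2]; group

include h in
theorem odd_of_mem {u : G} (hu : orderOf u = 2) (huM : u ∉ M) {x : G} (hx : x ∈ M)
    (hx' : u * x * u ∈ M) : Odd (orderOf x) := by
  by_contra hev
  obtain ⟨k, hk⟩ := Nat.not_odd_iff_even.1 hev
  have hk0 : k ≠ 0 := fun e => (orderOf_pos x).ne' (by omega)
  have h2 : (x ^ k) ^ 2 = 1 := by rw [← pow_mul, mul_two, ← hk, pow_orderOf_eq_one]
  have h1 : x ^ k = 1 := h.not_mem_of_mem hu huM (pow_mem hx k) (by
    have : (u * x * u) ^ k = u * x ^ k * u := by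
      conv_lhs => rw [show u * x * u = u * x * u⁻¹ by rw [involution_inv hu]]
      rw [conj_pow, involution_inv hu]
    exact this ▸ pow_mem hx' k) h2
  have := Nat.le_of_dvd (Nat.pos_of_ne_zero hk0) (orderOf_dvd_iff_pow_eq_one.2 h1)
  omega

/-! ### Counting involutions along the cosets of `N(S)` -/

/-- The number of involutions of `S`. -/
noncomputable def mm (S : Sylow 2 G) : ℕ := Nat.card {s : G // s ∈ (S : Subgroup G) ∧ s ≠ 1}

include h in
theorem mm_succ : mm S + 1 = Nat.card (S : Subgroup G) := by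
  classical
  let e : {s : G // s ∈ (S : Subgroup G) ∧ s ≠ 1} ≃ {x : (S : Subgroup G) // x ≠ 1} :=
    ⟨fun s => ⟨⟨s.1, s.2.1⟩, fun e => s.2.2 (congrArg Subtype.val e)⟩,
      fun x => ⟨x.1.1, x.1.2, fun e => x.2 (Subtype.ext e)⟩, fun _ => rfl, fun _ => rfl⟩
  have := Fintype.ofFinite (S : Subgroup G)
  rw [mm, Nat.card_congr e, Nat.card_eq_fintype_card, Nat.card_eq_fintype_card,
    Fintype.card_subtype_compl, Fintype.card_subtype_eq]
  have := Fintype.card_pos (α := (S : Subgroup G))
  omega

include h in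
theorem three_le_mm : 3 ≤ mm S := by have := h.mm_succ; have := h.four; omega

include h in
theorem card_involutions :
    Nat.card {v : G // orderOf v = 2} = (normalizer ((S : Subgroup G) : Set G)).index * mm S := by
  classical
  rw [Subgroup.index_eq_card, mm, ← Nat.card_prod]
  refine (Nat.card_congr (Equiv.ofBijective
    (fun p : (G ⧸ M) × {s : G // s ∈ (S : Subgroup G) ∧ s ≠ 1} =>
      (⟨p.1.out * p.2.1 * p.1.out⁻¹, by
        rw [← MulAut.conj_apply, MulEquiv.orderOf_eq]
        exact h.involution p.2.2.1 p.2.2.2⟩ : {v : G // orderOf v = 2})) ⟨?_, ?_⟩)).symm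
  · rintro ⟨a, s, hs, hs1⟩ ⟨b, t, ht, ht1⟩ e
    have e' : a.out * s * a.out⁻¹ = b.out * t * b.out⁻¹ := congrArg Subtype.val e
    have hs' : b.out⁻¹ * a.out * s * (b.out⁻¹ * a.out)⁻¹ = t := by
      calc b.out⁻¹ * a.out * s * (b.out⁻¹ * a.out)⁻¹
          = b.out⁻¹ * (a.out * s * a.out⁻¹) * b.out := by group
        _ = b.out⁻¹ * (b.out * t * b.out⁻¹) * b.out := by rw [e']
        _ = t := by group
    have hab : b = a := by
      rw [← QuotientGroup.out_eq' a, ← QuotientGroup.out_eq' b, QuotientGroup.eq]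
      exact h.mem_of_conj hs hs1 (hs'.symm ▸ ht)
    subst hab
    have : s = t := by rw [← hs']; group
    subst this
    rfl
  · rintro ⟨v, hv⟩
    obtain ⟨g, s, hs, hs1, rfl⟩ := h.exists_point hv
    obtain ⟨x, hx⟩ := QuotientGroup.mk_out_eq_mul M g
    refine ⟨((g : G ⧸ M), ⟨(x : G)⁻¹ * s * x, ?_, ?_⟩), Subtype.ext ?_⟩
    · have := (mem_normalizer_iff.1 (inv_mem x.2) s).1 hs
      rwa [inv_inv] at this
    · intro e
      exact hs1 (by
        calc s = (x : G) * ((x : G)⁻¹ * s * x) * (x : G)⁻¹ := by group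
          _ = 1 := by rw [e]; group)
    · simp only [hx]
      group

/-- The fibre over the coset of an involution. -/
def fibreEquiv {u : G} (hu : orderOf u = 2) (huM : u ∉ normalizer ((S : Subgroup G) : Set G)) :
    {v : {v : G // orderOf v = 2} // (QuotientGroup.mk (v : G) :
      G ⧸ normalizer ((S : Subgroup G) : Set G)) = QuotientGroup.mk u} ≃ InvSet S u where
  toFun v := ⟨u⁻¹ * v.1.1, QuotientGroup.eq.1 v.2.symm, by
    have h1 := mul_self_one hu
    rw [involution_inv hu, mul_inv_rev, involution_inv v.1.2, involution_inv hu]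
    simp only [← mul_assoc, h1, one_mul]⟩
  invFun x := ⟨⟨u * x.1, by
    refine orderOf_two ?_ fun e => huM ?_
    · calc (u * x.1) ^ 2 = u * x.1 * u * x.1 := by rw [sq, mul_assoc, mul_assoc, mul_assoc]
        _ = x.1⁻¹ * x.1 := by rw [x.2.2]
        _ = 1 := inv_mul_cancel _
    · rw [eq_inv_of_mul_eq_one_left e]; exact inv_mem x.2.1⟩, by
    rw [QuotientGroup.eq, mul_inv_rev]
    simpa [mul_assoc] using inv_mem x.2.1⟩
  left_inv v := Subtype.ext (Subtype.ext (mul_inv_cancel_left u v.1.1))
  right_inv x := Subtype.ext (inv_mul_cancel_left u x.1)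

include h in
/-- If every coset meets the involutions in at most `mm S` elements, each meets it. -/
theorem exists_in_coset
    (hle : ∀ u, orderOf u = 2 → u ∉ M → (InvSet S u).ncard ≤ mm S) {g : G} (hg : g ∉ M) :
    ∃ u, orderOf u = 2 ∧ g⁻¹ * u ∈ M ∧ u ∉ M ∧ mm S ≤ (InvSet S u).ncard := by
  classical
  haveI := Fintype.ofFinite G
  haveI := Fintype.ofFinite (G ⧸ M)
  let f : {v : G // orderOf v = 2} → G ⧸ M := fun v => QuotientGroup.mk (v : G)
  have hone : Nat.card {v // f v = QuotientGroup.mk 1} = mm S := by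
    refine Nat.card_congr ⟨fun v => ⟨v.1.1, ?_, ?_⟩, fun s => ⟨⟨s.1, h.involution s.2.1 s.2.2⟩, ?_⟩,
      fun _ => rfl, fun _ => rfl⟩
    · have := QuotientGroup.eq.1 v.2.symm
      rw [inv_one, one_mul] at this
      exact mem_sylow_of_sq this (orderOf_dvd_iff_pow_eq_one.1 v.1.2.dvd)
    · intro e
      have := v.1.2
      rw [e, orderOf_one] at this
      omega
    · show (QuotientGroup.mk s.1 : G ⧸ M) = QuotientGroup.mk 1
      rw [QuotientGroup.eq, mul_one]
      exact inv_mem (Subgroup.le_normalizer s.2.1)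
  have hfib : ∀ a, Nat.card {v // f v = a} ≤ mm S := by
    intro a
    by_cases ha : ∃ v, f v = a
    · obtain ⟨⟨u, hu⟩, rfl⟩ := ha
      by_cases huM : u ∈ M
      · refine le_of_eq ?_
        have e : f ⟨u, hu⟩ = QuotientGroup.mk 1 := QuotientGroup.eq.2 (by simpa using inv_mem huM)
        rw [e]; exact hone
      · rw [show Nat.card {v // f v = f ⟨u, hu⟩} = Nat.card (InvSet S u) from
          Nat.card_congr (fibreEquiv hu huM), Nat.card_coe_set_eq]
        exact hle u hu huM
    · haveI : IsEmpty {v // f v = a} := ⟨fun v => ha ⟨v.1, v.2⟩⟩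
      rw [Nat.card_of_isEmpty]; exact Nat.zero_le _
  have hsum : ∑ a, Nat.card {v // f v = a} = ∑ _a : G ⧸ M, mm S := by
    rw [← Nat.card_sigma, Nat.card_congr (Equiv.sigmaFiberEquiv f), h.card_involutions,
      Finset.sum_const, Finset.card_univ, smul_eq_mul, Subgroup.index_eq_card,
      Nat.card_eq_fintype_card]
  have hgeq := (Finset.sum_eq_sum_iff_of_le fun a _ => hfib a).1 hsum (QuotientGroup.mk g)
    (Finset.mem_univ _)
  have hpos : 0 < Nat.card {v // f v = QuotientGroup.mk g} := by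
    have := h.three_le_mm; omega
  obtain ⟨⟨⟨⟨u, hu⟩, hue⟩⟩, -⟩ := Nat.card_pos_iff.1 hpos
  have hmem : g⁻¹ * u ∈ M := QuotientGroup.eq.1 hue.symm
  have huM : u ∉ M := fun hh => hg (by simpa using mul_mem hh (inv_mem hmem))
  refine ⟨u, hu, hmem, huM, ?_⟩
  have : Nat.card (InvSet S u) = Nat.card {v // f v = QuotientGroup.mk g} := by
    rw [← Nat.card_congr (fibreEquiv hu huM)]
    exact Nat.card_congr (Equiv.subtypeEquivRight fun v => by
      show QuotientGroup.mk (v : G) = QuotientGroup.mk u ↔ _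
      rw [← hue])
  rw [← Nat.card_coe_set_eq, this, hgeq]

/-! ### The regular case -/

variable (hreg : Reg S)

include h hreg in
theorem index_centralizer : ((C).subgroupOf M).index = mm S := by
  classical
  obtain ⟨t, ht, ht1⟩ := h.exists_ne_one
  have key : ∀ x y : ↥M, x⁻¹ * y ∈ (C).subgroupOf M ↔
      (x : G) * t * (x : G)⁻¹ = (y : G) * t * (y : G)⁻¹ := by
    intro x y
    constructor
    · intro hh
      have hc : t * ((x : G)⁻¹ * y) = (x : G)⁻¹ * y * t := mem_centralizer_iff.1 hh t ht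
      calc (x : G) * t * (x : G)⁻¹ = x * (t * ((x : G)⁻¹ * y)) * (y : G)⁻¹ := by group
        _ = x * ((x : G)⁻¹ * y * t) * (y : G)⁻¹ := by rw [hc]
        _ = _ := by group
    · intro e
      show ((x⁻¹ * y : ↥M) : G) ∈ C
      refine hreg _ (x⁻¹ * y).2 t ht ht1 ?_
      show (x : G)⁻¹ * y * t = t * ((x : G)⁻¹ * y)
      calc (x : G)⁻¹ * y * t = (x : G)⁻¹ * ((y : G) * t * (y : G)⁻¹) * y := by group
        _ = (x : G)⁻¹ * ((x : G) * t * (x : G)⁻¹) * y := by rw [e]
        _ = _ := by group
  have hmem : ∀ x : ↥M, (x : G) * t * (x : G)⁻¹ ∈ (S : Subgroup G) ∧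
      (x : G) * t * (x : G)⁻¹ ≠ 1 := fun x =>
    ⟨(mem_normalizer_iff.1 x.2 t).1 ht, fun e => ht1 (conj_eq_one_iff.1 e)⟩
  rw [Subgroup.index_eq_card, mm]
  refine Nat.card_congr (Equiv.ofBijective (Quotient.lift
    (fun x : ↥M => (⟨(x : G) * t * (x : G)⁻¹, hmem x⟩ : {s : G // s ∈ (S : Subgroup G) ∧ s ≠ 1}))
    fun x y e => Subtype.ext ((key x y).1 (QuotientGroup.leftRel_apply.1 e))) ⟨?_, ?_⟩)
  · rintro ⟨x⟩ ⟨y⟩ e
    exact Quotient.sound (QuotientGroup.leftRel_apply.2 ((key x y).2 (congrArg Subtype.val e)))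
  · rintro ⟨s, hs, hs1⟩
    obtain ⟨g, hg, hge⟩ := h.transitive ht ht1 hs hs1
    exact ⟨QuotientGroup.mk ⟨g, hg⟩, Subtype.ext hge⟩

include h in
theorem eq_one_of_centralize {u : G} (hu : orderOf u = 2) (huM : u ∉ M) {x : G} (hx : x ∈ C)
    (hx' : u * x * u ∈ C) (hodd : Odd (orderOf x)) : x = 1 := by
  by_contra hx1
  obtain ⟨t, ht, ht1⟩ := h.exists_ne_one
  refine huM (h.mem_of_conj ht ht1 (mem_sylow_of_sq ?_ ?_))
  · refine h.centralizer_le hx hx1 hodd (mem_centralizer_singleton_iff.2 ?_)
    have hc := mem_centralizer_iff.1 hx' t ht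
    rw [involution_inv hu]
    calc u * t * u * x = u * (t * (u * x * u)) * u⁻¹ := by
          rw [involution_inv hu, show u * (t * (u * x * u)) * u = u * t * u * x * (u * u) by group,
            mul_self_one hu, mul_one]
      _ = u * (u * x * u * t) * u⁻¹ := by rw [hc]
      _ = u * u * x * (u * t * u⁻¹) := by group
      _ = _ := by rw [mul_self_one hu, one_mul, involution_inv hu]
  · rw [conj_pow, h.edge.two_group_sq S.2 t ht]; group

include h hreg in
/-- `D ⊓ C(S) = 1` in the regular case. -/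
theorem eq_one_of_mem {u : G} (hu : orderOf u = 2) (huM : u ∉ M) {e : G} (he : e ∈ C)
    (he' : u * e * u ∈ M) : e = 1 := by
  have huu := mul_self_one hu
  have hui := involution_inv hu
  have heM := h.centralizer_sylow_le he
  have hodd := h.odd_of_mem hu huM heM he'
  by_contra he1
  set y := u * e * u with hy
  have hyodd : Odd (orderOf y) := by
    have : orderOf y = orderOf e := by
      simpa [hy, hui, MulAut.conj_apply] using
        orderOf_injective (MulAut.conj u).toMonoidHom (MulAut.conj u).injective e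
    rwa [this]
  have huy : u * y * u = e := by
    rw [hy]
    calc u * (u * e * u) * u = u * u * e * (u * u) := by group
      _ = e := by rw [huu, one_mul, mul_one]
  have hCn : ∀ g ∈ M, ∀ x ∈ C, g * x * g⁻¹ ∈ C := by
    intro g hg x hx
    refine mem_centralizer_iff.2 fun s hs => ?_
    have hs' : g⁻¹ * s * g ∈ (S : Subgroup G) := by
      have := (mem_normalizer_iff.1 (inv_mem hg) s).1 hs
      rwa [inv_inv] at this
    have hc := mem_centralizer_iff.1 hx _ hs'
    calc s * (g * x * g⁻¹) = g * (g⁻¹ * s * g * x) * g⁻¹ := by group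
      _ = g * (x * (g⁻¹ * s * g)) * g⁻¹ := by rw [hc]
      _ = _ := by group
  -- `e` and `y` commute
  have hey : Commute e y := by
    set k := e * y * e⁻¹ * y⁻¹ with hk
    have hk1 : k ∈ C := by
      rw [hk, mul_assoc, mul_assoc, ← mul_assoc y]
      exact mul_mem he (hCn y he' _ (inv_mem he))
    have hk2 : u * k * u ∈ C := by
      have e1 : u * k * u = y * e * y⁻¹ * e⁻¹ := by
        calc u * k * u = (u * e * u) * (u * y * u) * (u * e * u)⁻¹ * (u * y * u)⁻¹ := by
              rw [hk]
              simp only [mul_inv_rev, hui, mul_assoc]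
              simp only [← mul_assoc, huu, one_mul]
          _ = _ := by rw [huy]
      rw [e1]
      exact mul_mem (hCn y he' e he) (inv_mem he)
    have hk3 := h.odd_of_mem hu huM (h.centralizer_sylow_le hk1) (h.centralizer_sylow_le hk2)
    have hk4 := h.eq_one_of_centralize hu huM hk1 hk2 hk3
    rw [hk, mul_inv_eq_one, mul_inv_eq_iff_eq_mul] at hk4
    exact hk4
  set c := e * y with hc
  have hcu : u * c * u = c := by
    calc u * c * u = (u * e * u) * (u * y * u) := by
          rw [hc, show u * (e * y) * u = u * e * 1 * y * u by group, ← huu]; group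
      _ = y * e := by rw [huy]
      _ = c := hey.eq.symm
  by_cases hc1 : c = 1
  · exact he1 (h.eq_one_of_centralize hu huM he
      (by
        have : y = e⁻¹ := eq_inv_of_mul_eq_one_right hc1
        rw [← hy, this]; exact inv_mem he) hodd)
  have hcodd : Odd (orderOf c) :=
    (hodd.mul hyodd).of_dvd_nat hey.orderOf_mul_dvd_mul_orderOf
  obtain ⟨g, s, hs, hs1, hgs⟩ := h.exists_point hu
  have hcc : Commute c (g * s * g⁻¹) := by
    rw [hgs]
    calc c * u = u * u * (c * u) := by rw [huu, one_mul]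
      _ = u * (u * c * u) := by group
      _ = u * c := by rw [hcu]
  obtain ⟨hc'M, hc's⟩ := h.conj_mem_of_commute hs hs1 hcc
  have hc'C := hreg _ hc'M s hs hs1 hc's
  have hc'o : Odd (orderOf (g⁻¹ * c * g)) := by
    have : orderOf (g⁻¹ * c * g) = orderOf c := by
      simpa [MulAut.conj_apply] using
        orderOf_injective (MulAut.conj g⁻¹).toMonoidHom (MulAut.conj g⁻¹).injective c
    rwa [this]
  have hcle := h.centralizer_le hc'C (fun e' => hc1 (by
    calc c = g * (g⁻¹ * c * g) * g⁻¹ := by group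
      _ = 1 := by rw [e']; group)) hc'o
  have hmemc : ∀ x, Commute x c → g⁻¹ * x * g ∈ M := fun x hx => by
    refine hcle (mem_centralizer_singleton_iff.2 ?_)
    calc g⁻¹ * x * g * (g⁻¹ * c * g) = g⁻¹ * (x * c) * g := by group
      _ = g⁻¹ * (c * x) * g := by rw [hx.eq]
      _ = _ := by group
  -- `e y⁻¹` is inverted by `u`
  set z := e * y⁻¹ with hz
  have hzc : Commute z c :=
    ((Commute.refl e).mul_right hey).mul_left ((hey.symm.mul_right (Commute.refl y)).inv_left)
  have hzodd : Odd (orderOf z) :=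
    (hodd.mul (by rwa [orderOf_inv] : Odd (orderOf y⁻¹))).of_dvd_nat
      hey.inv_right.orderOf_mul_dvd_mul_orderOf
  have hz1 : z = 1 := h.eq_one_of_inverted (g := g) hs (hmemc z hzc) hzodd (by
    rw [hgs]
    calc u * z * u = u * e * (u * u) * y⁻¹ * u := by rw [hz, huu, mul_one]; group
      _ = (u * e * u) * (u⁻¹ * y * u⁻¹)⁻¹ := by group
      _ = y * e⁻¹ := by rw [hui, huy]
      _ = z⁻¹ := by rw [hz]; group)
  refine he1 (h.eq_one_of_centralize hu huM he ?_ hodd)
  rw [hz, mul_inv_eq_one] at hz1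
  rw [← hy, ← hz1]
  exact he

include h hreg in
theorem invSet_ncard_le {u : G} (hu : orderOf u = 2) (huM : u ∉ M) :
    (InvSet S u).ncard ≤ mm S := by
  rw [← h.index_centralizer hreg, Subgroup.index_eq_card, ← Nat.card_coe_set_eq]
  refine Nat.card_le_card_of_injective (fun x => QuotientGroup.mk (⟨x.1, x.2.1⟩ : ↥M)) ?_
  rintro ⟨x, hxM, hxu⟩ ⟨y, hyM, hyu⟩ e
  have h1 : x⁻¹ * y ∈ C :=
      (QuotientGroup.eq (a := (⟨x, hxM⟩ : ↥M)) (b := ⟨y, by assumption⟩)).1 e
  have h2 : u * (x⁻¹ * y) * u ∈ M := by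
    have huu := mul_self_one hu
    have e1 : u * (x⁻¹ * y) * u = x * y⁻¹ := by
      calc u * (x⁻¹ * y) * u = u * x⁻¹ * (u * u) * y * u := by rw [huu, mul_one]; group
        _ = (u * x * u)⁻¹ * (u * y * u) := by rw [mul_inv_rev, mul_inv_rev, involution_inv hu]; group
        _ = _ := by rw [hxu, hyu, inv_inv]
    rw [e1]; exact mul_mem hxM (inv_mem hyM)
  exact Subtype.ext (inv_mul_eq_one.1 (h.eq_one_of_mem hreg hu huM h1 h2))

include h hreg in
/-- The regular case with an element of order `2 q`: a Frobenius normalizer. -/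
theorem frobenius (hedge : ∃ x : G, orderOf x = 2 * q) :
    (∃ w ∈ C, w ≠ 1 ∧ Odd (orderOf w)) ∧
    (∀ f ∈ C, f ≠ 1 → centralizer ({f} : Set G) ≤ C) ∧
    (∀ g, ∀ f ∈ C, f ≠ 1 → g * f * g⁻¹ ∈ C → g ∈ M) ∧
    ((C).subgroupOf M).index = mm S ∧
    Nat.card C + 1 ≤ (normalizer ((S : Subgroup G) : Set G)).index := by
  classical
  haveI := Fact.mk h.edge.prime
  obtain ⟨w, hwC, hw1, hwodd⟩ : ∃ w ∈ C, w ≠ 1 ∧ Odd (orderOf w) := by
    obtain ⟨x, hx⟩ := hedge
    have hq0 := h.edge.prime.pos
    have h2 : orderOf (x ^ q) = 2 := by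
      rw [orderOf_pow' _ hq0.ne', hx, Nat.gcd_eq_right (dvd_mul_left q 2),
        Nat.mul_div_cancel _ hq0]
    have hq : orderOf (x ^ 2) = q := by
      rw [orderOf_pow' _ two_ne_zero, hx, Nat.gcd_eq_right (dvd_mul_right 2 q),
        Nat.mul_div_cancel_left _ two_pos]
    obtain ⟨g, s, hs, hs1, hgs⟩ := h.exists_point h2
    obtain ⟨hM', hs'⟩ := h.conj_mem_of_commute hs hs1
      (hgs ▸ (Commute.refl x).pow_pow 2 q : Commute (x ^ 2) (g * s * g⁻¹))
    have ho : orderOf (g⁻¹ * x ^ 2 * g) = q := by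
      rw [← hq]
      simpa [MulAut.conj_apply] using
        orderOf_injective (MulAut.conj g⁻¹).toMonoidHom (MulAut.conj g⁻¹).injective (x ^ 2)
    exact ⟨_, hreg _ hM' s hs hs1 hs',
      fun e => h.edge.prime.ne_one (by rw [← ho, e, orderOf_one]), ho.symm ▸ h.edge.odd⟩
  obtain ⟨g₀, hg₀⟩ : ∃ g, g ∉ M := by
    by_contra hcon
    push Not at hcon
    exact h.proper (eq_top_iff.2 fun x _ => hcon x)
  obtain ⟨u, hu, -, huM, hge⟩ :=
    h.exists_in_coset (fun u hu huM => h.invSet_ncard_le hreg hu huM) hg₀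
  have huu := mul_self_one hu
  have hui := involution_inv hu
  -- `M ⊓ M ^ u` consists of elements inverted by `u`
  let D : Set G := {x | x ∈ M ∧ u * x * u ∈ M}
  have hKD : InvSet S u ⊆ D := fun x hx => ⟨hx.1, hx.2 ▸ inv_mem hx.1⟩
  have hDle : D.ncard ≤ mm S := by
    rw [← h.index_centralizer hreg, Subgroup.index_eq_card, ← Nat.card_coe_set_eq]
    refine Nat.card_le_card_of_injective (fun x => QuotientGroup.mk (⟨x.1, x.2.1⟩ : ↥M)) ?_
    rintro ⟨x, hxM, hxu⟩ ⟨y, hyM, hyu⟩ e
    have h1 : x⁻¹ * y ∈ C :=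
      (QuotientGroup.eq (a := (⟨x, hxM⟩ : ↥M)) (b := ⟨y, by assumption⟩)).1 e
    have h2 : u * (x⁻¹ * y) * u ∈ M := by
      have e1 : u * (x⁻¹ * y) * u = (u * x * u)⁻¹ * (u * y * u) := by
        calc u * (x⁻¹ * y) * u = u * x⁻¹ * (u * u) * y * u := by rw [huu, mul_one]; group
          _ = _ := by rw [mul_inv_rev, mul_inv_rev, hui]; group
      rw [e1]; exact mul_mem (inv_mem hxu) hyu
    exact Subtype.ext (inv_mul_eq_one.1 (h.eq_one_of_mem hreg hu huM h1 h2))
  have hDK : InvSet S u = D := Set.eq_of_subset_of_ncard_le hKD (hDle.trans hge)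
  have hinvD : ∀ x ∈ M, u * x * u ∈ M → u * x * u = x⁻¹ := fun x hx hx' =>
    (hDK.symm ▸ (⟨hx, hx'⟩ : x ∈ D) : x ∈ InvSet S u).2
  -- `q` does not divide the index
  have hqm : ¬ q ∣ mm S := by
    intro hqd
    -- the elements of `D` form a subgroup of order `mm S`
    let Dg : Subgroup G :=
      { carrier := D
        one_mem' := ⟨one_mem _, by rw [mul_one, huu]; exact one_mem _⟩
        mul_mem' := fun {a b} ha hb => ⟨mul_mem ha.1 hb.1, by
          have : u * (a * b) * u = u * a * u * (u * b * u) := by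
            calc u * (a * b) * u = u * a * (u * u) * b * u := by rw [huu, mul_one]; group
              _ = _ := by group
          rw [this]; exact mul_mem ha.2 hb.2⟩
        inv_mem' := fun {a} ha => ⟨inv_mem ha.1, by
          have : u * a⁻¹ * u = (u * a * u)⁻¹ := by rw [mul_inv_rev, mul_inv_rev, hui]; group
          rw [this]; exact inv_mem ha.2⟩ }
    have hDcard : Nat.card Dg = mm S := by
      show Nat.card D = _
      rw [Nat.card_coe_set_eq, ← hDK]
      exact le_antisymm (h.invSet_ncard_le hreg hu huM) hge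
    obtain ⟨⟨d, hdM, hdu⟩, hd⟩ := exists_prime_orderOf_dvd_card' q (hDcard.symm ▸ hqd : q ∣ Nat.card Dg)
    rw [← Subgroup.orderOf_coe] at hd
    change orderOf d = q at hd
    have hd1 : d ≠ 1 := fun e => h.edge.prime.ne_one (by rw [← hd, e, orderOf_one])
    have hdinv := hinvD d hdM hdu
    have hdodd : Odd (orderOf d) := hd.symm ▸ h.edge.odd
    -- no involution commutes with `d`
    have hCd : ∀ x, Commute d x → x ^ q = 1 := by
      intro x hx
      have h2q := h.edge.commute_q hd hx
      by_contra hxq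
      have hv : orderOf (x ^ q) = 2 := orderOf_two (by rw [← pow_mul, mul_comm]; exact h2q) hxq
      obtain ⟨g, s, hs, hs1, hgs⟩ := h.exists_point hv
      obtain ⟨hd'M, hd's⟩ := h.conj_mem_of_commute hs hs1
        (hgs ▸ hx.pow_right q : Commute d (g * s * g⁻¹))
      set d' := g⁻¹ * d * g with hd'
      have hd'o : orderOf d' = orderOf d := by
        simpa [hd', MulAut.conj_apply] using
          orderOf_injective (MulAut.conj g⁻¹).toMonoidHom (MulAut.conj g⁻¹).injective d
      have hd'1 : d' ≠ 1 := fun e => h.edge.prime.ne_one (by rw [← hd, ← hd'o, e, orderOf_one])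
      have hd'C := hreg _ hd'M s hs hs1 hd's
      set u' := g⁻¹ * u * g with hu'
      have hu'u : u' * u' = 1 := by
        calc u' * u' = g⁻¹ * (u * u) * g := by rw [hu']; group
          _ = 1 := by rw [huu]; group
      have hu'i : u'⁻¹ = u' := inv_eq_of_mul_eq_one_right hu'u
      have hu'd : u' * d' * u' = d'⁻¹ := by
        calc u' * d' * u' = g⁻¹ * (u * d * u) * g := by rw [hu', hd']; group
          _ = g⁻¹ * d⁻¹ * g := by rw [hdinv]
          _ = d'⁻¹ := by rw [hd']; group
      have hsd : Commute s d' := mem_centralizer_iff.1 hd'C s hs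
      have hss : u' * s * u'⁻¹ ∈ (S : Subgroup G) := by
        refine mem_sylow_of_sq (h.centralizer_le hd'C hd'1 (hd'o.symm ▸ hdodd)
          (mem_centralizer_singleton_iff.2 ?_)) (by rw [conj_pow, h.edge.two_group_sq S.2 s hs]; group)
        rw [hu'i]
        have hud : u' * d' = d'⁻¹ * u' := by
          calc u' * d' = u' * d' * (u' * u') := by rw [hu'u, mul_one]
            _ = (u' * d' * u') * u' := by group
            _ = _ := by rw [hu'd]
        have hdu' : u' * d'⁻¹ = d' * u' := by
          calc u' * d'⁻¹ = u' * (u' * d' * u') := by rw [hu'd]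
            _ = u' * u' * (d' * u') := by group
            _ = _ := by rw [hu'u, one_mul]
        calc u' * s * u' * d' = u' * s * (u' * d') := by group
          _ = u' * (s * d'⁻¹) * u' := by rw [hud]; group
          _ = (u' * d'⁻¹) * s * u' := by rw [hsd.inv_right.eq]; group
          _ = d' * (u' * s * u') := by rw [hdu']; group
      have hu'S : u' ∈ (S : Subgroup G) := mem_sylow_of_sq (h.mem_of_conj hs hs1 hss) (by rw [sq, hu'u])
      have hcom : u' * d' * u' = d' := by
        rw [(show u' * d' = d' * u' from mem_centralizer_iff.1 hd'C u' hu'S), mul_assoc, hu'u, mul_one]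
      rw [hcom] at hu'd
      have h4 : d' ^ 2 = 1 := by rw [sq]; nth_rewrite 2 [hu'd]; exact mul_inv_cancel _
      have := Nat.le_of_dvd two_pos (orderOf_dvd_iff_pow_eq_one.2 h4)
      rw [hd'o, hd] at this
      have := h.edge.three_le
      omega
    set O := centralizer ({d} : Set G) with hO
    have hOd : ∀ x ∈ O, Commute d x := fun x hx => (mem_centralizer_singleton_iff.1 hx).symm
    have hOodd : ∀ x ∈ O, Odd (orderOf x) := fun x hx =>
      h.edge.odd.of_dvd_nat (orderOf_dvd_iff_pow_eq_one.2 (hCd x (hOd x hx)))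
    have huO : u ∈ normalizer (O : Set G) := by
      have key : ∀ x ∈ O, u * x * u ∈ O := by
        intro x hx
        refine mem_centralizer_singleton_iff.2 ?_
        have hc := (hOd x hx).inv_left.eq
        calc u * x * u * d = u * x * (u * d * (u * u)) := by rw [huu, mul_one]; group
          _ = u * x * (u * d * u) * u := by group
          _ = u * (x * d⁻¹) * u := by rw [hdinv]; group
          _ = u * (d⁻¹ * x) * u := by rw [hc]
          _ = u * (u * d * u) * x * u := by rw [hdinv]; group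
          _ = u * u * d * (u * x * u) := by group
          _ = _ := by rw [huu, one_mul]
      refine mem_normalizer_iff.2 fun x => ⟨fun hx => hui.symm ▸ key x hx, fun hx => ?_⟩
      have h1 := key _ hx
      rwa [hui, show u * (u * x * u) * u = u * u * x * (u * u) by group, huu, one_mul, mul_one] at h1
    have hfix : ∀ c ∈ O, Commute u c → c = 1 := by
      intro c hc hcu
      by_contra hc1
      obtain ⟨g, s, hs, hs1, hgs⟩ := h.exists_point hu
      obtain ⟨hc'M, hc's⟩ := h.conj_mem_of_commute hs hs1 (hgs ▸ hcu.symm : Commute c (g * s * g⁻¹))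
      have hc'o : Odd (orderOf (g⁻¹ * c * g)) := by
        have : orderOf (g⁻¹ * c * g) = orderOf c := by
          simpa [MulAut.conj_apply] using
            orderOf_injective (MulAut.conj g⁻¹).toMonoidHom (MulAut.conj g⁻¹).injective c
        rw [this]; exact hOodd c hc
      have hdg : g⁻¹ * d * g ∈ M := by
        refine h.centralizer_le (hreg _ hc'M s hs hs1 hc's) (fun e' => hc1 ?_) hc'o
          (mem_centralizer_singleton_iff.2 ?_)
        · calc c = g * (g⁻¹ * c * g) * g⁻¹ := by group
            _ = 1 := by rw [e']; group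
        · calc g⁻¹ * d * g * (g⁻¹ * c * g) = g⁻¹ * (d * c) * g := by group
            _ = g⁻¹ * (c * d) * g := by rw [(hOd c hc).eq]
            _ = _ := by group
      exact hd1 (h.eq_one_of_inverted (g := g) hs hdg hdodd (hgs.symm ▸ hdinv))
    have hallinv := inverts_of_fixedPointFree (O := O) huu huO hfix
    -- `d` fixes some element of odd order centralizing `S`
    set W := core C with hW
    haveI : Group.IsSolvable C := by
      obtain ⟨t, ht, ht1⟩ := h.exists_ne_one
      exact h.edge.solvable_of_pow _ fun x hx => h.edge.commute_involution (h.involution ht ht1)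
        (mem_centralizer_iff.1 hx t ht)
    have hWmem : ∀ x, x ∈ W ↔ x ∈ C ∧ Odd (orderOf x) := by
      intro x
      refine ⟨fun hx => ⟨core_le _ hx, orderOf_odd_of_mem (core_odd _) hx⟩, fun hx => ?_⟩
      refine h.edge.le_core S (fun s hs => mem_centralizer_iff.2 fun r hr =>
        (h.edge.sylow_comm hr hs).eq) (zpowers_le.2 hx.1) (by rw [Nat.card_zpowers]; exact hx.2) ?_
        (mem_zpowers x)
      intro s hs
      refine Coprime.le_normalizer_of_conj_mem (A := (S : Subgroup G)) ?_ hs
      intro a ha b hb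
      obtain ⟨i, rfl⟩ := mem_zpowers_iff.1 hb
      rw [((show Commute a x from mem_centralizer_iff.1 hx.1 a ha).zpow_right i).eq,
        mul_inv_cancel_right]
      exact zpow_mem (mem_zpowers x) i
    have hdW : ∀ x, x ∈ W → d * x * d⁻¹ ∈ W := by
      intro x hx
      rw [hWmem] at hx ⊢
      refine ⟨mem_centralizer_iff.2 fun s hs => ?_, ?_⟩
      · have hs' : d⁻¹ * s * d ∈ (S : Subgroup G) := by
          have := (mem_normalizer_iff.1 (inv_mem hdM) s).1 hs
          rwa [inv_inv] at this
        have hc := mem_centralizer_iff.1 hx.1 _ hs'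
        calc s * (d * x * d⁻¹) = d * (d⁻¹ * s * d * x) * d⁻¹ := by group
          _ = d * (x * (d⁻¹ * s * d)) * d⁻¹ := by rw [hc]
          _ = _ := by group
      · rw [← MulAut.conj_apply, MulEquiv.orderOf_eq]; exact hx.2
    haveI := Fintype.ofFinite W
    let σ : Equiv.Perm W := Equiv.ofBijective (fun x => ⟨d * x.1 * d⁻¹, hdW _ x.2⟩)
      (Finite.injective_iff_bijective.1 fun x y e =>
        Subtype.ext (mul_left_cancel (mul_right_cancel (congrArg Subtype.val e))))
    have hσk : ∀ k : ℕ, ∀ x : W, (((σ ^ k) x : W) : G) = d ^ k * x * (d ^ k)⁻¹ := by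
      intro k
      induction k with
      | zero => intro x; simp
      | succ k ih =>
        intro x
        rw [pow_succ', Equiv.Perm.mul_apply]
        show d * (((σ ^ k) x : W) : G) * d⁻¹ = _
        rw [ih, pow_succ']
        group
    have hσ : σ ^ q ^ 1 = 1 := by
      rw [pow_one]
      refine Equiv.ext fun x => Subtype.ext ?_
      have hdq : d ^ q = 1 := by rw [← hd]; exact pow_orderOf_eq_one d
      rw [hσk, hdq]; simp
    have hqW : q ∣ Fintype.card W := by
      rw [← Nat.card_eq_fintype_card]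
      have ho : orderOf w = q := by
        obtain ⟨t, ht, ht1⟩ := h.exists_ne_one
        exact orderOf_eq_prime (h.edge.odd_commute (h.involution ht ht1)
          (mem_centralizer_iff.1 hwC t ht) hwodd) hw1
      rw [← ho, ← Subgroup.orderOf_mk w ((hWmem w).2 ⟨hwC, hwodd⟩)]
      exact orderOf_dvd_natCard _
    obtain ⟨⟨b, hbW⟩, hb, hb1⟩ := Equiv.Perm.exists_fixed_point_of_prime' hqW hσ (a := 1)
      (Subtype.ext (by simp [σ]))
    have hbd : b ∈ O := mem_centralizer_singleton_iff.2
      (mul_inv_eq_iff_eq_mul.1 (congrArg Subtype.val hb : d * b * d⁻¹ = b)).symm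
    have hbinv := hallinv b hbd
    rw [hui] at hbinv
    have hbC := ((hWmem b).1 hbW)
    exact hb1 (Subtype.ext (h.eq_one_of_centralize hu huM hbC.1 (hbinv.symm ▸ inv_mem hbC.1) hbC.2))
  -- centralizers of elements of `C(S)`
  have hCC : ∀ f ∈ C, f ≠ 1 → centralizer ({f} : Set G) ≤ C := by
    intro f hf hf1
    obtain ⟨t, ht, ht1⟩ := h.exists_ne_one
    have hf2q := h.edge.commute_involution (h.involution ht ht1) (mem_centralizer_iff.1 hf t ht)
    -- a power of prime order
    obtain ⟨y, hyC, hy1, hcy, hy⟩ : ∃ y ∈ C, y ≠ 1 ∧ (∀ x, Commute f x → Commute y x) ∧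
        (orderOf y = 2 ∨ orderOf y = q) := by
      by_cases hfq : f ^ q = 1
      · exact ⟨f, hf, hf1, fun x hx => hx, Or.inr (orderOf_eq_prime hfq hf1)⟩
      · exact ⟨f ^ q, pow_mem hf q, hfq, fun x hx => hx.pow_left q,
          Or.inl (orderOf_two (by rw [← pow_mul, mul_comm]; exact hf2q) hfq)⟩
    intro x hx
    have hxy : Commute y x := hcy x (mem_centralizer_singleton_iff.1 hx).symm
    have hxM : x ∈ M := by
      rcases hy with hy | hy
      · exact h.cent y (mem_sylow_of_sq (h.centralizer_sylow_le hyC) (by rw [← hy]; exact pow_orderOf_eq_one y))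
          hy1 (mem_centralizer_singleton_iff.2 hxy.eq.symm)
      · exact h.centralizer_le hyC hy1 (hy.symm ▸ h.edge.odd) (mem_centralizer_singleton_iff.2 hxy.eq.symm)
    by_contra hxC
    haveI : ((C).subgroupOf M).Normal := by
      rw [← normalizerMonoidHom_ker]; infer_instance
    set π := QuotientGroup.mk' ((C).subgroupOf M)
    have hne : orderOf (π ⟨x, hxM⟩) ≠ 1 := fun e =>
      hxC ((QuotientGroup.eq_one_iff _).1 (orderOf_eq_one_iff.1 e) : _)
    have hdvd : orderOf (π ⟨x, hxM⟩) ∣ mm S := by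
      rw [← h.index_centralizer hreg, Subgroup.index_eq_card]; exact orderOf_dvd_natCard _
    obtain ⟨r, hr, hrd⟩ := Nat.exists_prime_and_dvd hne
    have hr2 : r ≠ 2 := by
      rintro rfl
      haveI : Fact (Nat.Prime 2) := ⟨Nat.prime_two⟩
      obtain ⟨n, hn⟩ := S.2.exists_card_eq
      have h1 := h.mm_succ
      have h2 := hrd.trans hdvd
      have h3 : n ≠ 0 := by rintro rfl; have := h.four; rw [hn] at this; omega
      have : 2 ∣ mm S + 1 := by rw [h1, hn]; exact dvd_pow_self 2 h3
      omega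
    have hrq : r ≠ q := fun e => hqm (e ▸ hrd.trans hdvd)
    have hrx : r ∣ orderOf x := by
      refine hrd.trans ?_
      rw [← Subgroup.orderOf_mk x hxM]
      exact orderOf_map_dvd π _
    set z := x ^ (orderOf x / r) with hz
    have hzo : orderOf z = r := orderOf_pow_orderOf_div (orderOf_pos x).ne' hrx
    have : z = 1 := h.edge.eq_one_of_commute hy (hxy.pow_right _ : Commute y z) (by
      rw [hzo, Nat.coprime_mul_iff_right]
      exact ⟨(Nat.coprime_primes hr Nat.prime_two).2 hr2,
        (Nat.coprime_primes hr h.edge.prime).2 hrq⟩)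
    rw [this, orderOf_one] at hzo
    exact hr.ne_one hzo.symm
  refine ⟨⟨w, hwC, hw1, hwodd⟩, hCC, ?_, h.index_centralizer hreg, ?_⟩
  · intro g f hf hf1 hgf
    have hgodd : ∀ {y : G}, orderOf (g * y * g⁻¹) = orderOf y := fun {y} => by
      rw [← MulAut.conj_apply, MulEquiv.orderOf_eq]
    obtain ⟨t, ht, ht1⟩ := h.exists_ne_one
    have hf2q := h.edge.commute_involution (h.involution ht ht1) (mem_centralizer_iff.1 hf t ht)
    by_cases hfq : f ^ q = 1
    · refine h.mem_of_conj ht ht1 (mem_sylow_of_sq ?_ ?_)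
      · refine h.centralizer_le hgf (fun e => hf1 (conj_eq_one_iff.1 e))
          (hgodd.symm ▸ h.edge.odd.of_dvd_nat (orderOf_dvd_iff_pow_eq_one.2 hfq))
          (mem_centralizer_singleton_iff.2 ?_)
        calc g * t * g⁻¹ * (g * f * g⁻¹) = g * (t * f) * g⁻¹ := by group
          _ = g * (f * t) * g⁻¹ := by rw [mem_centralizer_iff.1 hf t ht]
          _ = _ := by group
      · rw [conj_pow, h.edge.two_group_sq S.2 t ht]; group
    · have hsq : (f ^ q) ^ 2 = 1 := by rw [← pow_mul, mul_comm]; exact hf2q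
      refine h.mem_of_conj (mem_sylow_of_sq (h.centralizer_sylow_le (pow_mem hf q)) hsq) hfq
        (mem_sylow_of_sq ?_ ?_)
      · rw [← conj_pow]; exact h.centralizer_sylow_le (pow_mem hgf q)
      · rw [conj_pow, hsq]; group
  · classical
    haveI := Fintype.ofFinite C
    rw [Subgroup.index_eq_card, Nat.card_eq_fintype_card (α := C), ← Fintype.card_option,
      ← Nat.card_eq_fintype_card]
    refine Nat.card_le_card_of_injective
      (fun o : Option C => (o.elim (QuotientGroup.mk 1)
        fun f => QuotientGroup.mk ((f : G) * u) : G ⧸ M)) ?_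
    rintro (_ | f) (_ | f') e
    · rfl
    · exfalso; apply huM
      have := QuotientGroup.eq.1 e
      rw [inv_one, one_mul] at this
      simpa using mul_mem (inv_mem (h.centralizer_sylow_le f'.2)) this
    · exfalso; apply huM
      have := QuotientGroup.eq.1 e.symm
      rw [inv_one, one_mul] at this
      simpa using mul_mem (inv_mem (h.centralizer_sylow_le f.2)) this
    · have h1 := QuotientGroup.eq.1 e
      rw [mul_inv_rev, hui] at h1
      have h2 := h.eq_one_of_mem hreg hu huM (mul_mem (inv_mem f.2) f'.2)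
        (by simpa [mul_assoc] using h1)
      exact congrArg some (Subtype.ext (inv_mul_eq_one.1 h2))

end SE

end Cfsg.Agent.Three68
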